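import Mathlib
import Cfsg.Agent.Lib.Fusion.NormalRankTwo

/-!
# A `p`-group with point stabilisers of constant order on an elementary abelian group
-/

set_option autoImplicit false
set_option linter.style.haveILetI false

namespace CfsgLib.RankOne.ConstStab

variable {P E : Type*} [Group P] [Finite P] [AddCommGroup E] [Finite E] [DistribMulAction P E]
  {p q : ℕ}

theorem eq_zero_of_nsmul (hp : p.Prime) (hq : q.Prime) (hpq : p ≠ q) (hE : ∀ e : E, q • e = 0) {w : E}
    (h : p • w = 0) : w = 0 := by
  have h1 := Nat.dvd_gcd (addOrderOf_dvd_of_nsmul_eq_zero h) (addOrderOf_dvd_of_nsmul_eq_zero (hE w))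
  rw [(Nat.coprime_primes hp hq).mpr hpq] at h1
  exact AddMonoid.addOrderOf_eq_one_iff.mp (Nat.dvd_one.mp h1)

/-- The trace of the cyclic group generated by `x`. -/
def trace (p : ℕ) (x : P) (w : E) : E := ∑ k ∈ Finset.range p, x ^ k • w

omit [Finite P] [Finite E] in
theorem trace_fixed {x : P} (hx : x ^ p = 1) (w : E) : x • trace p x w = trace p x w := by
  have h1 := Finset.sum_range_succ (fun k => x ^ k • w) p
  have h2 := Finset.sum_range_succ' (fun k => x ^ k • w) p
  rw [h2, hx, pow_zero] at h1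
  unfold trace
  rw [Finset.smul_sum]
  refine (Finset.sum_congr rfl fun k _ => ?_).trans (add_right_cancel h1)
  rw [smul_smul, ← pow_succ']

omit [Finite P] [Finite E] in
theorem trace_add (x : P) (v w : E) : trace p x (v + w) = trace p x v + trace p x w := by
  simp [trace, smul_add, Finset.sum_add_distrib]

omit [Finite P] [Finite E] in
theorem trace_of_fixed {x : P} {v : E} (h : x • v = v) : trace p x v = p • v := by
  have : ∀ k : ℕ, x ^ k • v = v := fun k => by
    induction k with
    | zero => rw [pow_zero, one_smul]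
    | succ k ih => rw [pow_succ, mul_smul, h, ih]
  simp [trace, this]

omit [Finite P] [Finite E] in
/-- If `v` is fixed by `y` and `m` is fixed point free then the trace of `y m` kills `v`. -/
theorem trace_eq_zero {y m : P} {v : E} (h : y • v = v) (hc : Commute y m) (hm : m ^ p = 1)
    (hfpf : ∀ e : E, m • e = e → e = 0) : trace p (y * m) v = 0 := by
  have h1 : trace p (y * m) v = trace p m v := by
    refine Finset.sum_congr rfl fun k _ => ?_
    have h2 : ∀ j : ℕ, y ^ j • v = v := fun j => by
      induction j with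
      | zero => rw [pow_zero, one_smul]
      | succ j ih => rw [pow_succ, mul_smul, h, ih]
    rw [hc.mul_pow, (hc.pow_pow k k).eq, mul_smul, h2]
  rw [h1]
  exact hfpf _ (trace_fixed hm v)

variable [FaithfulSMul P E] [Fact p.Prime]

theorem central_fpf (hq : q.Prime) (hpq : p ≠ q) (hE : ∀ e : E, q • e = 0)
    (hconst : ∀ a b : E, a ≠ 0 → b ≠ 0 →
      Nat.card (MulAction.stabilizer P a) = Nat.card (MulAction.stabilizer P b))
    {z : P} (hz : z ∈ Subgroup.center P) (hzp : z ^ p = 1) (hz1 : z ≠ 1) {a : E} (ha : z • a = a) :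
    a = 0 := by
  by_contra ha0
  obtain ⟨w, hw⟩ : ∃ w : E, z • w ≠ w := by
    by_contra h
    push Not at h
    exact hz1 (eq_of_smul_eq_smul (α := E) fun e => by rw [h e, one_smul])
  set b := z • w - w with hb
  have hb0 : b ≠ 0 := sub_ne_zero.mpr hw
  have hzero : ∀ y : E, trace p z (z • y - y) = 0 := fun y => by
    have h1 : trace p z (z • y - y) = z • trace p z y - trace p z y := by
      simp [trace, smul_sub, Finset.smul_sum, smul_smul, (Commute.self_pow z _).eq]
    rw [h1, trace_fixed hzp, sub_self]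
  have hab : a + b ≠ 0 := fun h => ha0 (eq_zero_of_nsmul Fact.out hq hpq hE (by
    have h2 := trace_add (p := p) z a b
    rw [h, trace_of_fixed ha, hb, hzero, add_zero] at h2
    simpa [trace] using h2.symm))
  have hle : ∀ h ∈ MulAction.stabilizer P (a + b), h • a = a ∧ h • b = b := by
    intro h hh
    have hc := Subgroup.mem_center_iff.mp hz h
    have h1 : h • a + h • b = a + b := by rw [← smul_add]; exact hh
    have h2 : z • h • a = h • a := by rw [smul_smul, ← hc, mul_smul, ha]
    have h3 : trace p z (h • b) = 0 := by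
      rw [hb, smul_sub, smul_smul, hc, mul_smul]; exact hzero _
    have h4 := congrArg (trace p z) h1
    rw [trace_add, trace_add, h3, hb, hzero, trace_of_fixed h2, trace_of_fixed ha, add_zero,
      add_zero] at h4
    have h5 : h • a = a := sub_eq_zero.mp (eq_zero_of_nsmul Fact.out hq hpq hE (by rw [smul_sub, h4, sub_self]))
    exact ⟨h5, by rw [h5] at h1; exact add_left_cancel h1⟩
  have heq : MulAction.stabilizer P (a + b) = MulAction.stabilizer P a :=
    Subgroup.eq_of_le_of_card_ge (fun h hh => (hle h hh).1) (hconst a (a + b) ha0 hab).le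
  exact hw (sub_eq_zero.mp (eq_zero_of_nsmul Fact.out hq hpq hE (by
    rw [← trace_of_fixed (p := p) (hle z (heq ▸ ha)).2]; exact hzero w)))

theorem isCyclic (hp2 : p ≠ 2) (hP : IsPGroup p P) (hq : q.Prime) (hpq : p ≠ q)
    (hE : ∀ e : E, q • e = 0)
    (hconst : ∀ a b : E, a ≠ 0 → b ≠ 0 →
      Nat.card (MulAction.stabilizer P a) = Nat.card (MulAction.stabilizer P b)) : IsCyclic P := by
  have hpp : p.Prime := Fact.out
  by_contra hnc
  obtain ⟨A, -, hAn, hAel, hAc⟩ := CfsgLib.Fusion.NormalRankTwo.exists_normal_rankTwo hP hp2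
    (S := (⊤ : Subgroup P)) (fun h => hnc (Subgroup.topEquiv.isCyclic.mp h))
  haveI := hAn
  haveI := hAel.1
  -- a central element of `A`
  haveI : Nontrivial P := by
    by_contra h
    rw [not_nontrivial_iff_subsingleton] at h
    exact hnc inferInstance
  have hA1 : A ≠ ⊥ := fun h => by
    rw [h, Subgroup.card_bot] at hAc
    exact absurd hAc.symm (Nat.one_lt_pow two_ne_zero hpp.one_lt).ne'
  haveI : Group.IsNilpotent P := hP.isNilpotent
  obtain ⟨z, ⟨hzA, hzC⟩, hz1⟩ : ∃ z ∈ A ⊓ Subgroup.center P, z ≠ (1 : P) := by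
    by_contra h
    push Not at h
    exact CfsgLib.Solvable.FrattiniFitting.inf_center_ne_bot A hA1 ((Subgroup.eq_bot_iff_forall _).mpr h)
  have hzp : z ^ p = 1 := hAel.2 z hzA
  have hzord : orderOf z = p := orderOf_eq_prime hzp hz1
  let Z := Subgroup.zpowers z
  haveI : Z.Normal := ⟨fun m hm g => by
    rw [Subgroup.mem_center_iff.mp (Subgroup.zpowers_le.mpr hzC hm) g, mul_inv_cancel_right]; exact hm⟩
  have hfpf : ∀ m ∈ Z, m ≠ 1 → ∀ e : E, m • e = e → e = 0 := fun m hm hm1 e he =>
    central_fpf (p := p) hq hpq hE hconst (Subgroup.zpowers_le.mpr hzC hm)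
      (hAel.2 m (Subgroup.zpowers_le.mpr hzA hm)) hm1 he
  obtain ⟨u, hu, huZ⟩ : ∃ u ∈ A, u ∉ Z := by
    by_contra h
    push Not at h
    have := Subgroup.card_le_of_le (h : A ≤ Z)
    rw [hAc, Nat.card_zpowers, hzord] at this
    nlinarith [hpp.two_le]
  have hcomm : ∀ x ∈ A, ∀ y ∈ A, Commute x y := fun x hx y hy =>
    congrArg Subtype.val (IsMulCommutative.is_comm.comm (⟨x, hx⟩ : A) ⟨y, hy⟩)
  -- conjugation moves `A` only inside cosets of `Z`
  have hconj : ∀ x ∈ A, ∀ g : P, x⁻¹ * (g * x * g⁻¹) ∈ Z := by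
    intro x hx g
    by_cases hxZ : x ∈ Z
    · exact mul_mem (inv_mem hxZ) (Subgroup.Normal.conj_mem inferInstance x hxZ g)
    let M := A.map (QuotientGroup.mk' Z)
    haveI : M.Normal := Subgroup.Normal.map hAn _ (QuotientGroup.mk'_surjective Z)
    have hM : Nat.card M = p := by
      have h1 := Subgroup.card_mul_index (Z.subgroupOf A)
      have e : Nat.card (Z.subgroupOf A) = p := by
        rw [Nat.card_congr (Subgroup.subgroupOfEquivOfLe (Subgroup.zpowers_le.mpr hzA)).toEquiv,
          Nat.card_zpowers, hzord]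
      rw [e, hAc, pow_two] at h1
      have h2 : (Z.subgroupOf A).index = p := Nat.eq_of_mul_eq_mul_left hpp.pos h1
      rw [← h2, ← Subgroup.relIndex, Subgroup.relIndex]
      have h3 := Subgroup.index_ker ((QuotientGroup.mk' Z).comp A.subtype)
      rw [MonoidHom.range_comp, Subgroup.range_subtype] at h3
      rw [← h3, ← MonoidHom.comap_ker, QuotientGroup.ker_mk']; rfl
    haveI : Group.IsNilpotent (P ⧸ Z) := inferInstance
    have hle : M ≤ Subgroup.center (P ⧸ Z) := by
      have h1 : M ⊓ Subgroup.center (P ⧸ Z) ≠ ⊥ :=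
        CfsgLib.Solvable.FrattiniFitting.inf_center_ne_bot M fun e => by
          rw [e, Subgroup.card_bot] at hM
          exact hpp.ne_one hM.symm
      have h2 : M ⊓ Subgroup.center (P ⧸ Z) = M := Subgroup.eq_of_le_of_card_ge inf_le_left (by
        have hd := Subgroup.card_dvd_of_le (inf_le_left : M ⊓ Subgroup.center (P ⧸ Z) ≤ M)
        rw [hM] at hd ⊢
        rcases (Nat.dvd_prime hpp).mp hd with h3 | h3
        · exact absurd (Subgroup.card_eq_one.mp h3) h1
        · exact h3.ge)
      exact inf_eq_left.mp h2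
    have h3 := Subgroup.mem_center_iff.mp (hle ⟨x, hx, rfl⟩) (g : P ⧸ Z)
    simp only [QuotientGroup.mk'_apply] at h3
    refine QuotientGroup.eq.mp ?_
    rw [QuotientGroup.mk_mul, QuotientGroup.mk_mul, QuotientGroup.mk_inv, h3, mul_inv_cancel_right]
  -- some element outside `Z` fixes a non-zero vector
  obtain ⟨w, hw⟩ : ∃ w : E, w ≠ 0 := by
    obtain ⟨x, hx⟩ := exists_ne (1 : P)
    by_contra h
    push Not at h
    exact hx (eq_of_smul_eq_smul (α := E) fun e => by rw [h e, smul_zero, smul_zero])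
  have hsum : ∑ i ∈ Finset.range p, trace p (u * z ^ i) w = p • w := by
    unfold trace
    rw [Finset.sum_comm, Finset.sum_eq_single 0]
    · simp
    · intro k hk hk0
      have h1 : ∀ i : ℕ, (u * z ^ i) ^ k • w = (z ^ k) ^ i • u ^ k • w := fun i => by
        rw [(hcomm u hu _ (pow_mem hzA i)).mul_pow, ← pow_mul, mul_comm i k, pow_mul,
          (hcomm _ (pow_mem hu k) _ (pow_mem (pow_mem hzA k) i)).eq, mul_smul]
      simp only [h1]
      refine hfpf (z ^ k) (pow_mem (Subgroup.mem_zpowers z) k)
        (pow_ne_one_of_lt_orderOf hk0 (by rw [hzord]; exact Finset.mem_range.mp hk)) _ ?_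
      exact trace_fixed (by rw [← pow_mul, mul_comm, pow_mul, hzp, one_pow]) _
    · intro h
      exact absurd (Finset.mem_range.mpr hpp.pos) h
  obtain ⟨i, -, hi⟩ : ∃ i ∈ Finset.range p, trace p (u * z ^ i) w ≠ 0 := by
    refine Finset.exists_ne_zero_of_sum_ne_zero ?_
    rw [hsum]
    exact fun h => hw (eq_zero_of_nsmul hpp hq hpq hE h)
  set v := u * z ^ i with hv
  have hvA : v ∈ A := mul_mem hu (pow_mem hzA i)
  have hv1 : v ≠ 1 := fun h => huZ (by
    rw [eq_inv_of_mul_eq_one_left h]; exact inv_mem (pow_mem (Subgroup.mem_zpowers z) i))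
  set a := trace p v w with hadef
  have ha : v • a = a := trace_fixed (hAel.2 v hvA) w
  -- it is not central
  obtain ⟨g, hg⟩ : ∃ g : P, g * v * g⁻¹ ≠ v := by
    by_contra h
    push Not at h
    exact hi (central_fpf (p := p) hq hpq hE hconst
      (Subgroup.mem_center_iff.mpr fun g => mul_inv_eq_iff_eq_mul.mp (h g)) (hAel.2 v hvA) hv1 ha)
  set r := v⁻¹ * (g * v * g⁻¹) with hr
  have hrZ : r ∈ Z := hconj v hvA g
  have hr1 : r ≠ 1 := fun h => hg (inv_mul_eq_one.mp h).symm
  have hvr : v * r = g * v * g⁻¹ := mul_inv_cancel_left _ _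
  set b := g • a with hbdef
  have hb : (v * r) • b = b := by rw [hvr, hbdef, mul_smul, mul_smul, inv_smul_smul, ha]
  have hb0 : b ≠ 0 := fun h => hi (by rw [← inv_smul_smul g a, ← hbdef, h, smul_zero])
  have hZp : ∀ m ∈ Z, m ^ p = 1 := fun m hm => hAel.2 m (Subgroup.zpowers_le.mpr hzA hm)
  -- traces of vectors fixed by elements of the coset `v Z`
  have htr : ∀ (e : E) (m n : P), m ∈ Z → n ∈ Z → (v * m) • e = e → m ≠ n →
      trace p (v * n) e = 0 := by
    intro e m n hm hn he hmn
    have h1 : v * n = v * m * (m⁻¹ * n) := by group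
    rw [h1]
    have hmn' : m⁻¹ * n ∈ Z := mul_mem (inv_mem hm) hn
    exact trace_eq_zero he
      (hcomm _ (mul_mem hvA (Subgroup.zpowers_le.mpr hzA hm)) _ (Subgroup.zpowers_le.mpr hzA hmn'))
      (hZp _ hmn') (hfpf _ hmn' fun h => hmn (inv_mul_eq_one.mp h))
  have ha' : (v * 1) • a = a := by rw [mul_one, ha]
  have hab : a + b ≠ 0 := fun h => hi (eq_zero_of_nsmul hpp hq hpq hE (by
    have h2 := trace_add (p := p) (v * 1) a b
    rw [h, trace_of_fixed ha', htr b r 1 hrZ (one_mem _) hb hr1, add_zero] at h2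
    simpa [trace] using h2.symm))
  have hle : ∀ h ∈ MulAction.stabilizer P (a + b), h • a = a ∧ h • b = b := by
    intro h hh
    have h1 : h • a + h • b = a + b := by rw [← smul_add]; exact hh
    set s := v⁻¹ * (h * v * h⁻¹) with hs
    have hsZ : s ∈ Z := hconj v hvA h
    have hvs : v * s = h * v * h⁻¹ := mul_inv_cancel_left _ _
    have hha : (v * s) • h • a = h • a := by rw [hvs, mul_smul, mul_smul, inv_smul_smul, ha]
    have hhb : (v * (s * r)) • h • b = h • b := by
      have hrc : h * r = r * h := Subgroup.mem_center_iff.mp (Subgroup.zpowers_le.mpr hzC hrZ) h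
      rw [← mul_assoc, hvs, mul_assoc (h * v), show h⁻¹ * r = r * h⁻¹ by
        rw [inv_mul_eq_iff_eq_mul, ← mul_assoc, hrc, mul_inv_cancel_right]]
      rw [← mul_assoc, mul_smul, inv_smul_smul, mul_assoc, mul_smul, hb]
    have hL := congrArg (trace p (v * 1)) h1
    rw [trace_add, trace_add, trace_of_fixed ha', htr b r 1 hrZ (one_mem _) hb hr1, add_zero] at hL
    have hR := congrArg (trace p (v * r)) h1
    rw [trace_add, trace_add, trace_of_fixed hb, htr a 1 r (one_mem _) hrZ ha' hr1.symm, zero_add] at hR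
    by_cases hs1 : s = 1
    · rw [hs1] at hha hhb
      rw [trace_of_fixed hha, htr _ _ 1 (mul_mem (one_mem _) hrZ) (one_mem _) hhb (by rwa [one_mul]),
        add_zero] at hL
      have h5 : h • a = a := sub_eq_zero.mp (eq_zero_of_nsmul hpp hq hpq hE (by rw [smul_sub, hL, sub_self]))
      exact ⟨h5, by rw [h5] at h1; exact add_left_cancel h1⟩
    · exfalso
      rw [htr _ s 1 hsZ (one_mem _) hha hs1, zero_add] at hL
      by_cases hsr : s * r = 1
      · have hsr' : s ≠ r := fun e => hr1 (by
          rw [e] at hsr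
          have h2 : orderOf r ∣ 2 := orderOf_dvd_of_pow_eq_one (by rw [pow_two]; exact hsr)
          have h3 := Nat.dvd_gcd h2 (orderOf_dvd_of_pow_eq_one (hZp r hrZ))
          rw [(Nat.coprime_primes Nat.prime_two hpp).mpr (Ne.symm hp2)] at h3
          exact orderOf_eq_one_iff.mp (Nat.dvd_one.mp h3))
        rw [htr _ s r hsZ hrZ hha hsr', htr _ (s * r) r (mul_mem hsZ hrZ) hrZ hhb
          (fun e => hs1 (mul_eq_right.mp e)), add_zero] at hR
        exact hb0 (eq_zero_of_nsmul hpp hq hpq hE hR.symm)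
      · rw [htr _ (s * r) 1 (mul_mem hsZ hrZ) (one_mem _) hhb hsr] at hL
        exact hi (eq_zero_of_nsmul hpp hq hpq hE hL.symm)
  have heq : MulAction.stabilizer P (a + b) = MulAction.stabilizer P a :=
    Subgroup.eq_of_le_of_card_ge (fun h hh => (hle h hh).1) (hconst a (a + b) hi hab).le
  have hvb : v • b = b := (hle v (heq ▸ ha)).2
  have hrb : r • b = b := by
    have h1 := hb
    rwa [show v * r = r * v from Subgroup.mem_center_iff.mp (Subgroup.zpowers_le.mpr hzC hrZ) v,
      mul_smul, hvb] at h1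
  exact hb0 (hfpf r hrZ hr1 b hrb)

theorem main (hp2 : p ≠ 2) (hP : IsPGroup p P) (hq : q.Prime) (hE : ∀ e : E, q • e = 0)
    (hconst : ∀ a b : E, a ≠ 0 → b ≠ 0 →
      Nat.card (MulAction.stabilizer P a) = Nat.card (MulAction.stabilizer P b)) :
    IsCyclic P ∧ ∀ g : P, g ≠ 1 → ∀ a : E, g • a = a → a = 0 := by
  by_cases hpq : p = q
  · subst hpq
    rcases subsingleton_or_nontrivial E with hsub | hnt
    · refine ⟨?_, fun g _ a _ => Subsingleton.elim _ _⟩
      haveI : Subsingleton P := ⟨fun x y => eq_of_smul_eq_smul (α := E) fun e => Subsingleton.elim _ _⟩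
      infer_instance
    · haveI := hnt
      obtain ⟨e, he⟩ := exists_ne (0 : E)
      have hd : p ∣ Nat.card E := by
        have h := addOrderOf_dvd_natCard (x := e)
        rwa [addOrderOf_eq_prime (hE e) he] at h
      have h0 : (0 : E) ∈ MulAction.fixedPoints P E := fun g => smul_zero g
      obtain ⟨b, hb, hb0⟩ := hP.exists_fixed_point_of_prime_dvd_card_of_fixed_point E hd h0
      have htop : ∀ a : E, ∀ g : P, g • a = a := by
        intro a g
        by_cases ha : a = 0
        · rw [ha, smul_zero]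
        · have h1 : MulAction.stabilizer P b = ⊤ := (Subgroup.eq_top_iff' _).mpr hb
          have h2 := hconst a b ha hb0.symm
          rw [h1, Subgroup.card_top] at h2
          exact (Subgroup.eq_top_iff' _).mp (Subgroup.eq_top_of_card_eq _ h2) g
      haveI : Subsingleton P := ⟨fun x y => eq_of_smul_eq_smul (α := E) fun e => by rw [htop e x, htop e y]⟩
      exact ⟨inferInstance, fun g hg => absurd (Subsingleton.elim g 1) hg⟩
  · have hc := isCyclic hp2 hP hq hpq hE hconst
    refine ⟨hc, fun g hg a ha => ?_⟩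
    obtain ⟨k, hk⟩ := hP.exists_orderOf_eq_pow g (p := p)
    cases k with
    | zero => exact absurd (orderOf_eq_one_iff.mp (by simpa using hk)) hg
    | succ k =>
      refine central_fpf (p := p) hq hpq hE hconst (z := g ^ p ^ k) ?_ ?_ ?_ ?_
      · haveI := hc
        letI := IsCyclic.commGroup (α := P)
        exact Subgroup.mem_center_iff.mpr fun x => mul_comm x _
      · rw [← pow_mul, ← pow_succ, ← hk]; exact pow_orderOf_eq_one g
      · exact pow_ne_one_of_lt_orderOf (pow_ne_zero _ (Fact.out : p.Prime).ne_zero)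
          (by rw [hk]; exact Nat.pow_lt_pow_succ (Fact.out : p.Prime).one_lt)
      · exact MulAction.mem_stabilizer_iff.mp (pow_mem (show g ∈ MulAction.stabilizer P a from ha) _)

end CfsgLib.RankOne.ConstStab
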