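import Mathlib
import Cfsg.Prelude.Def_LieRecognition

/-!
# Doubly transitive groups whose point stabiliser splits over an odd two-point stabiliser

Regularity of `Q`, the fixed point of an involution, and the canonical form.
-/

set_option autoImplicit false

open Cfsg

namespace CfsgLib.RankOne

open MulAction

/-- An element of odd order whose square is the given one. -/
theorem sq_root_of_odd {G : Type*} [Group G] {n : ℕ} (hn : Odd n) {x : G} (hx : x ^ n = 1) :
    (x ^ ((n + 1) / 2)) * (x ^ ((n + 1) / 2)) = x := by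
  obtain ⟨m, rfl⟩ := hn
  rw [show (2 * m + 1 + 1) / 2 = m + 1 by omega, ← pow_add,
    show m + 1 + (m + 1) = 2 * m + 1 + 1 by ring, pow_succ, hx, one_mul]

/-- Square roots are unique among elements killed by an odd number. -/
theorem sq_inj_of_odd {G : Type*} [Group G] {n : ℕ} (hn : Odd n) {x y : G} (hx : x ^ n = 1)
    (hy : y ^ n = 1) (h : x * x = y * y) : x = y := by
  obtain ⟨m, rfl⟩ := hn
  have key : ∀ z : G, z ^ (2 * m + 1) = 1 → (z * z) ^ (m + 1) = z := fun z hz => by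
    rw [← pow_two, ← pow_mul, show 2 * (m + 1) = 2 * m + 1 + 1 by ring, pow_succ, hz, one_mul]
  rw [← key x hx, h, key y hy]

/-- In a group generated by two involutions whose product has odd order they are conjugate. -/
theorem isConj_of_odd_mul {G : Type*} [Group G] {s w : G} (hs : s * s = 1) (hww : w * w = 1)
    (hodd : Odd (orderOf (s * w))) : ∃ g ∈ Subgroup.closure ({s, w} : Set G), g * s * g⁻¹ = w := by
  obtain ⟨m, hm⟩ := hodd
  refine ⟨(s * w) ^ m, pow_mem (mul_mem (Subgroup.subset_closure (by simp))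
    (Subgroup.subset_closure (by simp))) m, ?_⟩
  have hx : (s * w) ^ (2 * m + 1) = 1 := hm ▸ pow_orderOf_eq_one (s * w)
  have hsi : s⁻¹ = s := inv_eq_of_mul_eq_one_right hs
  have hwi : w⁻¹ = w := inv_eq_of_mul_eq_one_right hww
  have hconj : s * ((s * w) ^ m)⁻¹ * s = (s * w) ^ m := by
    rw [← inv_pow]
    have : s * (s * w)⁻¹ * s⁻¹ = s * w := by
      rw [mul_inv_rev, hwi, hsi, ← mul_assoc, mul_assoc (s * w), hs, mul_one]
    calc s * ((s * w)⁻¹) ^ m * s = (s * (s * w)⁻¹ * s⁻¹) ^ m := by rw [conj_pow, hsi]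
      _ = _ := by rw [this]
  calc (s * w) ^ m * s * ((s * w) ^ m)⁻¹
      = (s * w) ^ m * (s * ((s * w) ^ m)⁻¹ * s) * s := by
        simp only [mul_assoc, hs, mul_one]
    _ = (s * w) ^ (2 * m) * s := by rw [hconj, ← pow_add, two_mul]
    _ = (s * w)⁻¹ * s := by
        rw [eq_inv_of_mul_eq_one_left (a := (s * w) ^ (2 * m)) (by rw [← pow_succ]; exact hx)]
    _ = w := by rw [mul_inv_rev, hwi, hsi, mul_assoc, hs, mul_one]

variable {G Ω : Type*} [Group G] [MulAction G Ω] {a : Ω} {t : G} {Q : Subgroup G}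
  (hS : IsRankOneSetup G Ω a t Q)

/-- The two-point stabiliser. -/
abbrev two (G : Type*) [Group G] {Ω : Type*} [MulAction G Ω] (a : Ω) (t : G) : Subgroup G :=
  stabilizer G a ⊓ stabilizer G (t • a)

include hS

theorem t_inv : t⁻¹ = t := inv_eq_of_mul_eq_one_right hS.mul_self

theorem ta_ne : t • a ≠ a := fun h => hS.not_mem h

theorem tt_smul (b : Ω) : t • t • b = b := by rw [smul_smul, hS.mul_self, one_smul]

theorem mem_two {d : G} : d ∈ two G a t ↔ d • a = a ∧ d • t • a = t • a :=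
  Subgroup.mem_inf.trans Iff.rfl

theorem conj_t_mem {d : G} (hd : d ∈ two G a t) : t * d * t⁻¹ ∈ two G a t := by
  rw [mem_two hS] at hd ⊢
  rw [t_inv hS, mul_smul, mul_smul, mul_smul, mul_smul, tt_smul hS, hd.1, hd.2, tt_smul hS]
  exact ⟨rfl, rfl⟩

theorem conj_t_mem' {d : G} (hd : d ∈ two G a t) : t * d * t ∈ two G a t := by
  have := conj_t_mem hS hd
  rwa [t_inv hS] at this

theorem two_le : two G a t ≤ stabilizer G a := inf_le_left

theorem conj_mem' {h : G} (hh : h ∈ stabilizer G a) {x : G} (hx : x ∈ Q) : h⁻¹ * x * h ∈ Q := by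
  simpa using hS.conj_mem h⁻¹ (inv_mem hh) x hx

theorem eq_one_of_fix_ta {q : G} (hq : q ∈ Q) (h : q • t • a = t • a) : q = 1 := by
  rw [← Subgroup.mem_bot, ← hS.inf_eq_bot]
  exact ⟨hq, h⟩

theorem mem_two_of_inf {q : G} (hq : q ∈ Q) (hd : q ∈ two G a t) : q = 1 :=
  eq_one_of_fix_ta hS hq ((mem_two hS).mp hd).2

theorem two_le_normalizer : two G a t ≤ Subgroup.normalizer (Q : Set G) := fun d hd =>
  Subgroup.mem_normalizer_iff.mpr fun x => ⟨fun hx => hS.conj_mem d hd.1 x hx, fun hx => by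
    have := conj_mem' hS hd.1 hx
    simpa [mul_assoc] using this⟩

theorem exists_qd {g : G} (hg : g ∈ stabilizer G a) : ∃ q ∈ Q, ∃ d ∈ two G a t, g = q * d := by
  rw [← hS.sup_eq, ← SetLike.mem_coe, Subgroup.coe_mul_of_right_le_normalizer_left _ _ (two_le_normalizer hS)] at hg
  obtain ⟨q, hq, d, hd, rfl⟩ := hg
  exact ⟨q, hq, d, hd, rfl⟩

theorem qd_inj {q q' d d' : G} (hq : q ∈ Q) (hd : d ∈ two G a t) (hq' : q' ∈ Q)
    (hd' : d' ∈ two G a t) (h : q * d = q' * d') : q = q' ∧ d = d' := by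
  have h1 : q'⁻¹ * q = d' * d⁻¹ := by
    rw [eq_mul_inv_iff_mul_eq, mul_assoc, h, inv_mul_cancel_left]
  have h2 := mem_two_of_inf hS (mul_mem (inv_mem hq') hq) (h1 ▸ mul_mem hd' (inv_mem hd))
  have h3 : q = q' := (inv_mul_eq_one.mp h2).symm
  exact ⟨h3, by rw [h3] at h; exact mul_left_cancel h⟩

theorem exists_q {c : Ω} (hc : c ≠ a) : ∃! q : G, q ∈ Q ∧ q • t • a = c := by
  obtain ⟨g, hg1, hg2⟩ : ∃ g : G, g • a = a ∧ g • t • a = c :=
    MulAction.is_two_pretransitive_iff.mp hS.two_transitive (ta_ne hS).symm hc.symm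
  obtain ⟨q, hq, d, hd, rfl⟩ := exists_qd hS hg1
  rw [mul_smul, ((mem_two hS).mp hd).2] at hg2
  refine ⟨q, ⟨hq, hg2⟩, fun q' hq' => ?_⟩
  have := eq_one_of_fix_ta hS (mul_mem (inv_mem hq) hq'.1)
    (by rw [mul_smul, hq'.2, inv_smul_eq_iff, hg2])
  exact (inv_mul_eq_one.mp this).symm

theorem eq_one_of_fix {q : G} (hq : q ∈ Q) {b : Ω} (hb : b ≠ a) (h : q • b = b) : q = 1 := by
  obtain ⟨q0, ⟨hq0, rfl⟩, -⟩ := exists_q hS hb
  have h1 : (q0⁻¹ * q * q0) • t • a = t • a := by rw [mul_smul, mul_smul, h, inv_smul_smul]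
  have h2 := eq_one_of_fix_ta hS (mul_mem (mul_mem (inv_mem hq0) hq) hq0) h1
  calc q = q0 * (q0⁻¹ * q * q0) * q0⁻¹ := by group
    _ = 1 := by rw [h2]; group

theorem regular {b c : Ω} (hb : b ≠ a) (hc : c ≠ a) : ∃! x : Q, (x : G) • b = c := by
  obtain ⟨q1, ⟨hq1, e1⟩, -⟩ := exists_q hS hb
  obtain ⟨q2, ⟨hq2, e2⟩, -⟩ := exists_q hS hc
  refine ⟨⟨q2 * q1⁻¹, mul_mem hq2 (inv_mem hq1)⟩, ?_, fun y hy => ?_⟩
  · change (q2 * q1⁻¹) • b = c
    rw [← e1, mul_smul, inv_smul_smul, e2]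
  · have h := eq_one_of_fix hS (mul_mem (inv_mem y.2) (mul_mem hq2 (inv_mem hq1))) hb
      (by rw [mul_smul, ← e1, mul_smul, inv_smul_smul, e2, e1, inv_smul_eq_iff]; exact hy.symm)
    exact Subtype.ext (inv_mul_eq_one.mp h)

theorem q_nontrivial [Finite G] : ∃ q ∈ Q, q ≠ (1 : G) := by
  by_contra h
  push Not at h
  have := hS.even_card
  rw [(Q.eq_bot_iff_forall).mpr h, Subgroup.card_bot] at this
  exact Nat.not_even_one this

theorem finite_space [Finite G] : Finite Ω := by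
  refine Finite.of_surjective (fun o : Option Q => o.elim a fun q => (q : G) • t • a) fun c => ?_
  by_cases hc : c = a
  · exact ⟨none, hc.symm⟩
  · obtain ⟨q, hq, -⟩ := exists_q hS hc
    exact ⟨some ⟨q, hq.1⟩, hq.2⟩

theorem card_space [Finite G] : Nat.card Ω = Nat.card Q + 1 := by
  rw [← Finite.card_option, ← Nat.card_congr (Equiv.ofBijective
    (fun o : Option Q => o.elim a fun q => (q : G) • t • a) ⟨?_, fun c => ?_⟩)]
  · have hne : ∀ q : Q, (q : G) • t • a ≠ a := fun q h => ta_ne hS (by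
      have h2 := congrArg (fun z => (q : G)⁻¹ • z) h
      simpa [inv_smul_eq_iff.mpr (hS.le q.2).symm] using h2)
    rintro (_ | q) (_ | q') h
    · rfl
    · exact absurd h.symm (hne q')
    · exact absurd h (hne q)
    · obtain ⟨r, -, hr⟩ := exists_q hS (hne q')
      exact congrArg some (Subtype.ext ((hr q ⟨q.2, h⟩).trans (hr q' ⟨q'.2, rfl⟩).symm))
  · by_cases hc : c = a
    · exact ⟨none, hc.symm⟩
    · obtain ⟨q, hq, -⟩ := exists_q hS hc
      exact ⟨some ⟨q, hq.1⟩, hq.2⟩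

theorem card_stabilizer [Finite G] :
    Nat.card (stabilizer G a) = Nat.card Q * Nat.card (two G a t) := by
  rw [← Nat.card_prod]
  refine (Nat.card_congr (Equiv.ofBijective
    (fun p : Q × two G a t => (⟨p.1 * p.2, mul_mem (hS.le p.1.2) (two_le hS p.2.2)⟩ : stabilizer G a))
    ⟨fun p p' h => ?_, fun g => ?_⟩)).symm
  · have := qd_inj hS p.1.2 p.2.2 p'.1.2 p'.2.2 (congrArg Subtype.val h)
    exact Prod.ext (Subtype.ext this.1) (Subtype.ext this.2)
  · obtain ⟨q, hq, d, hd, e⟩ := exists_qd hS g.2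
    exact ⟨(⟨q, hq⟩, ⟨d, hd⟩), Subtype.ext e.symm⟩

theorem pretransitive : MulAction.IsPretransitive G Ω := by
  exact MulAction.isPretransitive_of_is_two_pretransitive (h2 := hS.two_transitive)

theorem card_group [Finite G] :
    Nat.card G = Nat.card Q * Nat.card (two G a t) * (Nat.card Q + 1) := by
  haveI := pretransitive hS
  rw [← (stabilizer G a).card_mul_index, MulAction.index_stabilizer_of_transitive G a,
    card_space hS, card_stabilizer hS]

theorem exists_sylow [Finite G] : ∃ P : Sylow 2 G, (P : Subgroup G) ≤ Q := by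
  haveI : Fact (Nat.Prime 2) := ⟨Nat.prime_two⟩
  let P : Sylow 2 Q := Classical.arbitrary _
  have hp : IsPGroup 2 ((P : Subgroup Q).map Q.subtype) := P.isPGroup'.map _
  obtain ⟨R, hR⟩ := hp.exists_le_sylow
  refine ⟨R, ?_⟩
  suffices (R : Subgroup G) = (P : Subgroup Q).map Q.subtype by
    rw [this]; exact Subgroup.map_subtype_le _
  refine (Subgroup.eq_of_le_of_card_ge hR ?_).symm
  rw [Subgroup.card_map_of_injective Q.subtype_injective, R.card_eq_multiplicity, P.card_eq_multiplicity,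
    card_group hS, Nat.factorization_mul (mul_ne_zero Nat.card_pos.ne' Nat.card_pos.ne') (by omega),
    Nat.factorization_mul Nat.card_pos.ne' Nat.card_pos.ne']
  have h1 : (Nat.card (two G a t)).factorization 2 = 0 :=
    Nat.factorization_eq_zero_of_not_dvd fun h =>
      Nat.not_even_iff_odd.mpr hS.odd_card (even_iff_two_dvd.mpr h)
  have h2 : (Nat.card Q + 1).factorization 2 = 0 :=
    Nat.factorization_eq_zero_of_not_dvd fun h =>
      Nat.not_even_iff_odd.mpr (hS.even_card.add_one) (even_iff_two_dvd.mpr h)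
  simp only [Finsupp.add_apply, h1, h2, add_zero, le_refl]

theorem odd_mem_q [Finite G] {s : G} (hs : s ∈ stabilizer G a) (h : s * s = 1) : s ∈ Q := by
  obtain ⟨q, hq, d, hd, rfl⟩ := exists_qd hS hs
  -- modulo `Q` the element `d` squares to one
  have h1 : d * d = (d * q * d⁻¹)⁻¹ * q⁻¹ := by
    have : d * q * d = q⁻¹ := by
      rw [eq_inv_iff_mul_eq_one]
      calc d * q * d * q = q⁻¹ * (q * d * (q * d)) * q := by group
        _ = 1 := by rw [h]; group
    calc d * d = (d * q * d⁻¹)⁻¹ * (d * q * d) := by group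
      _ = _ := by rw [this]
  have h2 : d * d ∈ Q := by
    rw [h1]; exact mul_mem (inv_mem (hS.conj_mem d hd.1 q hq)) (inv_mem hq)
  have h3 := mem_two_of_inf hS h2 (mul_mem hd hd)
  have h4 : orderOf d ∣ 2 := orderOf_dvd_of_pow_eq_one (by rw [pow_two]; exact h3)
  have h5 := orderOf_dvd_natCard (G := two G a t) ⟨d, hd⟩
  rw [← Subgroup.orderOf_coe] at h5
  rcases (Nat.dvd_prime Nat.prime_two).mp h4 with h6 | h6
  · rw [orderOf_eq_one_iff.mp h6, mul_one]; exact hq
  · exact absurd (even_iff_two_dvd.mpr (h6 ▸ h5)) (Nat.not_even_iff_odd.mpr hS.odd_card)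

/-- An involution of `G_a` fixes only `a`. -/
theorem invol_fix_unique [Finite G] {s : G} (hs : s ∈ stabilizer G a) (h : s * s = 1) (h1 : s ≠ 1)
    {b : Ω} (hb : s • b = b) : b = a :=
  by_contra fun hne => h1 (eq_one_of_fix hS (odd_mem_q hS hs h) hne hb)

/-- Every involution fixes exactly one point. -/
theorem existsUnique_fix [Finite G] {u : G} (h : u * u = 1) (h1 : u ≠ 1) : ∃! b : Ω, u • b = b := by
  haveI : Fact (Nat.Prime 2) := ⟨Nat.prime_two⟩
  obtain ⟨P, hP⟩ := exists_sylow hS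
  have hup : IsPGroup 2 (Subgroup.zpowers u) := IsPGroup.of_card (n := 1) (by
    rw [Nat.card_zpowers, pow_one]; exact orderOf_eq_prime (by rw [pow_two]; exact h) h1)
  obtain ⟨R, hR⟩ := hup.exists_le_sylow
  obtain ⟨g, hg⟩ := MulAction.exists_smul_eq G P R
  have hu : g⁻¹ * u * g ∈ (P : Subgroup G) := by
    have h2 : u ∈ (R : Subgroup G) := hR (Subgroup.mem_zpowers u)
    rw [← hg] at h2
    obtain ⟨y, hy, hyu⟩ := h2
    have e : g⁻¹ * ((MulAut.conj g) y) * g = y := by rw [MulAut.conj_apply]; group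
    rw [← hyu]
    exact Eq.mpr (congrArg (fun z => z ∈ (P : Subgroup G)) e) hy
  have hA : g⁻¹ * u * g ∈ stabilizer G a := hS.le (hP hu)
  have hsq : g⁻¹ * u * g * (g⁻¹ * u * g) = 1 := by
    calc g⁻¹ * u * g * (g⁻¹ * u * g) = g⁻¹ * (u * u) * g := by group
      _ = 1 := by rw [h]; group
  have hne : g⁻¹ * u * g ≠ 1 := fun e => h1 (by
    calc u = g * (g⁻¹ * u * g) * g⁻¹ := by group
      _ = 1 := by rw [e]; group)
  refine ⟨g • a, ?_, fun b hb => ?_⟩
  · have h3 : (g⁻¹ * u * g) • a = a := hA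
    change u • g • a = g • a
    rwa [mul_smul, mul_smul, inv_smul_eq_iff] at h3
  · have := invol_fix_unique hS hA hsq hne (b := g⁻¹ • b) (by
      rw [mul_smul, mul_smul, smul_inv_smul, hb])
    exact inv_smul_eq_iff.mp this

theorem fix_eq [Finite G] {u : G} (h : u * u = 1) (h1 : u ≠ 1) {b c : Ω} (hb : u • b = b)
    (hc : u • c = c) : b = c := (existsUnique_fix hS h h1).unique hb hc

/-- Involutions with distinct fixed points multiply to an element of odd order. -/
theorem odd_orderOf_mul [Finite G] {u v : G} (hu : u * u = 1) (hu1 : u ≠ 1) (hv : v * v = 1)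
    (hv1 : v ≠ 1) {b c : Ω} (hb : u • b = b) (hc : v • c = c) (hne : b ≠ c) :
    Odd (orderOf (u * v)) := by
  by_contra hev
  rw [Nat.not_odd_iff_even] at hev
  obtain ⟨k, hk⟩ := hev
  set x := u * v with hx
  set w := x ^ k with hw
  have hui : u⁻¹ = u := inv_eq_of_mul_eq_one_right hu
  have hvi : v⁻¹ = v := inv_eq_of_mul_eq_one_right hv
  have hpos := orderOf_pos x
  have hw1 : w ≠ 1 := pow_ne_one_of_lt_orderOf (by omega) (by omega)
  have hwi : w⁻¹ = w := inv_eq_of_mul_eq_one_right (by rw [hw, ← pow_add, ← hk]; exact pow_orderOf_eq_one x)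
  have hcu : u * w * u⁻¹ = w := by
    rw [hw, ← conj_pow, hx, show u * (u * v) * u⁻¹ = (u * v)⁻¹ by
      rw [mul_inv_rev, hui, hvi, ← mul_assoc, hu, one_mul], inv_pow]
    exact hwi
  have hcv : v * w * v⁻¹ = w := by
    rw [hw, ← conj_pow, hx, show v * (u * v) * v⁻¹ = (u * v)⁻¹ by
      rw [mul_inv_rev, hui, hvi, mul_assoc, mul_assoc, hv, mul_one], inv_pow]
    exact hwi
  have hfix : ∀ (s : G) (z : Ω), s * s = 1 → s ≠ 1 → s • z = z → s * w * s⁻¹ = w → w • z = z := by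
    intro s z hs hs1 hz hsw
    refine fix_eq hS hs hs1 ?_ hz
    have : s * w = w * s := mul_inv_eq_iff_eq_mul.mp hsw
    rw [smul_smul, this, mul_smul, hz]
  exact hne (fix_eq hS (by rw [hw, ← pow_add, ← hk]; exact pow_orderOf_eq_one x) hw1
    (hfix u b hu hu1 hb hcu) (hfix v c hv hv1 hc hcv))

theorem isConj_invol [Finite G] {u v : G} (hu1 : u ≠ 1) (hu : u * u = 1) (hv1 : v ≠ 1)
    (hv : v * v = 1) : ∃ g : G, g * u * g⁻¹ = v := by
  obtain ⟨b, hb, -⟩ := existsUnique_fix hS hu hu1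
  obtain ⟨c, hc, -⟩ := existsUnique_fix hS hv hv1
  by_cases hbc : b = c
  · subst hbc
    obtain ⟨d, hd⟩ : ∃ d : Ω, d ≠ b := by
      by_contra h
      push Not at h
      exact ta_ne hS ((h (t • a)).trans (h a).symm)
    haveI := pretransitive hS
    obtain ⟨g, hg⟩ := MulAction.exists_smul_eq G b d
    have hw : g * u * g⁻¹ * (g * u * g⁻¹) = 1 := by
      calc g * u * g⁻¹ * (g * u * g⁻¹) = g * (u * u) * g⁻¹ := by group
        _ = 1 := by rw [hu]; group
    have hw1 : g * u * g⁻¹ ≠ 1 := fun e => hu1 (conj_eq_one_iff.mp e)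
    have hwd : (g * u * g⁻¹) • d = d := by rw [← hg, mul_smul, mul_smul, inv_smul_smul, hb]
    obtain ⟨h, -, e2⟩ := isConj_of_odd_mul hw hv (odd_orderOf_mul hS hw hw1 hv hv1 hwd hc hd)
    exact ⟨h * g, by rw [← e2]; group⟩
  · obtain ⟨g, -, e⟩ := isConj_of_odd_mul hu hv (odd_orderOf_mul hS hu hu1 hv hv1 hb hc hbc)
    exact ⟨g, e⟩

theorem exists_canonical {g : G} (hg : g ∉ stabilizer G a) :
    ∃! p : G × G, p.1 ∈ stabilizer G a ∧ p.2 ∈ Q ∧ g = p.1 * t * p.2 := by
  have hga : g⁻¹ • a ≠ a := fun h => hg (inv_mem_iff.mp (h : g⁻¹ ∈ stabilizer G a))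
  obtain ⟨q, ⟨hq, e⟩, huniq⟩ := exists_q hS hga
  refine ⟨(g * q * t, q⁻¹), ⟨?_, inv_mem hq, ?_⟩, ?_⟩
  · change (g * q * t) • a = a
    rw [mul_smul, mul_smul, e, smul_inv_smul]
  · change g = g * q * t * t * q⁻¹
    rw [mul_assoc (g * q), hS.mul_self, mul_one, mul_inv_cancel_right]
  · rintro ⟨x, y⟩ ⟨hx, hy, rfl⟩
    have hy' : y⁻¹ = q := huniq _ ⟨inv_mem hy, by
      rw [eq_inv_smul_iff, mul_smul, mul_smul, smul_inv_smul, tt_smul hS]; exact hx⟩
    subst hy'
    simp only [inv_inv, Prod.mk.injEq, and_true]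
    rw [mul_inv_cancel_right, mul_assoc, hS.mul_self, mul_one]

/-- Uniqueness in the canonical form `g h t f`. -/
theorem canonical_unique {g g' h h' f f' : G} (hg : g ∈ Q) (hh : h ∈ two G a t) (hf : f ∈ Q)
    (hg' : g' ∈ Q) (hh' : h' ∈ two G a t) (hf' : f' ∈ Q) (e : g * h * t * f = g' * h' * t * f') :
    g = g' ∧ h = h' ∧ f = f' := by
  have hA : g * h ∈ stabilizer G a := mul_mem (hS.le hg) (two_le hS hh)
  have hA' : g' * h' ∈ stabilizer G a := mul_mem (hS.le hg') (two_le hS hh')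
  have hne : g * h * t * f ∉ stabilizer G a := fun hc => hS.not_mem (by
    have := mul_mem (mul_mem (inv_mem hA) hc) (inv_mem (hS.le hf))
    simpa [mul_assoc] using this)
  have hu := (exists_canonical hS hne).unique (y₁ := (g * h, f)) (y₂ := (g' * h', f'))
    ⟨hA, hf, rfl⟩ ⟨hA', hf', e⟩
  rw [Prod.mk.injEq] at hu
  obtain ⟨h1, h2⟩ := qd_inj hS hg hh hg' hh' hu.1
  exact ⟨h1, h2, hu.2⟩

end CfsgLib.RankOne
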