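import Mathlib
import Cfsg.Agent.Lib.RankOne.Basic

/-!
# Elements inverted by an involution in a group of odd order
-/

set_option autoImplicit false

open Cfsg

namespace CfsgLib.RankOne

variable {M : Type*} [Group M] [Finite M] {t : M} {X : Subgroup M}

theorem pow_card_mem {x : M} (hx : x ∈ X) : x ^ Nat.card X = 1 := by
  have h := pow_card_eq_one' (x := (⟨x, hx⟩ : X))
  exact congrArg Subtype.val h

/-- Unique factorisation into a centralised and an inverted element. -/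
theorem split_odd (ht : t * t = 1) (hodd : Odd (Nat.card X)) (hn : ∀ x ∈ X, t * x * t⁻¹ ∈ X)
    {x : M} (hx : x ∈ X) :
    ∃! p : M × M, p.1 ∈ X ⊓ Subgroup.centralizer {t} ∧ p.2 ∈ invertedBy X t ∧ x = p.1 * p.2 := by
  have hti : t⁻¹ = t := inv_eq_of_mul_eq_one_right ht
  set c := t * x⁻¹ * t⁻¹ * x with hc
  have hcX : c ∈ X := mul_mem (hn _ (inv_mem hx)) hx
  have htt : ∀ y : M, t * (t * y) = y := fun y => by rw [← mul_assoc, ht, one_mul]
  have hcinv : t * c * t⁻¹ = c⁻¹ := by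
    rw [hc]
    simp only [hti, mul_inv_rev, inv_inv, mul_assoc, htt, ht, mul_one]
  set z := c ^ ((Nat.card X + 1) / 2) with hz
  have hzz : z * z = c := sq_root_of_odd hodd (pow_card_mem hcX)
  have hzX : z ∈ X := pow_mem hcX _
  have hzinv : t * z * t⁻¹ = z⁻¹ := by rw [hz, ← conj_pow, hcinv, inv_pow]
  have hzinv' : t * z⁻¹ * t⁻¹ = z := by
    calc t * z⁻¹ * t⁻¹ = (t * z * t⁻¹)⁻¹ := by group
      _ = z := by rw [hzinv, inv_inv]
  refine ⟨(x * z⁻¹, z), ⟨Subgroup.mem_inf.mpr ⟨X.mul_mem hx (X.inv_mem hzX), ?_⟩, ⟨hzX, hzinv⟩, by simp⟩, ?_⟩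
  · refine Subgroup.mem_centralizer_singleton_iff.mpr ?_
    have key : t * (x * z⁻¹) * t⁻¹ = x * z⁻¹ := by
      calc t * (x * z⁻¹) * t⁻¹ = (t * x * t⁻¹) * (t * z⁻¹ * t⁻¹) := by group
        _ = x * (x⁻¹ * (t * x * t⁻¹)) * z := by rw [hzinv']; group
        _ = x * c⁻¹ * z := by rw [show x⁻¹ * (t * x * t⁻¹) = c⁻¹ by rw [hc]; group]
        _ = x * z⁻¹ := by rw [← hzz]; group
    calc (x * z⁻¹) * t = (t * (x * z⁻¹) * t⁻¹) * t := by rw [key]
      _ = t * (x * z⁻¹) := by group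
  · rintro ⟨y, w⟩ ⟨⟨hy, hyt⟩, ⟨hw, hwt⟩, rfl⟩
    have hyt' : y * t = t * y := Subgroup.mem_centralizer_singleton_iff.mp hyt
    have hw2 : w * w = c := by
      rw [hc]
      calc w * w = (w⁻¹)⁻¹ * w := by rw [inv_inv]
        _ = (t * w * t⁻¹)⁻¹ * ((t * y * t⁻¹)⁻¹ * y) * w := by
          rw [hwt, show t * y * t⁻¹ = y by rw [← hyt']; group, inv_mul_cancel, mul_one]
        _ = t * (y * w)⁻¹ * t⁻¹ * (y * w) := by group
    have hwz : w = z := sq_inj_of_odd hodd (pow_card_mem hw) (pow_card_mem hzX) (hw2.trans hzz.symm)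
    exact Prod.ext ((mul_inv_cancel_right y w).symm.trans (by rw [hwz])) hwz

theorem card_split (ht : t * t = 1) (hodd : Odd (Nat.card X)) (hn : ∀ x ∈ X, t * x * t⁻¹ ∈ X) :
    Nat.card X = Nat.card ↥(X ⊓ Subgroup.centralizer {t}) * Nat.card (invertedBy X t) := by
  rw [← Nat.card_prod]
  refine (Nat.card_congr (Equiv.ofBijective
    (fun p : ↥(X ⊓ Subgroup.centralizer {t}) × invertedBy X t =>
      (⟨p.1 * p.2, mul_mem p.1.2.1 p.2.2.1⟩ : X)) ⟨fun p q h => ?_, fun x => ?_⟩)).symm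
  · have h2 : ((p.1 : M) * p.2) = (q.1 : M) * q.2 := congrArg Subtype.val h
    have := (split_odd ht hodd hn (mul_mem p.1.2.1 p.2.2.1)).unique (y₁ := ((p.1 : M), (p.2 : M)))
      (y₂ := ((q.1 : M), (q.2 : M))) ⟨p.1.2, p.2.2, rfl⟩ ⟨q.1.2, q.2.2, h2⟩
    rw [Prod.mk.injEq] at this
    exact Prod.ext (Subtype.ext this.1) (Subtype.ext this.2)
  · obtain ⟨p, ⟨h1, h2, h3⟩, -⟩ := split_odd ht hodd hn x.2
    exact ⟨(⟨p.1, h1⟩, ⟨p.2, h2⟩), Subtype.ext h3.symm⟩

open scoped Pointwise in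
theorem conj_closure_inverted (ht : t * t = 1) (hodd : Odd (Nat.card X))
    (hn : ∀ x ∈ X, t * x * t⁻¹ ∈ X) {x : M} (hx : x ∈ X) :
    MulAut.conj x • Subgroup.closure (invertedBy X t) = Subgroup.closure (invertedBy X t) := by
  have key : ∀ x ∈ X, ∀ z ∈ Subgroup.closure (invertedBy X t),
      x * z * x⁻¹ ∈ Subgroup.closure (invertedBy X t) := by
    intro x hx z hz
    obtain ⟨⟨y, w⟩, ⟨⟨hy, hyt⟩, hw, rfl⟩, -⟩ := split_odd ht hodd hn hx
    have hwc : w * z * w⁻¹ ∈ Subgroup.closure (invertedBy X t) :=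
      mul_mem (mul_mem (Subgroup.subset_closure hw) hz) (inv_mem (Subgroup.subset_closure hw))
    have hyt' : y * t = t * y := Subgroup.mem_centralizer_singleton_iff.mp hyt
    have hy' : ∀ v ∈ invertedBy X t, y * v * y⁻¹ ∈ invertedBy X t := fun v hv => by
      refine ⟨mul_mem (mul_mem hy hv.1) (inv_mem hy), ?_⟩
      calc t * (y * v * y⁻¹) * t⁻¹ = (t * y) * v * (t * y)⁻¹ := by group
        _ = y * (t * v * t⁻¹) * y⁻¹ := by rw [← hyt']; group
        _ = _ := by rw [hv.2]; group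
    have hle : (Subgroup.closure (invertedBy X t)).map (MulAut.conj y).toMonoidHom ≤
        Subgroup.closure (invertedBy X t) := by
      rw [MonoidHom.map_closure, Subgroup.closure_le]
      rintro _ ⟨v, hv, rfl⟩
      exact Subgroup.subset_closure (hy' v hv)
    have := hle ⟨_, hwc, rfl⟩
    simpa [mul_assoc] using this
  ext z
  rw [Subgroup.mem_pointwise_smul_iff_inv_smul_mem]
  refine ⟨fun h => ?_, fun h => ?_⟩
  · have := key x hx _ h
    simpa [MulAut.smul_def, mul_assoc] using this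
  · have := key x⁻¹ (inv_mem hx) _ h
    simpa [MulAut.smul_def, mul_assoc] using this

end CfsgLib.RankOne
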