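import Mathlib
import Cfsg.Agent.Lib.RankOne.Basic
import Cfsg.Agent.Lib.RankOne.Inverted

/-!
# The structure equation and centralisers in the rank-one set-up

Each involution `s` of `G_a` satisfies `j s j = r⁻¹ j r` for exactly one involution `j = t k`
exchanging `a` and `t • a`, and conversely; this matches the involutions of `G_a` with the elements
inverted by `t`.
-/

set_option autoImplicit false

open Cfsg

namespace CfsgLib.RankOne

open MulAction

variable {G Ω : Type*} [Group G] [MulAction G Ω] {a : Ω} {t : G} {Q : Subgroup G}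
  (hS : IsRankOneSetup G Ω a t Q)

/-- `s` and `t k` satisfy the structure equation. -/
def Rel (Q : Subgroup G) (t s k : G) : Prop := ∃ r ∈ Q, t * k * s * (t * k) = r⁻¹ * (t * k) * r

include hS

theorem inverted_iff {k : G} (hk : k ∈ two G a t) :
    k ∈ invertedBy (two G a t) t ↔ t * k * (t * k) = 1 := by
  refine ⟨fun h => ?_, fun h => ⟨hk, ?_⟩⟩
  · have := h.2
    rw [t_inv hS] at this
    rw [show t * k * (t * k) = (t * k * t) * k by group, this, inv_mul_cancel]
  · rw [t_inv hS, eq_inv_iff_mul_eq_one, ← h]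
    group

theorem setup_mul [Finite G] {k : G} (hk : k ∈ invertedBy (two G a t) t) :
    IsRankOneSetup G Ω a (t * k) Q := by
  have hka : k • a = a := ((mem_two hS).mp hk.1).1
  have hj : (t * k) • a = t • a := by rw [mul_smul, hka]
  refine ⟨hS.two_transitive, (inverted_iff hS hk.1).mp hk, fun h => ?_, fun h => ?_, hS.le, hS.conj_mem,
    by rw [hj]; exact hS.inf_eq_bot, by rw [hj]; exact hS.sup_eq, hS.even_card, by rw [hj]; exact hS.odd_card⟩
  · exact ta_ne hS (by rw [← hj, h, one_smul])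
  · exact ta_ne hS (by rw [← hj]; exact h)

theorem structure_pair [Finite G] :
    ∃! p : G × G, p.1 ∈ involutionsIn (stabilizer G a : Set G) ∧ p.2 ∈ Q ∧
      t * p.1 * t = p.2⁻¹ * t * p.2 := by
  obtain ⟨e, he, -⟩ := existsUnique_fix hS hS.mul_self hS.ne_one
  have hea : e ≠ a := fun h => hS.not_mem (h ▸ he)
  obtain ⟨r, ⟨hr, hre⟩, hru⟩ := exists_q hS hea
  set v := r⁻¹ * t * r with hv
  have hvta : v • t • a = t • a := by rw [hv, mul_smul, mul_smul, hre, he, inv_smul_eq_iff, hre]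
  have hvv : v * v = 1 := by
    rw [hv, show r⁻¹ * t * r * (r⁻¹ * t * r) = r⁻¹ * (t * t) * r by group, hS.mul_self]; group
  have htt : ∀ y : G, t * (t * y) = y := fun y => by rw [← mul_assoc, hS.mul_self, one_mul]
  refine ⟨(t * v * t, r), ⟨⟨?_, ?_, ?_⟩, hr, ?_⟩, ?_⟩
  · change (t * v * t) • a = a
    rw [mul_smul, mul_smul, hvta, tt_smul hS]
  · intro h
    have h' : v = 1 := by
      have : t * v * t = t * 1 * t := by
        rw [mul_one, hS.mul_self]; exact h
      exact mul_left_cancel (mul_right_cancel this)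
    exact hS.ne_one (by
      calc t = r * v * r⁻¹ := by rw [hv]; group
        _ = 1 := by rw [h']; group)
  · change t * v * t * (t * v * t) = 1
    simp only [mul_assoc, htt]
    rw [← mul_assoc v v, hvv, one_mul, hS.mul_self]
  · change t * (t * v * t) * t = r⁻¹ * t * r
    simp only [mul_assoc, htt, hS.mul_self, mul_one]
    rw [hv]; group
  · rintro ⟨s', r'⟩ ⟨⟨hsA, -, -⟩, hr', heq⟩
    have hsa : s' • a = a := hsA
    have h1 : (t * s' * t) • t • a = t • a := by rw [mul_smul, mul_smul, tt_smul hS, hsa]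
    rw [show t * s' * t = r'⁻¹ * t * r' from heq, mul_smul, mul_smul, inv_smul_eq_iff] at h1
    have h2 : r' • t • a = e := fix_eq hS hS.mul_self hS.ne_one h1 he
    have hrr : r' = r := hru r' ⟨hr', h2⟩
    subst hrr
    have : s' = t * v * t := by
      calc s' = t * (t * s' * t) * t := by simp only [mul_assoc, htt, hS.mul_self, mul_one]
        _ = _ := by rw [show t * s' * t = r'⁻¹ * t * r' from heq]
    rw [this]

/-- For each `k` there is exactly one involution. -/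
theorem existsUnique_invol [Finite G] {k : G} (hk : k ∈ invertedBy (two G a t) t) :
    ∃! s : G, s ∈ involutionsIn (stabilizer G a : Set G) ∧ Rel Q t s k := by
  obtain ⟨⟨s, r⟩, ⟨hs, hr, he⟩, hu⟩ := structure_pair (setup_mul hS hk)
  exact ⟨s, ⟨hs, r, hr, he⟩, fun s' ⟨hs', r', hr', he'⟩ => congrArg Prod.fst (hu (s', r') ⟨hs', hr', he'⟩)⟩

/-- For each involution there is exactly one `k`. -/
theorem existsUnique_inverted [Finite G] {s : G} (hs : s ∈ involutionsIn (stabilizer G a : Set G)) :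
    ∃! k : G, k ∈ invertedBy (two G a t) t ∧ Rel Q t s k := by
  have hsQ : s ∈ Q := odd_mem_q hS hs.1 hs.2.2
  have hne : t * s * t ∉ stabilizer G a := fun h => by
    have h1 : (t * s * t) • a = a := h
    rw [mul_smul, mul_smul, smul_eq_iff_eq_inv_smul, t_inv hS] at h1
    exact hs.2.1 (eq_one_of_fix_ta hS hsQ h1)
  obtain ⟨⟨x, f⟩, ⟨hx, hf, he⟩, -⟩ := exists_canonical hS hne
  obtain ⟨g, hg, h, hh, rfl⟩ := exists_qd hS hx
  change t * s * t = g * h * t * f at he
  have hti := t_inv hS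
  have hsi : s⁻¹ = s := inv_eq_of_mul_eq_one_right hs.2.2
  have hrev : g * h * t * f = f⁻¹ * (t * h⁻¹ * t) * t * g⁻¹ := by
    have h1 : (t * s * t)⁻¹ = t * s * t := by rw [mul_inv_rev, mul_inv_rev, hti, hsi, mul_assoc]
    rw [← he, ← h1, he, mul_assoc (f⁻¹) (t * h⁻¹ * t) t, mul_assoc (t * h⁻¹) t t, hS.mul_self, mul_one]
    rw [mul_inv_rev, mul_inv_rev, mul_inv_rev, hti]
    group
  obtain ⟨hgf, hh', -⟩ := canonical_unique hS hg hh hf (inv_mem hf)
    (conj_t_mem' hS (inv_mem hh)) (inv_mem hg) hrev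
  have hK : h ∈ invertedBy (two G a t) t := ⟨hh, by
    rw [hti]
    calc t * h * t = (t * h⁻¹ * t)⁻¹ := by rw [mul_inv_rev, mul_inv_rev, hti, inv_inv, mul_assoc]
      _ = h⁻¹ := by rw [← hh']⟩
  -- the two sides for a general `k`
  have hside : ∀ k ∈ invertedBy (two G a t) t, t * k * s * (t * k) =
      (k⁻¹ * g * k) * (k⁻¹ * h * k⁻¹) * t * (k⁻¹ * f * k) := by
    intro k hk
    have h2 : t * k = k⁻¹ * t := by
      have := hk.2
      calc t * k = (t * k * t⁻¹) * t := by group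
        _ = _ := by rw [this]
    have h3 : t * k⁻¹ = k * t := by
      calc t * k⁻¹ = (t * k * t⁻¹)⁻¹ * t := by group
        _ = k * t := by rw [hk.2, inv_inv]
    calc t * k * s * (t * k) = k⁻¹ * (t * s * t) * k := by
          rw [← mul_assoc (t * k * s) t k]
          nth_rewrite 1 [h2]
          group
      _ = k⁻¹ * g * k * (k⁻¹ * h * k⁻¹) * (k * t) * f * k := by rw [he]; group
      _ = _ := by rw [← h3]; group
  refine ⟨h, ⟨hK, h⁻¹ * f * h, conj_mem' hS hh.1 hf, ?_⟩, ?_⟩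
  · have h2 : t * h = h⁻¹ * t := by
      calc t * h = (t * h * t⁻¹) * t := by group
        _ = _ := by rw [hK.2]
    rw [hside h hK, h2, hgf]; group
  · rintro k ⟨hk, r, hr, hrel⟩
    have h2 : t * k = k⁻¹ * t := by
      calc t * k = (t * k * t⁻¹) * t := by group
        _ = _ := by rw [hk.2]
    have hkA : k ∈ stabilizer G a := hk.1.1
    rw [hside k hk, h2, ← mul_assoc r⁻¹] at hrel
    obtain ⟨-, hkh, -⟩ := canonical_unique hS (conj_mem' hS hkA hg)
      (mul_mem (mul_mem (inv_mem hk.1) hh) (inv_mem hk.1)) (conj_mem' hS hkA hf) (inv_mem hr)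
      (inv_mem hk.1) hr hrel
    calc k = k * (k⁻¹) * k := by group
      _ = k * (k⁻¹ * h * k⁻¹) * k := by rw [hkh]
      _ = h := by group

theorem rel_conj [Finite G] {s k d k' : G} (hd : d ∈ two G a t) (h : Rel Q t s k)
    (he : d⁻¹ * (t * k) * d = t * k') : Rel Q t (d⁻¹ * s * d) k' := by
  obtain ⟨r, hr, hrel⟩ := h
  refine ⟨d⁻¹ * r * d, conj_mem' hS hd.1 hr, ?_⟩
  rw [← he]
  calc d⁻¹ * (t * k) * d * (d⁻¹ * s * d) * (d⁻¹ * (t * k) * d) = d⁻¹ * (t * k * s * (t * k)) * d := by group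
    _ = _ := by rw [hrel]; group

theorem invol_conj_mem {s d : G} (hd : d ∈ two G a t)
    (hs : s ∈ involutionsIn (stabilizer G a : Set G)) :
    d⁻¹ * s * d ∈ involutionsIn (stabilizer G a : Set G) := by
  refine ⟨mul_mem (mul_mem (inv_mem hd.1) hs.1) hd.1, fun h => hs.2.1 ?_, ?_⟩
  · calc s = d * (d⁻¹ * s * d) * d⁻¹ := by group
      _ = 1 := by rw [h]; group
  · calc d⁻¹ * s * d * (d⁻¹ * s * d) = d⁻¹ * (s * s) * d := by group
      _ = 1 := by rw [hs.2.2]; group

theorem t_mul_inverted {k : G} (hk : k ∈ invertedBy (two G a t) t) : t * k = k⁻¹ * t := by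
  calc t * k = (t * k * t⁻¹) * t := by group
    _ = _ := by rw [hk.2]

theorem one_inverted : (1 : G) ∈ invertedBy (two G a t) t := ⟨one_mem _, by group⟩

/-- `d k d` is inverted with `d` and `k`. -/
theorem sandwich_mem {d k : G} (hd : d ∈ invertedBy (two G a t) t) (hk : k ∈ invertedBy (two G a t) t) :
    d * k * d ∈ invertedBy (two G a t) t := by
  refine ⟨mul_mem (mul_mem hd.1 hk.1) hd.1, ?_⟩
  calc t * (d * k * d) * t⁻¹ = (t * d * t⁻¹) * (t * k * t⁻¹) * (t * d * t⁻¹) := by group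
    _ = _ := by rw [hd.2, hk.2]; group

theorem exists_sandwich [Finite G] {k k' : G} (hk : k ∈ invertedBy (two G a t) t)
    (hk' : k' ∈ invertedBy (two G a t) t) : ∃ d ∈ invertedBy (two G a t) t, d * k * d = k' := by
  let F : invertedBy (two G a t) t → invertedBy (two G a t) t :=
    fun d => ⟨d * k * d, sandwich_mem hS d.2 hk⟩
  have hodd := hS.odd_card
  set z := k ^ ((Nat.card (two G a t) + 1) / 2) with hz
  have hzz : z * z = k := sq_root_of_odd hodd (pow_card_mem hk.1)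
  have hinj : Function.Injective F := by
    intro d d' h
    have h1 : (d : G) * k * d = d' * k * d' := congrArg Subtype.val h
    have h2 : z * d * z * (z * d * z) = z * d' * z * (z * d' * z) := by
      calc z * d * z * (z * d * z) = z * ((d : G) * (z * z) * d) * z := by group
        _ = z * ((d' : G) * (z * z) * d') * z := by rw [hzz, h1]
        _ = _ := by group
    have hzD : z ∈ two G a t := pow_mem hk.1 _
    have h3 := sq_inj_of_odd hodd (pow_card_mem (mul_mem (mul_mem hzD d.2.1) hzD))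
      (pow_card_mem (mul_mem (mul_mem hzD d'.2.1) hzD)) h2
    exact Subtype.ext (mul_left_cancel (mul_right_cancel h3))
  obtain ⟨d, hd⟩ := Finite.surjective_of_injective hinj ⟨k', hk'⟩
  exact ⟨d, d.2, congrArg Subtype.val hd⟩

theorem exists_conj_inverted [Finite G] {s s' : G}
    (hs : s ∈ involutionsIn (stabilizer G a : Set G))
    (hs' : s' ∈ involutionsIn (stabilizer G a : Set G)) :
    ∃ k ∈ invertedBy (two G a t) t, k⁻¹ * s * k = s' := by
  obtain ⟨k, ⟨hk, hr⟩, -⟩ := existsUnique_inverted hS hs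
  obtain ⟨k', ⟨hk', hr'⟩, -⟩ := existsUnique_inverted hS hs'
  obtain ⟨d, hd, he⟩ := exists_sandwich hS hk hk'
  have h1 : d⁻¹ * (t * k) * d = t * k' := by
    rw [← he]
    calc d⁻¹ * (t * k) * d = (d⁻¹ * t) * k * d := by group
      _ = _ := by rw [← t_mul_inverted hS hd]; group
  exact ⟨d, hd, (existsUnique_invol hS hk').unique
    ⟨invol_conj_mem hS hd.1 hs, rel_conj hS hd.1 hr h1⟩ ⟨hs', hr'⟩⟩

theorem card_inverted [Finite G] :
    Nat.card (invertedBy (two G a t) t) = Nat.card (involutionsIn (stabilizer G a : Set G)) := by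
  have h : ∀ k : invertedBy (two G a t) t, ∃ s : involutionsIn (stabilizer G a : Set G), Rel Q t s k :=
    fun k => let ⟨s, hs, _⟩ := existsUnique_invol hS k.2; ⟨⟨s, hs.1⟩, hs.2⟩
  choose F hF using h
  refine Nat.card_congr (Equiv.ofBijective F ⟨fun k k' e => ?_, fun s => ?_⟩)
  · exact Subtype.ext ((existsUnique_inverted hS (F k).2).unique ⟨k.2, hF k⟩ ⟨k'.2, e ▸ hF k'⟩)
  · obtain ⟨k, ⟨hk, hr⟩, -⟩ := existsUnique_inverted hS s.2
    exact ⟨⟨k, hk⟩, Subtype.ext ((existsUnique_invol hS hk).unique ⟨(F ⟨k, hk⟩).2, hF ⟨k, hk⟩⟩ ⟨s.2, hr⟩)⟩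

theorem commute_invol_iff [Finite G] {s k d : G} (hs : s ∈ involutionsIn (stabilizer G a : Set G))
    (hk : k ∈ invertedBy (two G a t) t) (h : Rel Q t s k) (hd : d ∈ two G a t) :
    d * s = s * d ↔ d * (t * k) = t * k * d := by
  set k' := t⁻¹ * (d⁻¹ * (t * k) * d) with hk'
  have hk'D : k' ∈ two G a t := by
    have : k' = (t * d⁻¹ * t⁻¹) * k * d := by
      rw [hk', t_inv hS]; group
    rw [this]
    exact mul_mem (mul_mem (conj_t_mem hS (inv_mem hd)) hk.1) hd
  have he : d⁻¹ * (t * k) * d = t * k' := by rw [hk', mul_inv_cancel_left]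
  have hk'K : k' ∈ invertedBy (two G a t) t := (inverted_iff hS hk'D).mpr (by
    rw [← he]
    calc d⁻¹ * (t * k) * d * (d⁻¹ * (t * k) * d) = d⁻¹ * (t * k * (t * k)) * d := by group
      _ = 1 := by rw [(inverted_iff hS hk.1).mp hk]; group)
  have hrel := rel_conj hS hd h he
  constructor
  · intro hds
    rw [show d⁻¹ * s * d = s by rw [mul_assoc, ← hds, inv_mul_cancel_left]] at hrel
    have := (existsUnique_inverted hS hs).unique ⟨hk'K, hrel⟩ ⟨hk, h⟩
    rw [this] at he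
    calc d * (t * k) = d * (d⁻¹ * (t * k) * d) := by rw [he]
      _ = t * k * d := by group
  · intro hdt
    have : k' = k := by
      rw [hk', mul_assoc d⁻¹, ← hdt, inv_mul_cancel_left, inv_mul_cancel_left]
    rw [this] at hrel
    have := (existsUnique_invol hS hk).unique ⟨invol_conj_mem hS hd hs, hrel⟩ ⟨hs, h⟩
    calc d * s = d * (d⁻¹ * s * d) := by rw [this]
      _ = s * d := by group

section Fixed

variable {X : Set G}

/-- Inside `Q` the centraliser of `X` moves one fixed point to another. -/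
theorem exists_q_centralizer (hXa : ∀ x ∈ X, x • a = a) {c d : Ω} (hc : c ≠ a) (hd : d ≠ a)
    (hXc : ∀ x ∈ X, x • c = c) (hXd : ∀ x ∈ X, x • d = d) :
    ∃ q ∈ Q, q ∈ Subgroup.centralizer X ∧ q • c = d := by
  obtain ⟨⟨q, hq⟩, hqc, hu⟩ := regular hS hc hd
  refine ⟨q, hq, Subgroup.mem_centralizer_iff.mpr fun x hx => ?_, hqc⟩
  have h1 : x * q * x⁻¹ = q := congrArg Subtype.val (hu ⟨x * q * x⁻¹, hS.conj_mem x (hXa x hx) q hq⟩ (by
    change (x * q * x⁻¹) • c = d
    rw [mul_smul, mul_smul, inv_smul_eq_iff.mpr (hXc x hx).symm]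
    change x • q • c = d
    rw [show q • c = d from hqc]; exact hXd x hx))
  exact mul_inv_eq_iff_eq_mul.mp h1

theorem exists_centralizer_fix {b c d : Ω} (hXb : ∀ x ∈ X, x • b = b) (hXc : ∀ x ∈ X, x • c = c)
    (hXd : ∀ x ∈ X, x • d = d) (hc : c ≠ b) (hd : d ≠ b) :
    ∃ g ∈ Subgroup.centralizer X, g • b = b ∧ g • c = d := by
  haveI := pretransitive hS
  obtain ⟨h, hh⟩ := MulAction.exists_smul_eq G a b
  let Y : Set G := (fun x => h⁻¹ * x * h) '' X
  have hY : ∀ e : Ω, (∀ x ∈ X, x • e = e) → ∀ y ∈ Y, y • h⁻¹ • e = h⁻¹ • e := by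
    rintro e he _ ⟨x, hx, rfl⟩
    rw [mul_smul, mul_smul, smul_inv_smul, he x hx]
  have hb : h⁻¹ • b = a := by rw [inv_smul_eq_iff, hh]
  obtain ⟨q, hq, hqY, hqc⟩ := exists_q_centralizer hS (X := Y) (fun y hy => hb ▸ hY b hXb y hy)
    (c := h⁻¹ • c) (d := h⁻¹ • d)
    (fun e => hc (smul_left_cancel h⁻¹ (e.trans hb.symm))) (fun e => hd (smul_left_cancel h⁻¹ (e.trans hb.symm)))
    (hY c hXc) (hY d hXd)
  refine ⟨h * q * h⁻¹, Subgroup.mem_centralizer_iff.mpr fun x hx => ?_, ?_, ?_⟩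
  · have h1 := Subgroup.mem_centralizer_iff.mp hqY _ ⟨x, hx, rfl⟩
    calc x * (h * q * h⁻¹) = h * ((h⁻¹ * x * h) * q) * h⁻¹ := by group
      _ = h * (q * (h⁻¹ * x * h)) * h⁻¹ := by rw [h1]
      _ = _ := by group
  · rw [mul_smul, mul_smul, hb, show q • a = a from hS.le hq, hh]
  · rw [mul_smul, mul_smul, hqc, smul_inv_smul]

theorem centralizer_two_trans
    (h3 : ∃ b c d : Ω, b ≠ c ∧ b ≠ d ∧ c ≠ d ∧ ∀ x ∈ X, x • b = b ∧ x • c = c ∧ x • d = d)
    {b₁ b₂ c₁ c₂ : Ω} (hfix : ∀ x ∈ X, x • b₁ = b₁ ∧ x • b₂ = b₂ ∧ x • c₁ = c₁ ∧ x • c₂ = c₂)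
    (hb : b₁ ≠ b₂) (hc : c₁ ≠ c₂) :
    ∃ g ∈ Subgroup.centralizer X, g • b₁ = c₁ ∧ g • b₂ = c₂ := by
  obtain ⟨e, he, heb, hec⟩ : ∃ e : Ω, (∀ x ∈ X, x • e = e) ∧ e ≠ b₁ ∧ e ≠ c₁ := by
    obtain ⟨b, c, d, hbc, hbd, hcd, h⟩ := h3
    by_cases h1 : b ≠ b₁ ∧ b ≠ c₁
    · exact ⟨b, fun x hx => (h x hx).1, h1⟩
    by_cases h2 : c ≠ b₁ ∧ c ≠ c₁
    · exact ⟨c, fun x hx => (h x hx).2.1, h2⟩
    refine ⟨d, fun x hx => (h x hx).2.2, ?_, ?_⟩ <;> rintro rfl <;> simp only [ne_eq, not_and_or, not_not] at h1 h2 <;>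
      rcases h1 with rfl | rfl <;> rcases h2 with rfl | rfl <;> contradiction
  obtain ⟨g, hg, -, hgb⟩ := exists_centralizer_fix hS he (fun x hx => (hfix x hx).1)
    (fun x hx => (hfix x hx).2.2.1) heb.symm hec.symm
  have hgb2 : ∀ x ∈ X, x • g • b₂ = g • b₂ := fun x hx => by
    rw [smul_smul, Subgroup.mem_centralizer_iff.mp hg x hx, mul_smul, (hfix x hx).2.1]
  obtain ⟨g', hg', h1, h2⟩ := exists_centralizer_fix hS (fun x hx => (hfix x hx).2.2.1) hgb2
    (fun x hx => (hfix x hx).2.2.2) (fun h => hb (smul_left_cancel g (hgb.trans h.symm))) hc.symm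
  exact ⟨g' * g, mul_mem hg' hg, by rw [mul_smul, hgb, h1], by rw [mul_smul, h2]⟩

/-- The centraliser of `X` contains an involution exchanging `a` and `t • a`. -/
theorem exists_invol_centralizer [Finite G] (hX : X ⊆ (two G a t : Set G))
    (h3 : ∃ b c d : Ω, b ≠ c ∧ b ≠ d ∧ c ≠ d ∧ ∀ x ∈ X, x • b = b ∧ x • c = c ∧ x • d = d) :
    ∃ u ∈ Subgroup.centralizer X, u * u = 1 ∧ u ≠ 1 ∧ u • a = t • a := by
  obtain ⟨g, hg, h1, h2⟩ := centralizer_two_trans hS h3 (b₁ := a) (b₂ := t • a) (c₁ := t • a) (c₂ := a)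
    (fun x hx => ⟨((mem_two hS).mp (hX hx)).1, ((mem_two hS).mp (hX hx)).2,
      ((mem_two hS).mp (hX hx)).2, ((mem_two hS).mp (hX hx)).1⟩) (ta_ne hS).symm (ta_ne hS)
  have hgg : g * g ∈ two G a t := (mem_two hS).mpr
    ⟨by rw [mul_smul, h1, h2], by rw [mul_smul, h2, h1]⟩
  obtain ⟨m, hm⟩ := hS.odd_card
  have hua : (g * (g * g) ^ m) • a = t • a := by
    rw [mul_smul, show (g * g) ^ m • a = a from ((mem_two hS).mp (pow_mem hgg m)).1, h1]
  refine ⟨g * (g * g) ^ m, mul_mem hg (pow_mem (mul_mem hg hg) m), ?_, fun h => ?_, hua⟩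
  · have hc : Commute g ((g * g) ^ m) := ((Commute.refl g).mul_right (Commute.refl g)).pow_right m
    calc g * (g * g) ^ m * (g * (g * g) ^ m) = g * g * ((g * g) ^ m * (g * g) ^ m) := by
          rw [mul_assoc, ← mul_assoc ((g * g) ^ m) g, ← hc.eq]; group
      _ = (g * g) ^ Nat.card (two G a t) := by rw [hm, ← pow_add, ← pow_succ', two_mul]
      _ = 1 := pow_card_mem hgg
  · rw [h, one_smul] at hua; exact ta_ne hS hua.symm

theorem even_centralizer [Finite G] (hX : X ⊆ (two G a t : Set G))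
    (h3 : ∃ b c d : Ω, b ≠ c ∧ b ≠ d ∧ c ≠ d ∧ ∀ x ∈ X, x • b = b ∧ x • c = c ∧ x • d = d) :
    Even (Nat.card ↥(Subgroup.centralizer X ⊓ Q)) := by
  obtain ⟨u, hu, hu2, hu1, -⟩ := exists_invol_centralizer hS hX h3
  obtain ⟨e, he, -⟩ := existsUnique_fix hS hu2 hu1
  have hXe : ∀ x ∈ X, x • e = e := fun x hx => fix_eq hS hu2 hu1
    (by rw [smul_smul, ← Subgroup.mem_centralizer_iff.mp hu x hx, mul_smul, he]) he
  have hXa : ∀ x ∈ X, x • a = a := fun x hx => ((mem_two hS).mp (hX hx)).1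
  obtain ⟨h, hh, hhe⟩ : ∃ h ∈ Subgroup.centralizer X, h • a = e := by
    by_cases hea : e = a
    · exact ⟨1, one_mem _, by rw [one_smul, hea]⟩
    · obtain ⟨h, hh, h1, -⟩ := centralizer_two_trans hS h3 (b₁ := a) (b₂ := e) (c₁ := e) (c₂ := a)
        (fun x hx => ⟨hXa x hx, hXe x hx, hXe x hx, hXa x hx⟩) (Ne.symm hea) hea
      exact ⟨h, hh, h1⟩
  have hwA : h⁻¹ * u * h ∈ stabilizer G a := by
    rw [MulAction.mem_stabilizer_iff, mul_smul, mul_smul, hhe, he, inv_smul_eq_iff, hhe]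
  have hw2 : h⁻¹ * u * h * (h⁻¹ * u * h) = 1 := by
    calc h⁻¹ * u * h * (h⁻¹ * u * h) = h⁻¹ * (u * u) * h := by group
      _ = 1 := by rw [hu2]; group
  have hw1 : h⁻¹ * u * h ≠ 1 := fun e' => hu1 (by
    calc u = h * (h⁻¹ * u * h) * h⁻¹ := by group
      _ = 1 := by rw [e']; group)
  have hmem : h⁻¹ * u * h ∈ Subgroup.centralizer X ⊓ Q :=
    Subgroup.mem_inf.mpr ⟨(Subgroup.centralizer X).mul_mem
      ((Subgroup.centralizer X).mul_mem ((Subgroup.centralizer X).inv_mem hh) hu) hh, odd_mem_q hS hwA hw2⟩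
  have hord := orderOf_dvd_natCard (G := ↥(Subgroup.centralizer X ⊓ Q)) ⟨_, hmem⟩
  rw [← Subgroup.orderOf_coe, orderOf_eq_prime (by rw [pow_two]; exact hw2) hw1] at hord
  exact even_iff_two_dvd.mpr hord

theorem centralizer_stabilizer_eq (hX : X ⊆ (two G a t : Set G)) :
    (Subgroup.centralizer X ⊓ Q) ⊔ (Subgroup.centralizer X ⊓ two G a t) =
      Subgroup.centralizer X ⊓ stabilizer G a := by
  refine le_antisymm (sup_le (inf_le_inf_left _ hS.le) (inf_le_inf_left _ (two_le hS))) ?_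
  rintro g ⟨hg, hga⟩
  have hXa : ∀ x ∈ X, x • a = a := fun x hx => ((mem_two hS).mp (hX hx)).1
  have hXt : ∀ x ∈ X, x • t • a = t • a := fun x hx => ((mem_two hS).mp (hX hx)).2
  have hga' : g • a = a := hga
  have hne : g • t • a ≠ a := fun h => ta_ne hS (smul_left_cancel g (h.trans hga'.symm))
  have hXg : ∀ x ∈ X, x • g • t • a = g • t • a := fun x hx => by
    rw [smul_smul, Subgroup.mem_centralizer_iff.mp hg x hx, mul_smul, hXt x hx]
  obtain ⟨q, hq, hqX, hqt⟩ := exists_q_centralizer hS hXa (ta_ne hS) hne hXt hXg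
  have hd : q⁻¹ * g ∈ Subgroup.centralizer X ⊓ two G a t := Subgroup.mem_inf.mpr
    ⟨(Subgroup.centralizer X).mul_mem ((Subgroup.centralizer X).inv_mem hqX) hg, (mem_two hS).mpr
    ⟨by rw [mul_smul, hga', inv_smul_eq_iff, show q • a = a from hS.le hq],
     by rw [mul_smul, inv_smul_eq_iff, hqt]⟩⟩
  have := Subgroup.mul_mem_sup (show q ∈ Subgroup.centralizer X ⊓ Q from ⟨hqX, hq⟩) hd
  rwa [mul_inv_cancel_left] at this

theorem exists_conj_centralizing [Finite G] (hX : X ⊆ (two G a t : Set G))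
    (h3 : ∃ b c d : Ω, b ≠ c ∧ b ≠ d ∧ c ≠ d ∧ ∀ x ∈ X, x • b = b ∧ x • c = c ∧ x • d = d) :
    ∃ k ∈ two G a t, ∀ x ∈ X, (k * x * k⁻¹) * t = t * (k * x * k⁻¹) := by
  obtain ⟨u, hu, hu2, hu1, hua⟩ := exists_invol_centralizer hS hX h3
  have hut : u • t • a = a := by rw [← hua, smul_smul, hu2, one_smul]
  have htu : t * u ∈ two G a t := (mem_two hS).mpr
    ⟨by rw [mul_smul, hua, tt_smul hS], by rw [mul_smul, hut]⟩
  have hinv : t * u ∈ invertedBy (two G a t) t := (inverted_iff hS htu).mpr (by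
    rw [show t * (t * u) = u by rw [← mul_assoc, hS.mul_self, one_mul]]; exact hu2)
  set z := (t * u) ^ ((Nat.card (two G a t) + 1) / 2) with hz
  have hzz : z * z = t * u := sq_root_of_odd hS.odd_card (pow_card_mem htu)
  have hzinv : t * z * t⁻¹ = z⁻¹ := by rw [hz, ← conj_pow, hinv.2, inv_pow]
  have hconj : z * u * z⁻¹ = t := by
    have h1 : u = t * (z * z) := by rw [hzz, ← mul_assoc, hS.mul_self, one_mul]
    calc z * u * z⁻¹ = z * t * z := by rw [h1]; group
      _ = z * (t * z * t⁻¹) * t := by group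
      _ = t := by rw [hzinv]; group
  refine ⟨z, pow_mem htu _, fun x hx => ?_⟩
  rw [← hconj]
  have := Subgroup.mem_centralizer_iff.mp hu x hx
  calc z * x * z⁻¹ * (z * u * z⁻¹) = z * (x * u) * z⁻¹ := by group
    _ = z * (u * x) * z⁻¹ := by rw [this]
    _ = _ := by group

end Fixed

end CfsgLib.RankOne
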