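import Mathlib
import Cfsg.Agent.Lib.RankOne.Setup
import Cfsg.Agent.Lib.OddOrder.FPFTools
import Cfsg.Agent.Lib.Solvable.FrattiniFitting
import Cfsg.Agent.S1128

/-!
# The rank-one set-up with a four-group: nilpotency of `Q`, central involutions
-/

set_option autoImplicit false
set_option linter.style.haveILetI false

open Cfsg

namespace CfsgLib.RankOne

variable {G Ω : Type*} [Group G] [Finite G] [MulAction G Ω] {a : Ω} {t : G} {Q : Subgroup G}
  (hS : IsRankOneSetup G Ω a t Q)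
  (h2 : ∃ x y : G, x ≠ 1 ∧ y ≠ 1 ∧ x ≠ y ∧ x * x = 1 ∧ y * y = 1 ∧ x * y = y * x)

include hS h2

theorem exists_two_invol :
    ∃ s s' : G, s ∈ involutionsIn (MulAction.stabilizer G a : Set G) ∧
      s' ∈ involutionsIn (MulAction.stabilizer G a : Set G) ∧ s ≠ s' := by
  obtain ⟨x, y, hx1, hy1, hxy, hx, hy, hc⟩ := h2
  obtain ⟨b, hb, -⟩ := existsUnique_fix hS hx hx1
  have hyb : y • b = b := fix_eq hS hx hx1 (by rw [smul_smul, hc, mul_smul, hb]) hb
  haveI := pretransitive hS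
  obtain ⟨g, hg⟩ := MulAction.exists_smul_eq G a b
  have key : ∀ u : G, u * u = 1 → u ≠ 1 → u • b = b →
      g⁻¹ * u * g ∈ involutionsIn (MulAction.stabilizer G a : Set G) := fun u hu hu1 hub => by
    refine ⟨?_, fun h => hu1 ?_, ?_⟩
    · change (g⁻¹ * u * g) • a = a
      rw [mul_smul, mul_smul, hg, hub, inv_smul_eq_iff, hg]
    · calc u = g * (g⁻¹ * u * g) * g⁻¹ := by group
        _ = 1 := by rw [h]; group
    · calc g⁻¹ * u * g * (g⁻¹ * u * g) = g⁻¹ * (u * u) * g := by group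
        _ = 1 := by rw [hu]; group
  exact ⟨_, _, key x hx hx1 hb, key y hy hy1 hyb, fun h => hxy (mul_left_cancel (mul_right_cancel h))⟩

/-- Some element of prime order inverted by `t`. -/
theorem exists_inverted_prime :
    ∃ p : ℕ, p.Prime ∧ ∃ x ∈ invertedBy (two G a t) t, x ≠ 1 ∧ x ^ p = 1 := by
  obtain ⟨s, s', hs, hs', hne⟩ := exists_two_invol hS h2
  obtain ⟨k, hk, hks⟩ := exists_conj_inverted hS hs hs'
  have hk1 : k ≠ 1 := fun h => hne (by rw [← hks, h]; group)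
  have hn : orderOf k ≠ 1 := fun h => hk1 (orderOf_eq_one_iff.mp h)
  refine ⟨(orderOf k).minFac, Nat.minFac_prime hn, k ^ (orderOf k / (orderOf k).minFac),
    ⟨pow_mem hk.1 _, ?_⟩, ?_, ?_⟩
  · rw [← conj_pow, hk.2, inv_pow]
  · refine pow_ne_one_of_lt_orderOf (Nat.div_pos (Nat.minFac_le (orderOf_pos k)) (Nat.minFac_pos _)).ne'
      (Nat.div_lt_self (orderOf_pos k) (Nat.minFac_prime hn).one_lt)
  · rw [← pow_mul, Nat.div_mul_cancel (Nat.minFac_dvd _), pow_orderOf_eq_one]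

theorem isNilpotent_Q [FaithfulSMul G Ω] : Group.IsNilpotent Q := by
  obtain ⟨p, hp, x, hx, hx1, hxp⟩ := exists_inverted_prime hS h2
  exact CfsgLib.OddOrder.FPFTools.isNilpotent_of_fpf hp hxp (two_le_normalizer hS hx.1)
    (Cfsg.Agent.S1128.result hS h2 x hx hx1)

theorem central_invol [FaithfulSMul G Ω] {s : G}
    (hs : s ∈ involutionsIn (MulAction.stabilizer G a : Set G)) : s ∈ Q ∧ ∀ x ∈ Q, s * x = x * s := by
  haveI := isNilpotent_Q hS h2
  haveI : Fact (Nat.Prime 2) := ⟨Nat.prime_two⟩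
  let P : Sylow 2 Q := Classical.arbitrary _
  have hP : (P : Subgroup Q) ≠ ⊥ := P.ne_bot_of_dvd_card (even_iff_two_dvd.mp hS.even_card)
  obtain ⟨y, ⟨hyP, hyZ⟩, hy1⟩ : ∃ y ∈ (P : Subgroup Q) ⊓ Subgroup.center Q, y ≠ (1 : Q) := by
    by_contra h
    push Not at h
    exact CfsgLib.Solvable.FrattiniFitting.inf_center_ne_bot (P : Subgroup Q) hP
      ((Subgroup.eq_bot_iff_forall _).mpr h)
  obtain ⟨n, hn⟩ := P.isPGroup'.exists_orderOf_eq_pow ⟨y, hyP⟩
  rw [Subgroup.orderOf_mk] at hn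
  cases n with
  | zero => exact absurd (orderOf_eq_one_iff.mp (by simpa using hn)) hy1
  | succ n =>
    set z := y ^ 2 ^ n with hz
    have hzC : z ∈ Subgroup.center Q := pow_mem hyZ _
    have hz1 : z ≠ 1 := pow_ne_one_of_lt_orderOf (pow_ne_zero _ two_ne_zero)
      (by rw [hn]; exact Nat.pow_lt_pow_succ one_lt_two)
    have hz2 : z * z = 1 := by
      rw [← pow_two, ← pow_mul, ← pow_succ, ← hn]; exact pow_orderOf_eq_one y
    have hzI : (z : G) ∈ involutionsIn (MulAction.stabilizer G a : Set G) :=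
      ⟨hS.le z.2, fun h => hz1 (Subtype.ext h), congrArg Subtype.val hz2⟩
    obtain ⟨k, hk, hks⟩ := exists_conj_inverted hS hzI hs
    refine ⟨odd_mem_q hS hs.1 hs.2.2, fun x hx => ?_⟩
    have hx' : k * x * k⁻¹ ∈ Q := hS.conj_mem k (two_le hS hk.1) x hx
    have hc := congrArg Subtype.val (Subgroup.mem_center_iff.mp hzC ⟨_, hx'⟩)
    simp only [Subgroup.coe_mul] at hc
    rw [← hks]
    calc k⁻¹ * z * k * x = k⁻¹ * ((z : G) * (k * x * k⁻¹)) * k := by group
      _ = k⁻¹ * (k * x * k⁻¹ * z) * k := by rw [hc]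
      _ = _ := by group

end CfsgLib.RankOne
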