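import Cfsg.Agent.Lib.Classical.HermMatrix
import Cfsg.Agent.Lib.Involution.SylowTwoType
import Cfsg.Prelude.Def_LieRecognition

/-!
# The Sylow 2-subgroup of `PSU(3,q)`, `q` even, is a Suzuki 2-group
-/

set_option autoImplicit false
set_option linter.unusedSectionVars false

namespace CfsgLib.RankOne.UnitarySylow

open Matrix CfsgLib.Classical

variable {F : Type*} [Field F]

/-- The unitary Heisenberg group of a conjugation in characteristic two. -/
@[ext]
structure Heis (σ : F →+* F) where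
  c : F
  b : F
  hb : b + σ b = c * σ c

variable {σ : F →+* F} [CharP F 2] [hσ : Fact (IsConjugation σ)]

theorem add_self (x : F) : x + x = 0 := CharTwo.add_self_eq_zero x

theorem two0 : (2 : F) = 0 := CharTwo.two_eq_zero

instance instMulHeis : Mul (Heis σ) :=
  ⟨fun g h => ⟨g.c + h.c, g.b + h.b + σ g.c * h.c, by
    simp only [map_add, map_mul, hσ.out.invol]
    linear_combination g.hb + h.hb⟩⟩

instance instOneHeis : One (Heis σ) := ⟨⟨0, 0, by simp⟩⟩

instance instInvHeis : Inv (Heis σ) :=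
  ⟨fun g => ⟨g.c, g.b + g.c * σ g.c, by
    simp only [map_add, map_mul, hσ.out.invol]
    linear_combination g.hb + g.c * σ g.c * two0 (F := F)⟩⟩

theorem mul_c (g h : Heis σ) : (g * h).c = g.c + h.c := rfl
theorem mul_b (g h : Heis σ) : (g * h).b = g.b + h.b + σ g.c * h.c := rfl
theorem one_c : (1 : Heis σ).c = 0 := rfl
theorem one_b : (1 : Heis σ).b = 0 := rfl
theorem inv_c (g : Heis σ) : (g⁻¹).c = g.c := rfl
theorem inv_b (g : Heis σ) : (g⁻¹).b = g.b + g.c * σ g.c := rfl

instance instGroupHeis : Group (Heis σ) :=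
  Group.ofLeftAxioms
    (fun a b c => Heis.ext (by simp [mul_c]; ring) (by simp [mul_b, mul_c]; ring))
    (fun a => Heis.ext (by simp [mul_c, one_c]) (by simp [mul_b, one_b, one_c]))
    (fun a => Heis.ext (by simp [mul_c, one_c, inv_c, add_self])
      (by simp only [mul_b, one_b, inv_b, inv_c]
          linear_combination (a.b + a.c * σ a.c) * two0 (F := F)))

theorem mul_self_eq_one (g : Heis σ) : g * g = 1 ↔ g.c = 0 := by
  constructor
  · intro h
    have h1 := congrArg Heis.b h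
    rw [mul_b, one_b, add_self, zero_add, mul_eq_zero] at h1
    rcases h1 with h1 | h1
    · exact (map_eq_zero σ).1 h1
    · exact h1
  · intro h
    exact Heis.ext (by rw [mul_c, one_c, add_self]) (by rw [mul_b, one_b, h, mul_zero, add_self, add_zero])

theorem exists_elt (c : F) : ∃ g : Heis σ, g.c = c := by
  obtain ⟨b, hb⟩ := hσ.out.exists_trace_eq (hσ.out.norm_fixed c)
  exact ⟨⟨c, b, hb⟩, rfl⟩

theorem mem_center_iff (g : Heis σ) : g ∈ Subgroup.center (Heis σ) ↔ g.c = 0 := by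
  rw [Subgroup.mem_center_iff]
  constructor
  · intro h
    by_contra hc
    obtain ⟨t, ht⟩ := hσ.out.exists_not_fixed
    obtain ⟨k, hk⟩ := exists_elt (σ := σ) (g.c * t)
    have h1 := congrArg Heis.b (h k)
    rw [mul_b, mul_b, hk, map_mul] at h1
    have h2 : σ g.c * g.c * (σ t - t) = 0 := by linear_combination h1
    exact ht (sub_eq_zero.1 ((mul_eq_zero.1 h2).resolve_left
      (mul_ne_zero ((map_ne_zero σ).2 hc) hc)))
  · intro hc k
    exact Heis.ext (by simp [mul_c, add_comm]) (by simp [mul_b, hc, add_comm])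

variable [Fintype F] {q : ℕ} [hq : Fact (Fintype.card F = q ^ 2 ∧ ∀ x, σ x = x ^ q)]

include hq in
theorem card_fix : Nat.card {x : F // σ x = x} = q := by
  classical
  obtain ⟨h1, -⟩ := frob_cards hq.out.1 hq.out.2 hσ.out
  have h2 := two_le_of_card_sq hq.out.1
  let e : {x : F // σ x = x} ≃ Option (fixedUnits σ) :=
    { toFun := fun x => if h : x.1 = 0 then none else some ⟨Units.mk0 x.1 h, x.2⟩
      invFun := fun o => o.elim ⟨0, map_zero σ⟩ fun u => ⟨(u : Fˣ), u.2⟩
      left_inv := fun x => by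
        by_cases h : x.1 = 0
        · exact Subtype.ext (by simp [h])
        · exact Subtype.ext (by simp [h])
      right_inv := fun o => by
        rcases o with _ | u
        · simp
        · simp }
  rw [Nat.card_congr e, Finite.card_option, h1]
  omega

include hq in
theorem card_heis : Nat.card (Heis σ) = q ^ 3 := by
  have e : Heis σ ≃ F × {x : F // σ x = x} :=
    { toFun := fun g => (g.c, ⟨g.b - (exists_elt (σ := σ) g.c).choose.b, by
        have h0 := (exists_elt (σ := σ) g.c).choose.hb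
        rw [(exists_elt (σ := σ) g.c).choose_spec] at h0
        rw [map_sub]
        linear_combination g.hb - h0 + ((exists_elt (σ := σ) g.c).choose.b - g.b) * two0 (F := F)⟩)
      invFun := fun p => ⟨p.1, (exists_elt (σ := σ) p.1).choose.b + p.2.1, by
        have h0 := (exists_elt (σ := σ) p.1).choose.hb
        rw [(exists_elt (σ := σ) p.1).choose_spec] at h0
        rw [map_add, p.2.2]
        linear_combination h0 + p.2.1 * two0 (F := F)⟩
      left_inv := fun g => Heis.ext rfl (add_sub_cancel _ _)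
      right_inv := fun p => Prod.ext rfl (Subtype.ext (add_sub_cancel_left _ _)) }
  rw [Nat.card_congr e, Nat.card_prod, card_fix (σ := σ) (q := q), Nat.card_eq_fintype_card, hq.out.1]
  ring

include hq in
theorem card_center : Nat.card (Subgroup.center (Heis σ)) = q := by
  refine Eq.trans (Nat.card_congr ?_) (card_fix (σ := σ) (q := q))
  exact
    { toFun := fun g => ⟨g.1.b, by
        have h := g.1.hb
        rw [(mem_center_iff g.1).1 g.2, map_zero, mul_zero] at h
        linear_combination h - g.1.b * two0 (F := F)⟩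
      invFun := fun x => ⟨⟨0, x.1, by rw [x.2, map_zero, mul_zero, add_self]⟩,
        (mem_center_iff _).2 rfl⟩
      left_inv := fun g => Subtype.ext (Heis.ext ((mem_center_iff g.1).1 g.2).symm rfl)
      right_inv := fun x => rfl }

/-- Scaling by a fixed unit. -/
def scale (u : fixedUnits σ) : MulAut (Heis σ) where
  toFun g := ⟨((u : Fˣ) : F) * g.c, ((u : Fˣ) : F) ^ 2 * g.b, by
    rw [map_mul, map_mul, map_pow, mem_fixedUnits.1 u.2]
    linear_combination ((u : Fˣ) : F) ^ 2 * g.hb⟩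
  invFun g := ⟨((u : Fˣ) : F)⁻¹ * g.c, ((u : Fˣ) : F)⁻¹ ^ 2 * g.b, by
    rw [map_mul, map_mul, map_pow, map_inv₀, mem_fixedUnits.1 u.2]
    linear_combination ((u : Fˣ) : F)⁻¹ ^ 2 * g.hb⟩
  left_inv g := Heis.ext (inv_mul_cancel_left₀ (Units.ne_zero _) _) (by
    show ((u : Fˣ) : F)⁻¹ ^ 2 * (((u : Fˣ) : F) ^ 2 * g.b) = g.b
    rw [inv_pow, inv_mul_cancel_left₀ (pow_ne_zero _ (Units.ne_zero _))])
  right_inv g := Heis.ext (mul_inv_cancel_left₀ (Units.ne_zero _) _) (by
    show ((u : Fˣ) : F) ^ 2 * (((u : Fˣ) : F)⁻¹ ^ 2 * g.b) = g.b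
    rw [inv_pow, mul_inv_cancel_left₀ (pow_ne_zero _ (Units.ne_zero _))])
  map_mul' g h := Heis.ext (mul_add _ _ _) (by
    show ((u : Fˣ) : F) ^ 2 * (g.b + h.b + σ g.c * h.c) =
      ((u : Fˣ) : F) ^ 2 * g.b + ((u : Fˣ) : F) ^ 2 * h.b + σ (((u : Fˣ) : F) * g.c) * (((u : Fˣ) : F) * h.c)
    rw [map_mul, mem_fixedUnits.1 u.2]
    ring)

/-- The scalings as a homomorphism. -/
def scaleHom : fixedUnits σ →* MulAut (Heis σ) where
  toFun := scale
  map_one' := MulEquiv.ext fun g => Heis.ext (one_mul _) (by simp [scale])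
  map_mul' u v := MulEquiv.ext fun g => Heis.ext (mul_assoc _ _ _) (by
    simp [scale, mul_pow, mul_assoc])

include hq in
theorem isSuzuki (h4 : 3 ≤ q) : Cfsg.IsSuzukiTwoGroup (Heis σ) := by
  have hfin : Finite (Heis σ) := Nat.finite_of_card_ne_zero (by rw [card_heis (σ := σ) (q := q)]; positivity)
  refine ⟨hfin, fun g => ⟨2, ?_⟩, ?_, ?_, (scaleHom (σ := σ)).range,
    isCyclic_of_surjective scaleHom.rangeRestrict (MonoidHom.rangeRestrict_surjective _), ?_⟩
  · have h : g * g ∈ Subgroup.center (Heis σ) := (mem_center_iff _).2 (by rw [mul_c, add_self])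
    rw [show (2 ^ 2 : ℕ) = 2 + 2 from rfl, pow_add, pow_two, mul_self_eq_one]
    exact (mem_center_iff _).1 h
  · by_contra hall
    push Not at hall
    obtain ⟨g, hg⟩ := exists_elt (σ := σ) 1
    have h := (mem_center_iff g).1 (Subgroup.mem_center_iff.2 fun k => hall k g)
    rw [hg] at h
    exact one_ne_zero h
  · haveI := Fintype.ofFinite {x : F // σ x = x}
    have hc := card_fix (σ := σ) (q := q)
    rw [Nat.card_eq_fintype_card] at hc
    obtain ⟨x, hx⟩ := Fintype.exists_ne_of_one_lt_card (by omega) (⟨0, map_zero σ⟩ : {x : F // σ x = x})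
    classical
    obtain ⟨y, -, hy⟩ : ∃ y ∈ Finset.univ, y ∉ ({⟨0, map_zero σ⟩, x} : Finset {x : F // σ x = x}) :=
      Finset.exists_mem_notMem_of_card_lt_card
        (Finset.card_le_two.trans_lt (by rw [Finset.card_univ]; omega))
    rw [Finset.mem_insert, Finset.mem_singleton, not_or] at hy
    let E : {x : F // σ x = x} → Heis σ := fun x => ⟨0, x.1, by rw [x.2, map_zero, mul_zero, add_self]⟩
    have hE : ∀ z, E z = 1 ↔ z = ⟨0, map_zero σ⟩ := fun z =>
      ⟨fun h => Subtype.ext (congrArg Heis.b h), fun h => Heis.ext rfl (congrArg Subtype.val h)⟩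
    exact ⟨E x, E y, fun h => hy.2 (Subtype.ext (congrArg Heis.b h)).symm, fun h => hx ((hE x).1 h),
      (mul_self_eq_one _).2 rfl, fun h => hy.1 ((hE y).1 h), (mul_self_eq_one _).2 rfl⟩
  · intro x y hx hx2 hy hy2
    rw [mul_self_eq_one] at hx2 hy2
    have hxf : σ x.b = x.b := by linear_combination x.hb + σ x.c * hx2 - x.b * two0 (F := F)
    have hyf : σ y.b = y.b := by linear_combination y.hb + σ y.c * hy2 - y.b * two0 (F := F)
    have hx0 : x.b ≠ 0 := fun h => hx (Heis.ext hx2 h)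
    have hy0 : y.b ≠ 0 := fun h => hy (Heis.ext hy2 h)
    obtain ⟨t, ht⟩ := Finite.injective_iff_surjective.1 (frobenius_inj F 2) (y.b / x.b)
    rw [frobenius_def] at ht
    have htf : σ t = t := by
      apply frobenius_inj F 2
      rw [frobenius_def, frobenius_def, ← map_pow, ht, map_div₀, hxf, hyf]
    have ht0 : t ≠ 0 := fun h => by
      rw [h, zero_pow two_ne_zero, eq_comm, div_eq_zero_iff] at ht
      exact ht.elim hy0 hx0
    refine ⟨⟨scaleHom ⟨Units.mk0 t ht0, htf⟩, ⟨_, rfl⟩⟩, Heis.ext ?_ ?_, ?_⟩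
    · show t * x.c = y.c
      rw [hx2, hy2, mul_zero]
    · show t ^ 2 * x.b = y.b
      rw [ht, div_mul_cancel₀ _ hx0]
    · rintro ⟨_, u, rfl⟩ hu
      have h := congrArg Heis.b hu
      change ((u : Fˣ) : F) ^ 2 * x.b = y.b at h
      refine Subtype.ext (congrArg scaleHom (Subtype.ext (Units.ext (frobenius_inj F 2 ?_))))
      rw [Units.val_mk0, frobenius_def, frobenius_def, ht, ← h, mul_div_assoc, div_self hx0, mul_one]

/-- The matrices realising the Heisenberg group inside `SU(3,q)`. -/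
def repMat (g : Heis σ) : Matrix (Fin 3) (Fin 3) F :=
  !![1 + g.b, g.b, σ g.c; g.b, 1 + g.b, σ g.c; g.c, g.c, 1]

theorem repMat_mul (g h : Heis σ) : repMat (g * h) = repMat g * repMat h := by
  ext i j
  fin_cases i <;> fin_cases j <;>
    simp [repMat, Matrix.mul_apply, Fin.sum_univ_three, mul_b, mul_c, map_add] <;>
    ring_nf <;> simp [two0 (F := F)]

theorem repMat_det (g : Heis σ) : (repMat g).det = 1 := by
  rw [repMat, Matrix.det_fin_three]
  simp
  ring_nf
  simp [two0 (F := F)]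

theorem repMat_one : repMat (1 : Heis σ) = 1 := by
  ext i j
  fin_cases i <;> fin_cases j <;> simp [repMat, one_b, one_c]

/-- The Heisenberg group inside `SL(3,F)`. -/
def repSL : Heis σ →* SpecialLinearGroup (Fin 3) F where
  toFun g := ⟨repMat g, repMat_det g⟩
  map_one' := Subtype.ext repMat_one
  map_mul' g h := Subtype.ext (repMat_mul g h)

include hq in
theorem repSL_mem (g : Heis σ) : repSL g ∈ Cfsg.SU 3 F q := by
  intro u v
  change Cfsg.hermForm 3 F q (repMat g *ᵥ u) (repMat g *ᵥ v) = _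
  simp only [Cfsg.hermForm, ← hq.out.2]
  simp [repMat, Matrix.mulVec, dotProduct, Fin.sum_univ_three, map_add, map_mul, hσ.out.invol]
  linear_combination (norm := (ring_nf; simp [two0 (F := F)]))
    ((u 0 + u 1) * (σ (v 0) + σ (v 1))) * g.hb

include hq in
theorem main (n : ℕ) (hn : 2 ≤ n) (hqn : q = 2 ^ n) (S : Sylow 2 (Cfsg.PSU 3 F q)) :
    Nat.card S = q ^ 3 ∧ Nat.card (Subgroup.center ↥(S : Subgroup (Cfsg.PSU 3 F q))) = q ∧
      Cfsg.IsSuzukiTwoGroup ↥(S : Subgroup (Cfsg.PSU 3 F q)) := by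
  haveI : Fact (Nat.Prime 2) := ⟨Nat.prime_two⟩
  have hF := hq.out.1
  have h4 : 4 ≤ q := hqn ▸ (Nat.pow_le_pow_right (by norm_num) hn : 2 ^ 2 ≤ 2 ^ n)
  have hqe : Even q := hqn ▸ Nat.even_pow.2 ⟨even_two, by omega⟩
  haveI : Finite (Heis σ) := Nat.finite_of_card_ne_zero (by rw [card_heis (σ := σ) (q := q)]; positivity)
  have hq3 : q ^ 3 = 2 ^ (3 * n) := by rw [hqn, ← pow_mul, mul_comm]
  -- the centre has odd order
  have hd : Odd (Nat.card (Subgroup.center (Cfsg.SU 3 F q))) := by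
    rw [card_center_SU (F := F) hF (by norm_num)]
    exact Odd.of_dvd_nat (show Odd 3 by decide) (Nat.gcd_dvd_left _ _)
  let ψ : Heis σ →* Cfsg.PSU 3 F q :=
    (QuotientGroup.mk' (Subgroup.center (Cfsg.SU 3 F q))).comp
      ((repSL (σ := σ)).codRestrict _ (repSL_mem (σ := σ) (q := q)))
  have hψ : Function.Injective ψ := by
    refine (injective_iff_map_eq_one _).2 fun g hg => ?_
    set x : Cfsg.SU 3 F q := (repSL (σ := σ)).codRestrict _ (repSL_mem (σ := σ) (q := q)) g with hx
    have hxc : x ∈ Subgroup.center (Cfsg.SU 3 F q) := (QuotientGroup.eq_one_iff _).1 hg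
    have h1 : orderOf x ∣ Nat.card (Subgroup.center (Cfsg.SU 3 F q)) := Subgroup.orderOf_dvd_natCard _ hxc
    have h2 : orderOf x ∣ 2 ^ (3 * n) := by
      refine (orderOf_map_dvd _ g).trans ?_
      rw [← hq3, ← card_heis (σ := σ) (q := q)]
      exact orderOf_dvd_natCard g
    have h3 : x = 1 := orderOf_eq_one_iff.1
      (Nat.eq_one_of_dvd_coprimes (Nat.Coprime.pow_left _ (Nat.coprime_two_left.2 hd)) h2 h1)
    have e1 := congrArg (fun x : Cfsg.SU 3 F q => (x.1.1 : Matrix (Fin 3) (Fin 3) F) 2 0) h3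
    have e2 := congrArg (fun x : Cfsg.SU 3 F q => (x.1.1 : Matrix (Fin 3) (Fin 3) F) 1 0) h3
    simp [hx, repSL, repMat] at e1 e2
    exact Heis.ext e1 e2
  obtain ⟨m, hm, hcard⟩ : ∃ m, Odd m ∧ Nat.card (Cfsg.PSU 3 F q) = 2 ^ (3 * n) * m := by
    have h1 := card_SU_mul (F := F) hF (show 1 ≤ 3 by norm_num)
    rw [card_GU hF 3] at h1
    simp [Finset.prod_range_succ, Nat.even_iff] at h1
    have h2 := Subgroup.card_eq_card_quotient_mul_card_subgroup (Subgroup.center (Cfsg.SU 3 F q))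
    have hdvd : 2 ^ (3 * n) ∣ Nat.card (Cfsg.PSU 3 F q) := by
      rw [← hq3, ← card_heis (σ := σ) (q := q),
        Nat.card_congr (MonoidHom.ofInjective hψ).toEquiv]
      exact Subgroup.card_subgroup_dvd_card _
    obtain ⟨m, hm⟩ := hdvd
    refine ⟨m, ?_, hm⟩
    change Nat.card (Cfsg.SU 3 F q) = Nat.card (Cfsg.PSU 3 F q) * _ at h2
    rw [h2, hm, hq3] at h1
    have h3 : (q + 1) * (m * Nat.card (Subgroup.center (Cfsg.SU 3 F q))) =
        (q + 1) * (q ^ 2 - 1) * (q ^ 3 + 1) := by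
      refine Nat.eq_of_mul_eq_mul_left (by positivity : 0 < 2 ^ (3 * n)) ?_
      rw [← mul_assoc (2 ^ (3 * n)), mul_comm (2 ^ (3 * n)) (q + 1)]
      rw [hq3]
      linarith
    have hq2 : Even (q ^ 2) := hqe.pow_of_ne_zero two_ne_zero
    have ho : Odd ((q + 1) * (q ^ 2 - 1) * (q ^ 3 + 1)) :=
      (hqe.add_one.mul (Nat.Even.sub_odd (Nat.one_le_pow _ _ (by omega)) hq2 odd_one)).mul
        (hqe.pow_of_ne_zero three_ne_zero).add_one
    rw [← h3] at ho
    exact (Nat.odd_mul.1 (Nat.odd_mul.1 ho).2).1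
  haveI : Finite (Cfsg.PSU 3 F q) := inferInstance
  have hH : Nat.card ψ.range = 2 ^ (3 * n) := by
    rw [← Nat.card_congr (MonoidHom.ofInjective hψ).toEquiv, card_heis (σ := σ) (q := q), hq3]
  obtain ⟨f, hf, hS⟩ := CfsgLib.Involution.SylowTwoType.exists_hom_into_sylow hm hcard hH S
  let e : Heis σ ≃* (S : Subgroup (Cfsg.PSU 3 F q)) := (MonoidHom.ofInjective hψ).trans
    (MulEquiv.ofBijective f ((Nat.bijective_iff_injective_and_card f).2 ⟨hf, hH.trans hS.symm⟩))
  refine ⟨by rw [← Nat.card_congr e.toEquiv, card_heis (σ := σ) (q := q)], ?_, ?_⟩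
  · exact (Nat.card_congr (Subgroup.centerCongr e).toEquiv).symm.trans (card_center (σ := σ) (q := q))
  · obtain ⟨-, h2, ⟨a, b, hab⟩, ⟨x, y, hxy, hx, hx2, hy, hy2⟩, K, hK, hKreg⟩ :=
      isSuzuki (σ := σ) (q := q) (by omega)
    have hi : ∀ {x : Heis σ}, e x ≠ 1 ↔ x ≠ 1 := fun {x} => not_congr (map_eq_one_iff e e.injective)
    refine ⟨inferInstance, h2.of_equiv e, ⟨e a, e b, fun h => hab (e.injective (by rw [map_mul, map_mul, h]))⟩,
      ⟨e x, e y, fun h => hxy (e.injective h), hi.2 hx, by rw [← map_mul, hx2, map_one],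
        hi.2 hy, by rw [← map_mul, hy2, map_one]⟩,
      K.map (MulAut.congr e).toMonoidHom,
      isCyclic_of_surjective (K.equivMapOfInjective _ (MulAut.congr e).injective).toMonoidHom
        (MulEquiv.surjective _), ?_⟩
    intro s t hs hs2 ht ht2
    obtain ⟨s, rfl⟩ := e.surjective s
    obtain ⟨t, rfl⟩ := e.surjective t
    have hsq : ∀ {x : Heis σ}, e x * e x = 1 → x * x = 1 := fun {x} h =>
      e.injective (by rw [map_mul, h, map_one])
    obtain ⟨⟨k, hk⟩, hkx, huniq⟩ := hKreg s t (hi.1 hs) (hsq hs2) (hi.1 ht) (hsq ht2)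
    refine ⟨⟨_, Subgroup.mem_map_of_mem _ hk⟩, ?_, ?_⟩
    · show e (k (e.symm (e s))) = e t
      rw [e.symm_apply_apply, hkx]
    · rintro ⟨_, k', hk', rfl⟩ hk''
      change e (k' (e.symm (e s))) = e t at hk''
      rw [e.symm_apply_apply] at hk''
      exact Subtype.ext (congrArg (MulAut.congr e) (congrArg Subtype.val (huniq ⟨k', hk'⟩ (e.injective hk''))))

end CfsgLib.RankOne.UnitarySylow
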