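import Mathlib

/-!
# Additive, biadditive and quadratic maps of a finite field of characteristic two
-/

set_option autoImplicit false
set_option linter.style.haveILetI false

namespace CfsgLib.RankOne.CharTwoMaps

theorem zmod_two : ∀ r : ZMod 2, r = 0 ∨ r = 1 := by decide

variable {F : Type*} [Field F] [Fintype F]

theorem linearIndependent_aut :
    LinearIndependent F (fun σ : F ≃+* F => ((σ : F →+* F) : F → F)) := by
  have h := linearIndependent_monoidHom F F
  refine h.comp (fun σ : F ≃+* F => ((σ : F →+* F) : F →* F)) fun σ τ e => ?_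
  exact RingEquiv.ext fun x => DFunLike.congr_fun e x

variable [CharP F 2]

theorem exists_coeff [Fintype (F ≃+* F)] (f : F →+ F) :
    ∃ c : (F ≃+* F) → F, ∀ x : F, f x = ∑ σ, c σ * σ x := by
  classical
  haveI : Fact (Nat.Prime 2) := ⟨Nat.prime_two⟩
  letI := ZMod.algebra F 2
  haveI : Module.Finite (ZMod 2) F := Module.Finite.of_finite
  set n := Module.finrank (ZMod 2) F with hn
  have hF : Nat.card F = 2 ^ n := by rw [Module.natCard_eq_pow_finrank (K := ZMod 2), Nat.card_zmod]
  have hA : Nat.card (F ≃+* F) = n := by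
    rw [hn, ← IsGalois.card_aut_eq_finrank (ZMod 2) F]
    refine Nat.card_congr
      { toFun := fun σ => AlgEquiv.ofRingEquiv (f := σ) fun a =>
          RingHom.congr_fun (RingHom.ext_zmod ((σ : F →+* F).comp (algebraMap (ZMod 2) F)) _) a
        invFun := fun σ => σ.toRingEquiv
        left_inv := fun σ => RingEquiv.ext fun x => rfl
        right_inv := fun σ => AlgEquiv.ext fun x => rfl }
  have hH : Nat.card (F →+ F) = Nat.card F ^ n := by
    let b := Module.finBasis (ZMod 2) F
    rw [Nat.card_congr (AddMonoidHom.toZModLinearMapEquiv 2 (M := F) (M₁ := F)).toEquiv,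
      Nat.card_congr (b.constr ℕ).symm.toEquiv, Nat.card_fun, Nat.card_fin]
  let Φ : ((F ≃+* F) → F) → (F →+ F) := fun c =>
    { toFun := fun x => ∑ σ, c σ * σ x
      map_zero' := by simp
      map_add' := fun x y => by simp [mul_add, Finset.sum_add_distrib] }
  have hinj : Function.Injective Φ := by
    intro c d h
    have h0 := Fintype.linearIndependent_iff.mp (linearIndependent_aut (F := F)) (c - d) (by
      funext x
      have := DFunLike.congr_fun h x
      simp only [Φ, AddMonoidHom.coe_mk, ZeroHom.coe_mk] at this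
      simp [sub_mul, Finset.sum_sub_distrib, this])
    funext σ
    exact sub_eq_zero.mp (h0 σ)
  haveI : Finite (F →+ F) := Finite.of_injective (fun g : F →+ F => (g : F → F)) DFunLike.coe_injective
  haveI := Fintype.ofFinite (F →+ F)
  have hbij : Function.Bijective Φ := (Fintype.bijective_iff_injective_and_card Φ).mpr ⟨hinj, by
    rw [← Nat.card_eq_fintype_card, ← Nat.card_eq_fintype_card, hH, Nat.card_fun, hA]⟩
  obtain ⟨c, hc⟩ := hbij.2 f
  exact ⟨c, fun x => by rw [← hc]; rfl⟩

theorem exists_coeff_two [Fintype (F ≃+* F)] (B : F →+ F →+ F) :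
    ∃ c : (F ≃+* F) × (F ≃+* F) → F, ∀ x y : F, B x y = ∑ p, c p * (p.1 x * p.2 y) := by
  classical
  choose c hc using fun x => exists_coeff (B x)
  have huniq : ∀ u v : (F ≃+* F) → F, (∀ y, ∑ σ, u σ * σ y = ∑ σ, v σ * σ y) → u = v := by
    intro u v h
    have h0 := Fintype.linearIndependent_iff.mp (linearIndependent_aut (F := F)) (u - v) (by
      funext y
      simp [sub_mul, Finset.sum_sub_distrib, h y])
    funext σ
    exact sub_eq_zero.mp (h0 σ)
  have hadd : ∀ x x' τ, c (x + x') τ = c x τ + c x' τ := fun x x' τ =>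
    congrFun (huniq (c (x + x')) (c x + c x') fun y => by
      rw [← hc, map_add, AddMonoidHom.add_apply, hc, hc, ← Finset.sum_add_distrib]
      simp [add_mul]) τ
  choose d hd using fun τ => exists_coeff (F := F) (AddMonoidHom.mk' (fun x => c x τ) fun x x' => hadd x x' τ)
  refine ⟨fun p => d p.2 p.1, fun x y => ?_⟩
  rw [hc, Fintype.sum_prod_type, Finset.sum_comm]
  refine Finset.sum_congr rfl fun τ _ => ?_
  rw [show c x τ = ∑ σ, d τ σ * σ x from hd τ x, Finset.sum_mul]
  simp [mul_assoc]

theorem exists_coeff_quadratic [Fintype (F ≃+* F)] (q : F → F)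
    (hq : ∀ x y z : F, q (x + y + z) + q (x + y) + q (x + z) + q (y + z) + q x + q y + q z = 0) :
    ∃ c : (F ≃+* F) × (F ≃+* F) → F, ∀ x : F, q x = ∑ p, c p * (p.1 x * p.2 x) := by
  classical
  haveI : Fact (Nat.Prime 2) := ⟨Nat.prime_two⟩
  letI := ZMod.algebra F 2
  haveI : Module.Finite (ZMod 2) F := Module.Finite.of_finite
  have h2 : ∀ z : F, z + z = 0 := CharTwo.add_self_eq_zero
  have hq0 : q 0 = 0 := by
    have := hq 0 0 0
    simp only [add_zero, h2, zero_add] at this
    exact this
  let B : F → F → F := fun x y => q (x + y) + q x + q y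
  have hBadd : ∀ x y z, B (x + z) y = B x y + B z y := fun x y z => by
    have := hq x y z
    simp only [B]
    rw [show x + z + y = x + y + z by ring, show z + y = y + z by ring]
    linear_combination this - 2 * (q (x + y) + q (y + z) + q x + q y + q z) * 0 -
      h2 (q (x + y)) - h2 (q (y + z)) - h2 (q x) - h2 (q y) - h2 (q z)
  have hBsymm : ∀ x y, B x y = B y x := fun x y => by
    simp only [B]; rw [add_comm x y]; ring
  have hBadd' : ∀ x y z, B x (y + z) = B x y + B x z := fun x y z => by
    rw [hBsymm x, hBadd, hBsymm y, hBsymm z]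
  let BL : F →ₗ[ZMod 2] F →ₗ[ZMod 2] F :=
    ((AddMonoidHom.mk' (fun x : F => (AddMonoidHom.mk' (B x) (hBadd' x)).toZModLinearMap 2)
      (fun x z => LinearMap.ext fun y => hBadd x y z)).toZModLinearMap 2)
  let Qm : QuadraticMap (ZMod 2) F F :=
    { toFun := q
      toFun_smul := fun r x => by
        rcases zmod_two r with rfl | rfl <;> simp [hq0]
      exists_companion' := ⟨BL, fun x y => by
        change q (x + y) = q x + q y + (q (x + y) + q x + q y)
        linear_combination -(h2 (q x)) - h2 (q y)⟩ }
  let b := Module.finBasis (ZMod 2) F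
  let T := Qm.toBilin b
  let T' : F →+ F →+ F :=
    AddMonoidHom.mk' (fun x => (T x).toAddMonoidHom) fun x y => by ext z; simp
  obtain ⟨c, hc⟩ := exists_coeff_two T'
  refine ⟨c, fun x => ?_⟩
  rw [← hc x x]
  have := QuadraticMap.toQuadraticMap_toBilin Qm b
  exact (DFunLike.congr_fun this x).symm

end CfsgLib.RankOne.CharTwoMaps
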