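import Mathlib
import Cfsg.Agent.Lib.RankOne.CharTwoMaps

/-!
# Additive maps of a finite field of characteristic two and twists by powers of a generator
-/

set_option autoImplicit false
set_option linter.style.haveILetI false

namespace CfsgLib.RankOne.SuzukiTwoTwist

open Polynomial
open CfsgLib.RankOne

theorem bits {n a b c : ℕ} (hb : b < n) (hc : c < n) (ha : a < n)
    (h : (2 ^ n - 1) ∣ (2 ^ b + 2 ^ c) - (2 ^ a + 1)) (hle : 2 ^ a + 1 ≤ 2 ^ b + 2 ^ c) :
    2 ^ a + 1 = 2 ^ b + 2 ^ c := by
  have h1 : 2 ^ b * 2 ≤ 2 ^ n := by rw [← pow_succ]; exact Nat.pow_le_pow_right two_pos hb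
  have h2 : 2 ^ c * 2 ≤ 2 ^ n := by rw [← pow_succ]; exact Nat.pow_le_pow_right two_pos hc
  have h3 : 1 ≤ 2 ^ a := Nat.one_le_two_pow
  rcases Nat.eq_zero_or_pos (2 ^ b + 2 ^ c - (2 ^ a + 1)) with h4 | h4
  · omega
  · have := Nat.le_of_dvd h4 h
    omega

theorem bits_eq {n a b c : ℕ} (hb : b < n) (hc : c < n) (ha : a < n) (hc0 : c ≠ 0)
    (h : 2 ^ a + 1 ≡ 2 ^ b + 2 ^ c [MOD 2 ^ n - 1]) : b = 0 ∧ a = c := by
  have h1 : 2 ^ b * 2 ≤ 2 ^ n := by rw [← pow_succ]; exact Nat.pow_le_pow_right two_pos hb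
  have h2 : 2 ^ c * 2 ≤ 2 ^ n := by rw [← pow_succ]; exact Nat.pow_le_pow_right two_pos hc
  have h3 : 2 ^ a * 2 ≤ 2 ^ n := by rw [← pow_succ]; exact Nat.pow_le_pow_right two_pos ha
  have h4 : 1 ≤ 2 ^ b := Nat.one_le_two_pow
  have h5 : 2 ≤ 2 ^ c := by
    calc 2 = 2 ^ 1 := rfl
      _ ≤ 2 ^ c := Nat.pow_le_pow_right two_pos (Nat.one_le_iff_ne_zero.mpr hc0)
  have heq : 2 ^ a + 1 = 2 ^ b + 2 ^ c := by
    rcases le_total (2 ^ a + 1) (2 ^ b + 2 ^ c) with hle | hle
    · exact bits hb hc ha ((Nat.modEq_iff_dvd' hle).mp h) hle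
    · rcases Nat.eq_zero_or_pos (2 ^ a + 1 - (2 ^ b + 2 ^ c)) with h6 | h6
      · omega
      · have := Nat.le_of_dvd h6 ((Nat.modEq_iff_dvd' hle).mp h.symm)
        omega
  obtain ⟨c', rfl⟩ := Nat.exists_eq_succ_of_ne_zero hc0
  rw [pow_succ] at heq
  rcases b with _ | b
  · refine ⟨rfl, ?_⟩
    exact Nat.pow_right_injective (le_refl 2) (show 2 ^ a = 2 ^ c'.succ by rw [pow_succ]; omega)
  · exfalso
    rw [pow_succ] at heq
    rcases a with _ | a
    · simp only [pow_zero] at heq; omega
    · rw [pow_succ] at heq; omega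

variable {F : Type*} [Field F] [Fintype F] [Algebra (ZMod 2) F]


theorem card_eq : Fintype.card F = 2 ^ (Module.finrank (ZMod 2) F) := by
  rw [Module.card_eq_pow_finrank (K := ZMod 2), ZMod.card]

theorem charP_two : CharP F 2 := charP_of_injective_algebraMap (algebraMap (ZMod 2) F).injective 2

theorem pow_two_pow_add (d : ℕ) (x y : F) : (x + y) ^ 2 ^ d = x ^ 2 ^ d + y ^ 2 ^ d := by
  haveI := charP_two (F := F)
  haveI : Fact (Nat.Prime 2) := ⟨Nat.prime_two⟩
  exact add_pow_char_pow x y 2 d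

theorem exists_gen : ∃ l : F, l ≠ 0 ∧ orderOf l = 2 ^ (Module.finrank (ZMod 2) F) - 1 := by
  classical
  obtain ⟨g, hg⟩ := IsCyclic.exists_generator (α := Fˣ)
  refine ⟨(g : F), g.ne_zero, ?_⟩
  rw [orderOf_units, orderOf_eq_card_of_forall_mem_zpowers hg, Nat.card_eq_fintype_card,
    Fintype.card_units, card_eq]

theorem aeval_pow_two (p : (ZMod 2)[X]) (x : F) : ∀ t : ℕ, aeval (x ^ 2 ^ t) p = aeval x p ^ 2 ^ t
  | 0 => by simp
  | t + 1 => by
    haveI : Fact (Nat.Prime 2) := ⟨Nat.prime_two⟩
    rw [pow_succ, pow_mul, pow_mul, ← expand_aeval, ZMod.expand_card, map_pow, aeval_pow_two p x t]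

variable {l : F} (hl : orderOf l = 2 ^ (Module.finrank (ZMod 2) F) - 1)
include hl

theorem l_ne_zero (hn : 2 ≤ (Module.finrank (ZMod 2) F)) : l ≠ 0 := by
  rintro rfl
  rw [orderOf_zero] at hl
  have : 2 ^ 2 ≤ 2 ^ (Module.finrank (ZMod 2) F) := Nat.pow_le_pow_right two_pos hn
  omega

theorem pow_eq_pow (hn : 2 ≤ (Module.finrank (ZMod 2) F)) {i j : ℕ} :
    l ^ i = l ^ j ↔ i ≡ j [MOD 2 ^ (Module.finrank (ZMod 2) F) - 1] := by
  let g : Fˣ := Units.mk0 l (l_ne_zero hl hn)
  have hg : orderOf g = 2 ^ (Module.finrank (ZMod 2) F) - 1 := by rw [← hl, ← orderOf_units]; rfl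
  rw [← hg, ← pow_eq_pow_iff_modEq, ← Units.val_inj, Units.val_pow_eq_pow_val, Units.val_pow_eq_pow_val]
  rfl

theorem frob_inj (hn : 2 ≤ (Module.finrank (ZMod 2) F)) {a b : ℕ} (ha : a < (Module.finrank (ZMod 2) F)) (hb : b < (Module.finrank (ZMod 2) F))
    (h : l ^ 2 ^ a = l ^ 2 ^ b) : a = b := by
  have h' := (pow_eq_pow hl hn).mp h
  have h1 : ∀ c, c < (Module.finrank (ZMod 2) F) → 2 ^ c < 2 ^ (Module.finrank (ZMod 2) F) - 1 := fun c hc => by
    have h1 : 2 ^ c * 2 ≤ 2 ^ (Module.finrank (ZMod 2) F) := by rw [← pow_succ]; exact Nat.pow_le_pow_right two_pos hc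
    have : 2 ^ 2 ≤ 2 ^ (Module.finrank (ZMod 2) F) := Nat.pow_le_pow_right two_pos hn
    omega
  exact Nat.pow_right_injective (le_refl 2) (Nat.ModEq.eq_of_lt_of_lt h' (h1 a ha) (h1 b hb))

omit hl in
/-- The additive map with given coefficients. -/
noncomputable def ofCoeff (c : Fin (Module.finrank (ZMod 2) F) → F) : F →+ F where
  toFun x := ∑ d, c d * x ^ 2 ^ (d : ℕ)
  map_zero' := by simp
  map_add' x y := by simp [pow_two_pow_add, mul_add, Finset.sum_add_distrib]

omit hl in
@[simp] theorem ofCoeff_apply (c : Fin (Module.finrank (ZMod 2) F) → F) (x : F) :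
    ofCoeff c x = ∑ d, c d * x ^ 2 ^ (d : ℕ) := rfl

theorem ofCoeff_bijective (hn : 2 ≤ (Module.finrank (ZMod 2) F)) :
    Function.Bijective (ofCoeff : (Fin (Module.finrank (ZMod 2) F) → F) → (F →+ F)) := by
  classical
  haveI : Fact (Nat.Prime 2) := ⟨Nat.prime_two⟩
  have hinj : Function.Injective (ofCoeff : (Fin (Module.finrank (ZMod 2) F) → F) → (F →+ F)) := by
    intro c c' h
    have hli : LinearIndependent F
        (fun d : Fin (Module.finrank (ZMod 2) F) => ((powMonoidHom (2 ^ (d : ℕ)) : F →* F) : F → F)) := by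
      refine (linearIndependent_monoidHom F F).comp _ fun a b e => ?_
      exact Fin.ext (frob_inj hl hn a.2 b.2 (DFunLike.congr_fun e l))
    have h0 := Fintype.linearIndependent_iff.mp hli (c - c') (by
      funext x
      have := DFunLike.congr_fun h x
      simp only [ofCoeff_apply] at this
      simp [sub_mul, Finset.sum_sub_distrib, this])
    funext d
    exact sub_eq_zero.mp (h0 d)
  have hH : Nat.card (F →+ F) = Nat.card F ^ (Module.finrank (ZMod 2) F) := by
    let b := Module.finBasis (ZMod 2) F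
    rw [Nat.card_congr (AddMonoidHom.toZModLinearMapEquiv 2 (M := F) (M₁ := F)).toEquiv,
      Nat.card_congr (b.constr ℕ).symm.toEquiv, Nat.card_fun, Nat.card_fin]
  haveI : Finite (F →+ F) := Finite.of_injective (fun g : F →+ F => (g : F → F)) DFunLike.coe_injective
  haveI := Fintype.ofFinite (F →+ F)
  exact (Fintype.bijective_iff_injective_and_card _).mpr ⟨hinj, by
    rw [← Nat.card_eq_fintype_card, ← Nat.card_eq_fintype_card, hH, Nat.card_fun, Nat.card_fin]⟩

omit hl in
/-- The twist of the `d`-th coefficient under conjugation by multiplication with `l`. -/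
abbrev twist (l : F) (d : ℕ) : F := l / l ^ 2 ^ d

theorem twist_conj (hn : 2 ≤ (Module.finrank (ZMod 2) F)) {d e : ℕ} (hd : d < (Module.finrank (ZMod 2) F)) (he : e < (Module.finrank (ZMod 2) F)) (t : ℕ) (ht : t < (Module.finrank (ZMod 2) F))
    (h : twist l d ^ 2 ^ t = twist l e) : d = e ∧ (d ≠ 0 → t = 0) := by
  have hl0 := l_ne_zero hl hn
  simp only [twist, div_pow, ← pow_mul, ← pow_add] at h
  rw [div_eq_div_iff (pow_ne_zero _ hl0) (pow_ne_zero _ hl0), ← pow_add, ← pow_succ'] at h
  have h' : 2 ^ t + 2 ^ e ≡ 2 ^ (d + t) + 1 [MOD 2 ^ (Module.finrank (ZMod 2) F) - 1] := by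
    have := (pow_eq_pow hl hn).mp h
    rwa [add_comm (2 ^ (d + t)) 1, add_comm 1] 
  set a := (d + t) % (Module.finrank (ZMod 2) F) with ha
  have han : a < (Module.finrank (ZMod 2) F) := Nat.mod_lt _ (by omega)
  have hred : 2 ^ (d + t) ≡ 2 ^ a [MOD 2 ^ (Module.finrank (ZMod 2) F) - 1] := by
    conv_lhs => rw [← Nat.mod_add_div (d + t) (Module.finrank (ZMod 2) F), pow_add, pow_mul, ← ha]
    conv_rhs => rw [← mul_one (2 ^ a), ← one_pow ((d + t) / (Module.finrank (ZMod 2) F))]
    refine (Nat.ModEq.pow _ ?_).mul_left _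
    exact Nat.modEq_sub (Nat.one_le_two_pow)
  have h'' : 2 ^ t + 2 ^ e ≡ 2 ^ a + 1 [MOD 2 ^ (Module.finrank (ZMod 2) F) - 1] := h'.trans (hred.add_right 1)
  by_cases he0 : e = 0
  · subst he0
    have h3 : 2 ^ t ≡ 2 ^ a [MOD 2 ^ (Module.finrank (ZMod 2) F) - 1] := Nat.ModEq.add_right_cancel' 1 (by simpa using h'')
    have h4 : t = a := frob_inj hl hn ht han ((pow_eq_pow hl hn).mpr h3)
    rw [ha] at h4
    have hd0 : d = 0 := by
      by_cases hlt : d + t < (Module.finrank (ZMod 2) F)
      · rw [Nat.mod_eq_of_lt hlt] at h4; omega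
      · rw [Nat.mod_eq_sub_mod (by omega), Nat.mod_eq_of_lt (by omega)] at h4; omega
    exact ⟨hd0, fun h => absurd hd0 h⟩
  · obtain ⟨rfl, h4⟩ := bits_eq ht he han he0 h''.symm
    rw [ha, Nat.mod_eq_of_lt (show d + 0 < (Module.finrank (ZMod 2) F) by omega)] at h4
    exact ⟨by omega, fun _ => rfl⟩

/-- The minimal polynomial of a twist has no other twist as a root. -/
theorem twist_root (hn : 2 ≤ (Module.finrank (ZMod 2) F)) {d e : ℕ} (hd : d < (Module.finrank (ZMod 2) F)) (he : e < (Module.finrank (ZMod 2) F))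
    (h : aeval (twist l e) (minpoly (ZMod 2) (twist l d)) = 0) : d = e := by
  classical
  haveI : Fact (Nat.Prime 2) := ⟨Nat.prime_two⟩
  have hl0 := l_ne_zero hl hn
  by_cases hd0 : d = 0
  · subst hd0
    have hmu : twist l 0 = 1 := by simp [twist, div_self hl0]
    rw [hmu, minpoly.one] at h
    simp only [map_sub, aeval_X, map_one, sub_eq_zero] at h
    exact (twist_conj hl hn he hd 0 (by omega) (by rw [hmu, h]; simp)).1.symm
  set m := minpoly (ZMod 2) (twist l d) with hm
  have hint : IsIntegral (ZMod 2) (twist l d) := Algebra.IsIntegral.isIntegral _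
  set g : F[X] := m.map (algebraMap (ZMod 2) F) with hg
  have hg0 : g ≠ 0 := Polynomial.map_ne_zero (minpoly.ne_zero hint)
  have hroot : ∀ t : ℕ, twist l d ^ 2 ^ t ∈ g.roots.toFinset := fun t => by
    rw [Multiset.mem_toFinset, mem_roots hg0, IsRoot, hg, eval_map_algebraMap, aeval_pow_two, hm, minpoly.aeval, zero_pow (pow_ne_zero _ two_ne_zero)]
  have hinj : Function.Injective (fun t : Fin (Module.finrank (ZMod 2) F) => twist l d ^ 2 ^ (t : ℕ)) := by
    intro t s hts
    wlog hle : (t : ℕ) ≤ s generalizing t s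
    · exact (this hts.symm (by omega)).symm
    obtain ⟨k, hk⟩ := Nat.exists_eq_add_of_le hle
    simp only [hk] at hts
    rw [pow_add, mul_comm, pow_mul] at hts
    haveI := charP_two (F := F)
    have := iterateFrobenius_inj F 2 (t : ℕ) (by simpa [iterateFrobenius_def] using hts.symm)
    exact Fin.ext (by have := (twist_conj hl hn hd hd k (by omega) this).2 hd0; omega)
  have hsub : Finset.univ.image (fun t : Fin (Module.finrank (ZMod 2) F) => twist l d ^ 2 ^ (t : ℕ)) = g.roots.toFinset := by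
    refine Finset.eq_of_subset_of_card_le (fun x hx => ?_) ?_
    · obtain ⟨t, -, rfl⟩ := Finset.mem_image.mp hx
      exact hroot _
    · rw [Finset.card_image_of_injective _ hinj, Finset.card_univ, Fintype.card_fin]
      refine (Multiset.toFinset_card_le _).trans ((card_roots' g).trans ?_)
      rw [hg, natDegree_map]
      exact minpoly.natDegree_le _
  have he' : twist l e ∈ g.roots.toFinset := by
    rw [Multiset.mem_toFinset, mem_roots hg0, IsRoot, hg, eval_map_algebraMap, h]
  rw [← hsub] at he'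
  obtain ⟨t, -, ht⟩ := Finset.mem_image.mp he'
  exact (twist_conj hl hn hd he t t.2 ht).1

/-- Twisted subgroups split into their coordinates. -/
theorem single_mem (hn : 2 ≤ (Module.finrank (ZMod 2) F)) (D : AddSubgroup (Fin (Module.finrank (ZMod 2) F) → F))
    (hD : ∀ c ∈ D, (fun d : Fin (Module.finrank (ZMod 2) F) => twist l d * c d) ∈ D) {c : Fin (Module.finrank (ZMod 2) F) → F} (hc : c ∈ D) (e : Fin (Module.finrank (ZMod 2) F)) :
    Pi.single e (c e) ∈ D := by
  classical
  haveI : Fact (Nat.Prime 2) := ⟨Nat.prime_two⟩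
  have hp : ∀ p : (ZMod 2)[X], (fun d : Fin (Module.finrank (ZMod 2) F) => aeval (twist l d) p * c d) ∈ D := by
    intro p
    induction p using Polynomial.induction_on' with
    | add p q hp hq =>
      have := add_mem hp hq
      convert this using 1
      funext d
      simp [add_mul]
    | monomial k a =>
      have hk : (fun d : Fin (Module.finrank (ZMod 2) F) => twist l d ^ k * c d) ∈ D := by
        induction k with
        | zero => simpa using hc
        | succ k ih =>
          have := hD _ ih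
          convert this using 1
          funext d
          ring
      rcases CharTwoMaps.zmod_two a with rfl | rfl
      · have h0 := D.zero_mem
        convert h0 using 1
        funext d
        simp
      · convert hk using 1
        funext d
        simp [aeval_monomial]
  set P : (ZMod 2)[X] := (∏ d ∈ Finset.univ.erase e, minpoly (ZMod 2) (twist l (d : Fin (Module.finrank (ZMod 2) F)))) ^
    (Fintype.card F - 1) with hP
  have := hp P
  convert this using 1
  funext d
  by_cases hde : d = e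
  · subst hde
    rw [Pi.single_eq_same, hP, map_pow, FiniteField.pow_card_sub_one_eq_one _ ?_, one_mul]
    rw [map_prod]
    refine Finset.prod_ne_zero_iff.mpr fun d' hd' h0 => ?_
    exact (Finset.mem_erase.mp hd').1 (Fin.ext (twist_root hl hn d'.2 d.2 h0))
  · rw [Pi.single_eq_of_ne hde, hP, map_pow, map_prod,
      Finset.prod_eq_zero (Finset.mem_erase.mpr ⟨hde, Finset.mem_univ d⟩) (minpoly.aeval _ _),
      zero_pow (Nat.sub_ne_zero_of_lt Fintype.one_lt_card), zero_mul]

/-- A non-zero coordinate subgroup of a non-trivial twist is as large as the field. -/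
theorem card_single (hn : 2 ≤ (Module.finrank (ZMod 2) F)) (D : AddSubgroup (Fin (Module.finrank (ZMod 2) F) → F))
    (hD : ∀ c ∈ D, (fun d : Fin (Module.finrank (ZMod 2) F) => twist l d * c d) ∈ D) {e : Fin (Module.finrank (ZMod 2) F)} (he : (e : ℕ) ≠ 0) {a : F}
    (ha : a ≠ 0) (hc : Pi.single e a ∈ D) :
    ∀ x : F, Pi.single e x ∈ D := by
  classical
  haveI : Fact (Nat.Prime 2) := ⟨Nat.prime_two⟩
  set μ := twist l (e : ℕ) with hμ
  let S : Set F := {x | Pi.single e (x * a) ∈ D}
  have hS1 : ∀ k, μ ^ k ∈ S := by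
    intro k
    induction k with
    | zero => simpa [S] using hc
    | succ k ih =>
      have := hD _ ih
      show Pi.single e (μ ^ (k + 1) * a) ∈ D
      convert this using 1
      funext d
      by_cases hde : d = e
      · subst hde; simp [← hμ]; ring
      · simp [Pi.single_eq_of_ne hde]
  have hspan : ∀ x ∈ Submodule.span (ZMod 2) (Set.range fun k : Fin (Module.finrank (ZMod 2) F) => μ ^ (k : ℕ)), x ∈ S := by
    intro x hx
    induction hx using Submodule.span_induction with
    | mem x hx => obtain ⟨k, rfl⟩ := hx; exact hS1 _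
    | zero => simp [S]
    | add x y _ _ hx hy =>
      show Pi.single e ((x + y) * a) ∈ D
      rw [add_mul, Pi.single_add]
      exact add_mem hx hy
    | smul r x _ hx =>
      rcases CharTwoMaps.zmod_two r with rfl | rfl
      · simp [S]
      · simpa using hx
  have hint : IsIntegral (ZMod 2) μ := Algebra.IsIntegral.isIntegral _
  have hdeg : (Module.finrank (ZMod 2) F) ≤ (minpoly (ZMod 2) μ).natDegree := by
    set g : F[X] := (minpoly (ZMod 2) μ).map (algebraMap (ZMod 2) F) with hg
    have hg0 : g ≠ 0 := Polynomial.map_ne_zero (minpoly.ne_zero hint)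
    have hinj : Function.Injective (fun t : Fin (Module.finrank (ZMod 2) F) => μ ^ 2 ^ (t : ℕ)) := by
      intro t s hts
      wlog hle : (t : ℕ) ≤ s generalizing t s
      · exact (this hts.symm (by omega)).symm
      obtain ⟨k, hk⟩ := Nat.exists_eq_add_of_le hle
      simp only [hk] at hts
      rw [pow_add, mul_comm, pow_mul] at hts
      haveI := charP_two (F := F)
      have := iterateFrobenius_inj F 2 (t : ℕ) (by simpa [iterateFrobenius_def] using hts.symm)
      exact Fin.ext (by have := (twist_conj hl hn e.2 e.2 k (by omega) this).2 he; omega)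
    calc (Module.finrank (ZMod 2) F) = (Finset.univ.image (fun t : Fin (Module.finrank (ZMod 2) F) => μ ^ 2 ^ (t : ℕ))).card := by
          rw [Finset.card_image_of_injective _ hinj, Finset.card_univ, Fintype.card_fin]
      _ ≤ g.roots.toFinset.card := by
          refine Finset.card_le_card fun x hx => ?_
          obtain ⟨t, -, rfl⟩ := Finset.mem_image.mp hx
          rw [Multiset.mem_toFinset, mem_roots hg0, IsRoot, hg, eval_map_algebraMap, aeval_pow_two, minpoly.aeval, zero_pow (pow_ne_zero _ two_ne_zero)]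
      _ ≤ g.natDegree := (Multiset.toFinset_card_le _).trans (card_roots' g)
      _ = _ := natDegree_map _
  have hli : LinearIndependent (ZMod 2) (fun k : Fin (Module.finrank (ZMod 2) F) => μ ^ (k : ℕ)) :=
    (linearIndependent_pow μ).comp (Fin.castLE hdeg) (Fin.castLE_injective hdeg)
  have htop := hli.span_eq_top_of_card_eq_finrank' (Fintype.card_fin _)
  intro x
  have := hspan (x / a) (htop ▸ Submodule.mem_top)
  simpa [S, div_mul_cancel₀ x ha] using this

end CfsgLib.RankOne.SuzukiTwoTwist
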