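import Cfsg.Prelude.Def_LieRecognition
import Cfsg.Agent.Lib.RankOne.SuzukiTwoExp

/-!
# Higman: Suzuki 2-groups of order `q²` are of type A

The squaring map determines a central extension of an elementary abelian 2-group by an elementary
abelian 2-group.  For `|P| = q²` the squaring map `P / Z(P) → Z(P)` is, in suitable coordinates,
`x ↦ x φ(x)` for an automorphism `φ` of odd order.
-/

set_option autoImplicit false
set_option linter.style.haveILetI false
set_option maxHeartbeats 400000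

namespace CfsgLib.RankOne.SuzukiTwoTypeA

open CfsgLib.RankOne

/-- Two central extensions with the same squaring map are isomorphic, compatibly with both maps. -/
theorem exists_iso_of_squares_compat {F V P T : Type*} [AddCommGroup F] [Finite F] (hF : ∀ z : F, z + z = 0)
    [AddCommGroup V] [Group P] [Group T] [Finite P] [Finite T] (q : V → F)
    (eP : F → P) (eT : F → T) (πP : P → V) (πT : T → V)
    (hePi : Function.Injective eP) (heP : ∀ a b, eP (a + b) = eP a * eP b)
    (hePc : ∀ a x, x * eP a = eP a * x)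
    (hπP : ∀ x y, πP (x * y) = πP x + πP y) (hπPs : Function.Surjective πP)
    (hkP : ∀ x, πP x = 0 ↔ ∃ a, eP a = x) (hqP : ∀ x, x * x = eP (q (πP x)))
    (heTi : Function.Injective eT) (heT : ∀ a b, eT (a + b) = eT a * eT b)
    (heTc : ∀ a x, x * eT a = eT a * x)
    (hπT : ∀ x y, πT (x * y) = πT x + πT y) (hπTs : Function.Surjective πT)
    (hkT : ∀ x, πT x = 0 ↔ ∃ a, eT a = x) (hqT : ∀ x, x * x = eT (q (πT x))) :
    ∃ θ : P ≃* T, (∀ x, πT (θ x) = πP x) ∧ ∀ a, θ (eP a) = eT a := by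
  classical
  have heP0 : eP 0 = 1 := by
    have h := heP 0 0
    rw [add_zero] at h
    exact mul_eq_left.mp h.symm
  have heT0 : eT 0 = 1 := by
    have h := heT 0 0
    rw [add_zero] at h
    exact mul_eq_left.mp h.symm
  have hπP1 : πP 1 = 0 := by
    have h := hπP 1 1
    rw [one_mul] at h
    exact left_eq_add.mp h
  have hπT1 : πT 1 = 0 := by
    have h := hπT 1 1
    rw [one_mul] at h
    exact left_eq_add.mp h
  have hπPi : ∀ x, πP x⁻¹ = -πP x := fun x => by
    have h := hπP x⁻¹ x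
    rw [inv_mul_cancel, hπP1] at h
    exact eq_neg_of_add_eq_zero_left h.symm
  have hπTi : ∀ x, πT x⁻¹ = -πT x := fun x => by
    have h := hπT x⁻¹ x
    rw [inv_mul_cancel, hπT1] at h
    exact eq_neg_of_add_eq_zero_left h.symm
  let D : Subgroup (P × T) :=
    { carrier := {w | πP w.1 = πT w.2}
      one_mem' := by change πP 1 = πT 1; rw [hπP1, hπT1]
      mul_mem' := fun {a b} (ha : πP a.1 = πT a.2) (hb : πP b.1 = πT b.2) => by
        change πP (a.1 * b.1) = πT (a.2 * b.2); rw [hπP, hπT, ha, hb]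
      inv_mem' := fun {a} (ha : πP a.1 = πT a.2) => by
        change πP a.1⁻¹ = πT a.2⁻¹; rw [hπPi, hπTi, ha] }
  let K₀ : Subgroup D :=
    { carrier := {w | ∃ z, w.1 = (eP z, eT z)}
      one_mem' := ⟨0, by rw [heP0, heT0]; rfl⟩
      mul_mem' := fun {a b} ⟨z, hz⟩ ⟨z', hz'⟩ => ⟨z + z', by
        rw [Subgroup.coe_mul, hz, hz', heP, heT, Prod.mk_mul_mk]⟩
      inv_mem' := fun {a} ⟨z, hz⟩ => ⟨z, by
        rw [InvMemClass.coe_inv, hz, Prod.inv_mk]
        refine Prod.ext ?_ ?_
        · exact inv_eq_of_mul_eq_one_right (by rw [← heP, hF, heP0])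
        · exact inv_eq_of_mul_eq_one_right (by rw [← heT, hF, heT0])⟩ }
  haveI : K₀.Normal := ⟨fun a ⟨z, hz⟩ g => ⟨z, by
    rw [Subgroup.coe_mul, Subgroup.coe_mul, InvMemClass.coe_inv, hz]
    refine Prod.ext ?_ ?_
    · simp [hePc z]
    · simp [heTc z]⟩⟩
  let Q := D ⧸ K₀
  have hsq : ∀ w : Q, w * w = 1 := fun w => by
    obtain ⟨⟨⟨x, y⟩, hxy⟩, rfl⟩ := QuotientGroup.mk_surjective w
    rw [← QuotientGroup.mk_mul, QuotientGroup.eq_one_iff]
    exact ⟨q (πP x), Prod.ext (hqP x) (by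
      change y * y = eT (q (πP x)); rw [hqT, show πP x = πT y from hxy])⟩
  letI : CommGroup Q :=
    { (inferInstance : Group Q) with
      mul_comm := fun a b => by
        have h : ∀ c : Q, c⁻¹ = c := fun c => inv_eq_of_mul_eq_one_right (hsq c)
        calc a * b = (a * b)⁻¹ := (h _).symm
          _ = b * a := by rw [mul_inv_rev, h, h] }
  letI : Module (ZMod 2) F := AddCommGroup.zmodModule fun z => by rw [two_nsmul, hF]
  letI : Module (ZMod 2) (Additive Q) := AddCommGroup.zmodModule fun (w : Additive Q) => by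
    rw [two_nsmul]
    exact hsq (Additive.toMul w)
  haveI : Fact (Nat.Prime 2) := ⟨Nat.prime_two⟩
  have hzP : ∀ z, πP (eP z) = 0 := fun z => (hkP _).mpr ⟨z, rfl⟩
  have hzT : ∀ z, πT (eT z) = 0 := fun z => (hkT _).mpr ⟨z, rfl⟩
  let i₀ : F →+ Additive Q :=
    AddMonoidHom.mk' (fun z => Additive.ofMul
      ((⟨(eP z, 1), show πP (eP z) = πT 1 by rw [hzP, hπT1]⟩ : D) : Q)) fun a b => by
        rw [← ofMul_mul, ← QuotientGroup.mk_mul]
        congr 2
        exact Subtype.ext (Prod.ext (heP a b) (one_mul 1).symm)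
  let i : F →ₗ[ZMod 2] Additive Q := i₀.toZModLinearMap 2
  have hi : LinearMap.ker i = ⊥ := by
    refine LinearMap.ker_eq_bot'.mpr fun z hz => ?_
    have h : ((⟨(eP z, 1), show πP (eP z) = πT 1 by rw [hzP, hπT1]⟩ : D) : Q) = 1 := hz
    obtain ⟨z', hz'⟩ := (QuotientGroup.eq_one_iff _).mp h
    have h1 : eP z = eP z' := congrArg Prod.fst hz'
    have h2 : (1 : T) = eT z' := congrArg Prod.snd hz'
    rw [hePi h1]
    exact heTi (h2.symm.trans heT0.symm)
  obtain ⟨ρ, hρ⟩ := i.exists_leftInverse_of_injective hi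
  let R : D → F := fun w => ρ (Additive.ofMul (w : Q))
  have hR : ∀ a b, R (a * b) = R a + R b := fun a b => by
    simp only [R, QuotientGroup.mk_mul, ofMul_mul, map_add]
  have hRz : ∀ z (h : πP (eP z) = πT 1), R ⟨(eP z, 1), h⟩ = z := fun z h =>
    LinearMap.congr_fun hρ z
  have hRz' : ∀ z (h : πP 1 = πT (eT z)), R ⟨(1, eT z), h⟩ = z := fun z h => by
    have hK : R ⟨(eP z, eT z), show πP (eP z) = πT (eT z) by rw [hzP, hzT]⟩ = 0 := by
      have : ((⟨(eP z, eT z), show πP (eP z) = πT (eT z) by rw [hzP, hzT]⟩ : D) : Q) = 1 :=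
        (QuotientGroup.eq_one_iff _).mpr ⟨z, rfl⟩
      simp only [R, this, ofMul_one, map_zero]
    have h' : πP (eP z) = πT 1 := by rw [hzP, hπT1]
    have e : (⟨(eP z, eT z), show πP (eP z) = πT (eT z) by rw [hzP, hzT]⟩ : D) =
        ⟨(eP z, 1), h'⟩ * ⟨(1, eT z), h⟩ := Subtype.ext (by simp)
    rw [e, hR, hRz] at hK
    have h2 := congrArg (fun w => z + w) hK
    simp only [← add_assoc, hF, zero_add, add_zero] at h2
    exact h2
  have hex : ∀ x : P, ∃ y : T, ∃ h : πP x = πT y, R ⟨(x, y), h⟩ = 0 := by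
    intro x
    obtain ⟨y₀, hy₀⟩ := hπTs (πP x)
    set z := R ⟨(x, y₀), hy₀.symm⟩ with hz
    have h : πP x = πT (y₀ * eT z) := by rw [hπT, hzT, add_zero, hy₀]
    refine ⟨y₀ * eT z, h, ?_⟩
    have h' : πP 1 = πT (eT z) := by rw [hzT, hπP1]
    have e : (⟨(x, y₀ * eT z), h⟩ : D) = ⟨(x, y₀), hy₀.symm⟩ * ⟨(1, eT z), h'⟩ := Subtype.ext (by simp)
    rw [e, hR, hRz', ← hz, hF]
  choose θ hθ hθR using hex
  have huniq : ∀ x y (h : πP x = πT y), R ⟨(x, y), h⟩ = 0 → y = θ x := by
    intro x y h h0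
    obtain ⟨z, hz⟩ := (hkT ((θ x)⁻¹ * y)).mp (by rw [hπT, hπTi, ← hθ x, ← h, neg_add_cancel])
    have e : (⟨(x, y), h⟩ : D) = ⟨(x, θ x), hθ x⟩ *
        ⟨(1, eT z), show πP 1 = πT (eT z) by rw [hzT, hπP1]⟩ :=
      Subtype.ext (by simp [hz])
    rw [e, hR, hθR, hRz', zero_add] at h0
    rw [h0, heT0, eq_comm, inv_mul_eq_one] at hz
    exact hz.symm
  let f : P →* T := MonoidHom.mk' θ fun a b => (huniq (a * b) (θ a * θ b)
    (by rw [hπP, hπT, hθ, hθ]) (by
      have e : (⟨(a * b, θ a * θ b), by change πP (a * b) = πT (θ a * θ b); rw [hπP, hπT, hθ, hθ]⟩ : D) =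
          ⟨(a, θ a), hθ a⟩ * ⟨(b, θ b), hθ b⟩ := Subtype.ext (by simp)
      rw [e, hR, hθR, hθR, add_zero])).symm
  refine ⟨MulEquiv.ofBijective f ⟨(injective_iff_map_eq_one f).mpr fun x hx => ?_, fun y => ?_⟩,
    fun x => (hθ x).symm, fun z => (huniq (eP z) (eT z) (by rw [hzP, hzT]) ?_).symm⟩
  · have hx' : θ x = 1 := hx
    obtain ⟨z, rfl⟩ := (hkP x).mp (by rw [hθ x, hx', hπT1])
    have := hθR (eP z)
    simp only [hx'] at this
    rw [hRz] at this
    rw [this, heP0]
  · obtain ⟨x₀, hx₀⟩ := hπPs (πT y)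
    set z := R ⟨(x₀, y), hx₀⟩ with hz
    have h : πP (x₀ * eP z) = πT y := by rw [hπP, hzP, add_zero, hx₀]
    refine ⟨x₀ * eP z, (huniq _ y h ?_).symm⟩
    have h' : πP (eP z) = πT 1 := by rw [hzP, hπT1]
    have e : (⟨(x₀ * eP z, y), h⟩ : D) = ⟨(x₀, y), hx₀⟩ * ⟨(eP z, 1), h'⟩ := Subtype.ext (by simp)
    rw [e, hR, hRz, ← hz, hF]
  · have : ((⟨(eP z, eT z), show πP (eP z) = πT (eT z) by rw [hzP, hzT]⟩ : D) : Q) = 1 :=
      (QuotientGroup.eq_one_iff _).mpr ⟨z, rfl⟩
    simp only [R, this, ofMul_one, map_zero]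

/-- Two central extensions with the same squaring map are isomorphic. -/
theorem exists_iso_of_squares {F V P T : Type*} [AddCommGroup F] [Finite F] (hF : ∀ z : F, z + z = 0)
    [AddCommGroup V] [Group P] [Group T] [Finite P] [Finite T] (q : V → F)
    (eP : F → P) (eT : F → T) (πP : P → V) (πT : T → V)
    (hePi : Function.Injective eP) (heP : ∀ a b, eP (a + b) = eP a * eP b)
    (hePc : ∀ a x, x * eP a = eP a * x)
    (hπP : ∀ x y, πP (x * y) = πP x + πP y) (hπPs : Function.Surjective πP)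
    (hkP : ∀ x, πP x = 0 ↔ ∃ a, eP a = x) (hqP : ∀ x, x * x = eP (q (πP x)))
    (heTi : Function.Injective eT) (heT : ∀ a b, eT (a + b) = eT a * eT b)
    (heTc : ∀ a x, x * eT a = eT a * x)
    (hπT : ∀ x y, πT (x * y) = πT x + πT y) (hπTs : Function.Surjective πT)
    (hkT : ∀ x, πT x = 0 ↔ ∃ a, eT a = x) (hqT : ∀ x, x * x = eT (q (πT x))) :
    Nonempty (P ≃* T) :=
  let ⟨θ, _⟩ := exists_iso_of_squares_compat hF q eP eT πP πT hePi heP hePc hπP hπPs hkP hqP heTi heT heTc hπT hπTs hkT hqT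
  ⟨θ⟩

section Model

variable {F : Type*} [Field F] [Fintype F] [CharP F 2] (φ : F →+* F)

/-- The lower unitriangular matrix `(x, y)`. -/
def mat (x y : F) : Matrix (Fin 3) (Fin 3) F := !![1, 0, 0; x, 1, 0; y, φ x, 1]

omit [Fintype F] [CharP F 2] in
theorem mat_mul (x y x' y' : F) : mat φ x y * mat φ x' y' = mat φ (x + x') (y + y' + φ x * x') := by
  ext i j
  fin_cases i <;> fin_cases j <;> simp [mat, Matrix.mul_apply, Fin.sum_univ_three] <;> ring

omit [Fintype F] [CharP F 2] in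
theorem mat_zero : mat φ 0 0 = 1 := by
  ext i j
  fin_cases i <;> fin_cases j <;> simp [mat]

omit [Fintype F] in
theorem mat_inv (x y : F) : mat φ x (y + φ x * x) * mat φ x y = 1 ∧ mat φ x y * mat φ x (y + φ x * x) = 1 := by
  rw [mat_mul, mat_mul, CharTwo.add_self_eq_zero, ← mat_zero φ]
  have : ∀ a b : F, a + b + a + b = 0 := fun a b => by
    linear_combination CharTwo.add_self_eq_zero a + CharTwo.add_self_eq_zero b
  exact ⟨by rw [show y + φ x * x + y + φ x * x = 0 from this y _],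
    by rw [show y + (y + φ x * x) + φ x * x = 0 by linear_combination this y (φ x * x)]⟩

/-- The matrix as an element of the general linear group. -/
def unit (x y : F) : GL (Fin 3) F :=
  ⟨mat φ x y, mat φ x (y + φ x * x), (mat_inv φ x y).2, (mat_inv φ x y).1⟩

omit [Fintype F] in
theorem unit_mul (x y x' y' : F) :
    unit φ x y * unit φ x' y' = unit φ (x + x') (y + y' + φ x * x') := Units.ext (mat_mul φ x y x' y')

omit [Fintype F] in
theorem unit_inj {x y x' y' : F} (h : unit φ x y = unit φ x' y') : x = x' ∧ y = y' := by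
  have h' : mat φ x y = mat φ x' y' := congrArg Units.val h
  exact ⟨by simpa [mat] using congrFun (congrFun h' 1) 0, by simpa [mat] using congrFun (congrFun h' 2) 0⟩

omit [Fintype F] in
theorem mem_typeA {g : GL (Fin 3) F} : g ∈ Cfsg.suzukiTypeA F φ ↔ ∃ x y, g = unit φ x y := by
  constructor
  · intro hg
    induction hg using Subgroup.closure_induction with
    | mem g hg => obtain ⟨x, y, h⟩ := hg; exact ⟨x, y, Units.ext h⟩
    | one => exact ⟨0, 0, Units.ext (mat_zero φ).symm⟩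
    | mul a b _ _ ha hb =>
      obtain ⟨x, y, rfl⟩ := ha
      obtain ⟨x', y', rfl⟩ := hb
      exact ⟨_, _, unit_mul φ x y x' y'⟩
    | inv a _ ha =>
      obtain ⟨x, y, rfl⟩ := ha
      exact ⟨x, y + φ x * x, Units.ext rfl⟩
  · rintro ⟨x, y, rfl⟩
    exact Subgroup.subset_closure ⟨x, y, rfl⟩

/-- A group with centre map `e` and squaring map `x ↦ φ x * x` is of type A. -/
theorem iso_typeA {P : Type*} [Group P] [Finite P] (e : F → P) (π : P → F)
    (hei : Function.Injective e) (he : ∀ a b, e (a + b) = e a * e b) (hec : ∀ a x, x * e a = e a * x)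
    (hπ : ∀ x y, π (x * y) = π x + π y) (hπs : Function.Surjective π)
    (hk : ∀ x, π x = 0 ↔ ∃ a, e a = x) (hq : ∀ x, x * x = e (φ (π x) * π x)) :
    Nonempty (P ≃* Cfsg.suzukiTypeA F φ) := by
  let T := Cfsg.suzukiTypeA F φ
  let u : F → F → T := fun x y => ⟨unit φ x y, (mem_typeA φ).mpr ⟨x, y, rfl⟩⟩
  have hu : ∀ t : T, ∃ x y, t = u x y := fun t => by
    obtain ⟨x, y, h⟩ := (mem_typeA φ).mp t.2
    exact ⟨x, y, Subtype.ext h⟩
  have humul : ∀ x y x' y', u x y * u x' y' = u (x + x') (y + y' + φ x * x') := fun x y x' y' =>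
    Subtype.ext (unit_mul φ x y x' y')
  haveI : Finite T := Finite.of_surjective (fun w : F × F => u w.1 w.2) fun t => by
    obtain ⟨x, y, rfl⟩ := hu t
    exact ⟨(x, y), rfl⟩
  let πT : T → F := fun t => ((t.1 : GL (Fin 3) F) : Matrix (Fin 3) (Fin 3) F) 1 0
  have hπu : ∀ x y, πT (u x y) = x := fun x y => by simp [πT, u, unit, mat]
  refine exists_iso_of_squares (fun z => CharTwo.add_self_eq_zero z) (fun x => φ x * x) e (u 0) π πT
    hei he hec hπ hπs hk hq (fun a b h => ?_) (fun a b => ?_) (fun a x => ?_) (fun s t => ?_)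
    (fun x => ⟨u x 0, hπu x 0⟩) (fun t => ?_) fun t => ?_
  · exact (unit_inj φ (congrArg Subtype.val h)).2
  · rw [humul]; simp
  · obtain ⟨x', y', rfl⟩ := hu x
    rw [humul, humul]; simp [add_comm]
  · obtain ⟨x, y, rfl⟩ := hu s
    obtain ⟨x', y', rfl⟩ := hu t
    rw [humul, hπu, hπu, hπu]
  · obtain ⟨x, y, rfl⟩ := hu t
    rw [hπu]
    refine ⟨?_, ?_⟩
    · rintro rfl; exact ⟨y, rfl⟩
    · rintro ⟨a, ha⟩; exact (unit_inj φ (congrArg Subtype.val ha)).1.symm
  · obtain ⟨x, y, rfl⟩ := hu t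
    rw [humul, hπu, CharTwo.add_self_eq_zero, CharTwo.add_self_eq_zero, zero_add]

end Model

universe u v

/-- A commutative group transitive on the non-zero elements of an elementary abelian 2-group acts as
the multiplicative group of a field. -/
theorem exists_field_of_trans {V : Type u} [AddCommGroup V] [Finite V] (hV : ∀ v : V, v + v = 0)
    {A : Type v} [CommGroup A] (act : A →* AddMonoid.End V) (v₀ : V) (hv₀ : v₀ ≠ 0)
    (htr : ∀ v : V, v ≠ 0 → ∃ a, act a v₀ = v) :
    ∃ (K : Type u) (_ : Field K) (_ : Fintype K) (_ : Algebra (ZMod 2) K) (e : K → V),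
      Function.Bijective e ∧ (∀ x y, e (x + y) = e x + e y) ∧ e 1 = v₀ ∧
      (∀ a, ∃ s : K, s ≠ 0 ∧ ∀ x, act a (e x) = e (s * x)) ∧
      (∀ s : K, s ≠ 0 → ∃ a, ∀ x, act a (e x) = e (s * x)) := by
  classical
  let K := Subring.centralizer (Set.range act)
  have hactK : ∀ a, act a ∈ K := fun a => Subring.mem_centralizer_iff.mpr (by
    rintro _ ⟨b, rfl⟩
    rw [← map_mul, ← map_mul, mul_comm])
  have hdet : ∀ f g : K, f.1 v₀ = g.1 v₀ → f = g := fun f g h => Subtype.ext <|
    DFunLike.ext _ _ fun v => by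
      by_cases hv : v = 0
      · rw [hv, map_zero, map_zero]
      · obtain ⟨a, rfl⟩ := htr v hv
        have hf := DFunLike.congr_fun (Subring.mem_centralizer_iff.mp f.2 _ ⟨a, rfl⟩) v₀
        have hg := DFunLike.congr_fun (Subring.mem_centralizer_iff.mp g.2 _ ⟨a, rfl⟩) v₀
        change act a (f.1 v₀) = f.1 (act a v₀) at hf
        change act a (g.1 v₀) = g.1 (act a v₀) at hg
        rw [← hf, ← hg, h]
  have hcases : ∀ f : K, f = 0 ∨ ∃ a, f = ⟨act a, hactK a⟩ := fun f => by
    by_cases hf : f.1 v₀ = 0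
    · exact Or.inl (hdet f 0 hf)
    · obtain ⟨a, ha⟩ := htr _ hf
      exact Or.inr ⟨a, hdet f _ ha.symm⟩
  have hne : ∀ a, (⟨act a, hactK a⟩ : K) ≠ 0 := fun a h => by
    refine hv₀ ?_
    have h1 : act a = 0 := congrArg Subtype.val h
    have h2 : act (a⁻¹ * a) v₀ = act a⁻¹ (act a v₀) := by rw [map_mul]; rfl
    rw [inv_mul_cancel, map_one, h1] at h2
    exact h2.trans (map_zero _)
  have hfield : IsField K := by
    refine ⟨⟨0, 1, fun e => hv₀ (congrArg (fun f : K => f.1 v₀) e).symm⟩, fun f g => ?_,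
      fun {f} hf => ?_⟩
    · rcases hcases f with rfl | ⟨a, rfl⟩
      · simp
      rcases hcases g with rfl | ⟨b, rfl⟩
      · simp
      exact Subtype.ext (by change act a * act b = act b * act a; rw [← map_mul, ← map_mul, mul_comm])
    · obtain rfl | ⟨a, rfl⟩ := hcases f
      · exact absurd rfl hf
      refine ⟨⟨act a⁻¹, hactK _⟩, Subtype.ext ?_⟩
      change act a * act a⁻¹ = 1
      rw [← map_mul, mul_inv_cancel, map_one]
  letI : Field K := hfield.toField
  let ev : K → V := fun f => f.1 v₀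
  have hev : Function.Bijective ev := ⟨hdet, fun v => by
    by_cases hv : v = 0
    · exact ⟨0, hv.symm⟩
    · obtain ⟨a, ha⟩ := htr v hv
      exact ⟨⟨act a, hactK a⟩, ha⟩⟩
  haveI : Finite K := Finite.of_injective ev hev.1
  haveI : Fintype K := Fintype.ofFinite _
  have htwo : (2 : K) = 0 := hev.1 (by
    change (2 : K).1 v₀ = (0 : K).1 v₀
    rw [show (2 : K).1 v₀ = v₀ + v₀ by rw [← one_add_one_eq_two]; rfl, hV]
    rfl)
  haveI : CharP K 2 := CharTwo.of_one_ne_zero_of_two_eq_zero one_ne_zero htwo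
  letI : Algebra (ZMod 2) K := ZMod.algebra K 2
  refine ⟨K, inferInstance, inferInstance, inferInstance, ev, hev, fun x y => rfl, rfl,
    fun a => ⟨⟨act a, hactK a⟩, hne a, fun x => rfl⟩, fun s hs => ?_⟩
  obtain rfl | ⟨a, rfl⟩ := hcases s
  · exact absurd rfl hs
  exact ⟨a, fun x => rfl⟩

section Field

variable {F : Type*} [Field F] [Fintype F] [CharP F 2]

/-- A multiplicative quadratic map is `x ↦ σ x * τ x`. -/
theorem exists_mul_aut (h : F →* F) (hq : ∀ x y z : F,
    h (x + y + z) + h (x + y) + h (x + z) + h (y + z) + h x + h y + h z = 0) :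
    ∃ σ τ : F ≃+* F, ∀ x, h x = σ x * τ x := by
  classical
  haveI : Finite (F ≃+* F) := Finite.of_injective (fun σ : F ≃+* F => (σ : F → F)) DFunLike.coe_injective
  haveI : Fintype (F ≃+* F) := Fintype.ofFinite _
  obtain ⟨c, hc⟩ := CharTwoMaps.exists_coeff_quadratic (h : F → F) hq
  by_contra hne
  push Not at hne
  let g : (F ≃+* F) × (F ≃+* F) → (F →* F) := fun w => (w.1 : F →* F) * (w.2 : F →* F)
  have hgh : h ∉ Finset.univ.image g := by
    rw [Finset.mem_image]
    rintro ⟨⟨σ, τ⟩, -, e⟩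
    obtain ⟨x, hx⟩ := hne σ τ
    exact hx (DFunLike.congr_fun e x).symm
  have hli := linearIndependent_monoidHom F F
  refine hli.notMem_span_image (s := (↑(Finset.univ.image g) : Set (F →* F))) (by simpa using hgh) ?_
  have : (h : F → F) = ∑ w, c w • (fun f : F →* F => (f : F → F)) (g w) := by
    funext x
    simp only [Finset.sum_apply, Pi.smul_apply, smul_eq_mul]
    rw [hc x]
    rfl
  change (h : F → F) ∈ _
  rw [this]
  refine Submodule.sum_mem _ fun w _ => Submodule.smul_mem _ _ (Submodule.subset_span ?_)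
  exact ⟨g w, by simp, rfl⟩

/-- If `x ↦ x * φ x` is injective then `φ` has odd order. -/
theorem odd_orderOf [Finite (F ≃+* F)] (φ : F ≃+* F) (hinj : Function.Injective fun x : F => φ x * x) :
    Odd (orderOf φ) := by
  classical
  haveI : Fact (Nat.Prime 2) := ⟨Nat.prime_two⟩
  rw [← Nat.not_even_iff_odd]
  intro hev
  obtain ⟨d, hd⟩ := hev
  letI := ZMod.algebra F 2
  have hcomm : ∀ (σ : F ≃+* F) (r : ZMod 2), σ (algebraMap (ZMod 2) F r) = algebraMap (ZMod 2) F r :=
    fun σ r => RingHom.congr_fun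
      (RingHom.ext_zmod ((σ : F →+* F).comp (algebraMap (ZMod 2) F)) _) r
  let f : (F ≃+* F) →* (F ≃ₐ[ZMod 2] F) :=
    { toFun := fun σ => AlgEquiv.ofRingEquiv (f := σ) (hcomm σ)
      map_one' := AlgEquiv.ext fun _ => rfl
      map_mul' := fun σ τ => AlgEquiv.ext fun _ => rfl }
  have hfinj : Function.Injective f := fun σ τ e => RingEquiv.ext fun x =>
    AlgEquiv.congr_fun e x
  set ψ := f φ with hψ
  have hord : orderOf ψ = orderOf φ := orderOf_injective f hfinj φ
  haveI : Module.Finite (ZMod 2) F := Module.Finite.of_finite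
  have hnot : ψ ∉ Subgroup.zpowers (ψ ^ 2) := by
    intro h
    have h1 : Subgroup.zpowers ψ ≤ Subgroup.zpowers (ψ ^ 2) := Subgroup.zpowers_le.mpr h
    have h2 := Subgroup.card_le_of_le h1
    rw [Nat.card_zpowers, Nat.card_zpowers, orderOf_pow ψ, hord, hd] at h2
    have h3 : 0 < orderOf φ := orderOf_pos φ
    have h4 : Nat.gcd (d + d) 2 = 2 := Nat.gcd_eq_right ⟨d, by ring⟩
    rw [h4] at h2
    omega
  rw [← IntermediateField.fixingSubgroup_fixedField (Subgroup.zpowers (ψ ^ 2)),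
    IntermediateField.mem_fixingSubgroup_iff] at hnot
  push Not at hnot
  obtain ⟨u, hu, hu'⟩ := hnot
  have hu2 : φ (φ u) = u := hu ⟨ψ ^ 2, Subgroup.mem_zpowers _⟩
  have hu0 : u ≠ 0 := fun h => hu' (by rw [h, map_zero])
  have hφu : φ u ≠ 0 := by simpa using hu0
  have h1 : φ (u / φ u) * (u / φ u) = φ 1 * 1 := by
    rw [map_div₀, hu2, map_one, one_mul]
    field_simp
  have h2 := hinj h1
  rw [div_eq_one_iff_eq hφu] at h2
  exact hu' h2.symm

end Field

/-- Higman: coordinates of a Suzuki 2-group of order `q²`, in which the group `A` acts by scalars. -/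
theorem exists_coords {P : Type u} [Group P] [Finite P] {A : Type v} [CommGroup A] {φ : A →* MulAut P}
    (hP : IsPGroup 2 P) (hA : SuzukiTwo.Trans φ) (hna : ∃ x y : P, x * y ≠ y * x)
    (htwo : ∃ x y : P, x ≠ y ∧ x ≠ 1 ∧ x * x = 1 ∧ y ≠ 1 ∧ y * y = 1)
    (hcard : Nat.card P = Nat.card (Subgroup.center P) ^ 2) :
    ∃ (F : Type u) (_ : Field F) (_ : Fintype F) (ψ : F ≃+* F),
      Fintype.card F = Nat.card (Subgroup.center P) ∧ ψ ≠ RingEquiv.refl F ∧
      (Function.Injective fun x : F => ψ x * x) ∧ ∃ (eF : F → P) (π : P → F),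
        Function.Injective eF ∧ (∀ a b, eF (a + b) = eF a * eF b) ∧ (∀ a x, x * eF a = eF a * x) ∧
        (∀ x y, π (x * y) = π x + π y) ∧ Function.Surjective π ∧
        (∀ x, π x = 0 ↔ ∃ a, eF a = x) ∧ (∀ x, x * x = eF (ψ (π x) * π x)) ∧
        (∀ a : A, ∃ k : F, k ≠ 0 ∧ ∀ x, π (φ a x) = k * π x) ∧
        (∀ k : F, k ≠ 0 → ∃ a : A, ∀ x, π (φ a x) = k * π x) := by
  classical
  haveI : Fact (Nat.Prime 2) := ⟨Nat.prime_two⟩
  have hsq := SuzukiTwoExp.sq_mem_center hP hA hna htwo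
  have hZ : ∀ {x : P}, x ∈ Subgroup.center P ↔ x * x = 1 := fun {x} =>
    SuzukiTwoExp.mem_center_iff' hP hA hna
  obtain ⟨F, iF, iFt, iFa, e, hei, he, hrange, hsc, hsc', hn⟩ :=
    SuzukiTwoExp.exists_field hP hA hna htwo
  haveI hF2 : CharP F 2 := SuzukiTwoTwist.charP_two
  have he0 : e 0 = 1 := by
    have h := he 0 0
    rw [add_zero] at h
    exact mul_eq_left.mp h.symm
  have hez : ∀ a, e a * e a = 1 := fun a => (hrange _).mpr ⟨a, rfl⟩
  have hec : ∀ a x, x * e a = e a * x := fun a x => Subgroup.mem_center_iff.mp (hZ.mpr (hez a)) x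
  have hcz : Nat.card (Subgroup.center P) = Nat.card F :=
    (Nat.card_congr (Equiv.ofBijective (fun a => (⟨e a, hZ.mpr (hez a)⟩ : Subgroup.center P))
      ⟨fun x y h => hei (congrArg Subtype.val h), fun z => by
        obtain ⟨a, ha⟩ := (hrange z.1).mp (hZ.mp z.2)
        exact ⟨a, Subtype.ext ha⟩⟩)).symm
  -- the quotient
  let Q := P ⧸ Subgroup.center P
  have hsq1 : ∀ a : Q, a * a = 1 := fun a => by
    obtain ⟨x, rfl⟩ := QuotientGroup.mk_surjective a
    rw [← QuotientGroup.mk_mul, QuotientGroup.eq_one_iff]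
    exact hsq x
  letI : CommGroup Q :=
    { (inferInstance : Group Q) with
      mul_comm := fun a b => by
        have h : ∀ c : Q, c⁻¹ = c := fun c => inv_eq_of_mul_eq_one_right (hsq1 c)
        calc a * b = (a * b)⁻¹ := (h _).symm
          _ = b * a := by rw [mul_inv_rev, h, h] }
  have hcQ : Nat.card (Additive Q) = Nat.card F := by
    have h := Subgroup.card_eq_card_quotient_mul_card_subgroup (Subgroup.center P)
    rw [hcard, hcz, pow_two] at h
    rw [← Nat.card_congr (Additive.ofMul (α := Q))]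
    exact (Nat.eq_of_mul_eq_mul_right Nat.card_pos h).symm
  choose sq hsqe using fun x : P => (hrange (x * x)).mp (hZ.mp (hsq x))
  have hsqz : ∀ x z, z ∈ Subgroup.center P → sq (x * z) = sq x := fun x z hz => hei (by
    rw [hsqe, hsqe]
    calc x * z * (x * z) = x * (z * x) * z := by group
      _ = x * x * (z * z) := by rw [← Subgroup.mem_center_iff.mp hz x]; group
      _ = x * x := by rw [hZ.mp hz, mul_one])
  let r : Additive Q → F := fun v => sq (Additive.toMul v).out
  have hr : ∀ x : P, r (Additive.ofMul (x : Q)) = sq x := fun x => by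
    have h := QuotientGroup.eq.mp (QuotientGroup.out_eq' (x : Q))
    calc sq (x : Q).out = sq ((x : Q).out * ((x : Q).out⁻¹ * x)) := (hsqz _ _ h).symm
      _ = sq x := by rw [mul_inv_cancel_left]
  have hr0 : ∀ v, r v = 0 ↔ v = 0 := fun v => by
    obtain ⟨x, hx⟩ := QuotientGroup.mk_surjective (Additive.toMul v)
    rw [show v = Additive.ofMul (x : Q) from hx ▸ rfl, hr]
    constructor
    · intro h
      have : x * x = 1 := by rw [← hsqe, h, he0]
      exact ((QuotientGroup.eq_one_iff x).mpr (hZ.mpr this) : (x : Q) = 1)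
    · intro h
      have hx1 : (x : Q) = 1 := h
      exact hei (by rw [hsqe, hZ.mp ((QuotientGroup.eq_one_iff x).mp hx1), he0])
  have hcen : ∀ a : A, (Subgroup.center P).map (φ a).toMonoidHom = Subgroup.center P := fun a => by
    refine le_antisymm ?_ fun z hz => ⟨φ a⁻¹ z, MulEquivClass.apply_mem_center _ hz, by simp⟩
    rintro _ ⟨z, hz, rfl⟩
    exact MulEquivClass.apply_mem_center (φ a) hz
  let qh := SuzukiTwo.quotientHom (φ := φ) (Subgroup.center P) hcen
  let act : A →* AddMonoid.End (Additive Q) :=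
    { toFun := fun a => MonoidHom.toAdditive (qh a).toMonoidHom
      map_one' := DFunLike.ext _ _ fun v => by
        change Additive.ofMul (qh 1 (Additive.toMul v)) = v
        rw [map_one]; rfl
      map_mul' := fun a b => DFunLike.ext _ _ fun v => by
        change Additive.ofMul (qh (a * b) (Additive.toMul v)) = Additive.ofMul (qh a (qh b (Additive.toMul v)))
        rw [map_mul]; rfl }
  have hract : ∀ (a : A) (s : F), (∀ x, φ a (e x) = e (s * x)) → ∀ v, r (act a v) = s * r v := by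
    intro a s hs v
    obtain ⟨x, hx⟩ := QuotientGroup.mk_surjective (Additive.toMul v)
    rw [show v = Additive.ofMul (x : Q) from hx ▸ rfl, hr]
    refine (hr (φ a x)).trans (hei ?_)
    rw [hsqe, ← map_mul, ← hsqe, hs]
  obtain ⟨x₁, hx₁⟩ : ∃ x₁ : P, x₁ ∉ Subgroup.center P := by
    obtain ⟨x, y, hxy⟩ := hna
    exact ⟨y, fun h => hxy (Subgroup.mem_center_iff.mp h x)⟩
  set v₀ : Additive Q := Additive.ofMul (x₁ : Q) with hv₀d
  have hv₀ : v₀ ≠ 0 := fun h => hx₁ ((QuotientGroup.eq_one_iff x₁).mp h)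
  haveI : Finite (Additive Q) := Finite.of_equiv Q Additive.ofMul
  have hsurj : Function.Surjective r := by
    intro c
    by_cases hc : c = 0
    · exact ⟨0, by rw [hc]; exact (hr0 0).mpr rfl⟩
    have h0 : r v₀ ≠ 0 := fun h => hv₀ ((hr0 _).mp h)
    obtain ⟨a, ha⟩ := hsc' (c / r v₀) (div_ne_zero hc h0)
    exact ⟨act a v₀, by rw [hract a _ ha, div_mul_cancel₀ c h0]⟩
  have hrinj : Function.Injective r := by
    have := (Finite.card_eq.mp hcQ).some
    exact ((Finite.injective_iff_surjective_of_equiv this).mpr hsurj)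
  have htr : ∀ v : Additive Q, v ≠ 0 → ∃ a, act a v₀ = v := by
    intro v hv
    have h0 : r v₀ ≠ 0 := fun h => hv₀ ((hr0 _).mp h)
    have h1 : r v ≠ 0 := fun h => hv ((hr0 _).mp h)
    obtain ⟨a, ha⟩ := hsc' (r v / r v₀) (div_ne_zero h1 h0)
    exact ⟨a, hrinj (by rw [hract a _ ha, div_mul_cancel₀ _ h0])⟩
  obtain ⟨K, iK, iKt, iKa, e', he'b, he'a, he'1, hK, hK'⟩ :=
    exists_field_of_trans (fun v : Additive Q => hsq1 (Additive.toMul v)) act v₀ hv₀ htr
  have hcard' : Fintype.card F = Fintype.card K := by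
    rw [← Nat.card_eq_fintype_card, ← Nat.card_eq_fintype_card, Nat.card_congr (Equiv.ofBijective e' he'b),
      hcQ]
  let ψ : F ≃+* K := FiniteField.ringEquivOfCardEq hcard'
  set c₀ := r v₀ with hc₀d
  have hc₀ : c₀ ≠ 0 := fun h => hv₀ ((hr0 _).mp h)
  have hmulr : ∀ s t : K, r (e' (s * t)) * c₀ = r (e' s) * r (e' t) := by
    intro s t
    by_cases hs : s = 0
    · subst hs
      have : e' 0 = 0 := by
        have h := he'a 0 0
        rw [add_zero] at h
        exact left_eq_add.mp h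
      rw [zero_mul, this, (hr0 0).mpr rfl]; simp
    have hes : e' s ≠ 0 := fun h => hs (he'b.1 (by
      rw [h]
      have h' := he'a 0 0
      rw [add_zero] at h'
      exact (left_eq_add.mp h').symm))
    obtain ⟨a, ha⟩ := htr _ hes
    obtain ⟨s', -, hs'⟩ := hK a
    have : s' = s := he'b.1 (by rw [← ha, ← he'1, hs', mul_one])
    subst this
    obtain ⟨t', -, ht'⟩ := hsc a
    have h1 : r (e' (s' * t)) = t' * r (e' t) := by rw [← hs', hract a t' ht']
    have h2 : r (e' s') = t' * c₀ := by rw [← ha, hract a t' ht']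
    rw [h1, h2]; ring
  let h : F →* F :=
    { toFun := fun x => r (e' (ψ x)) / c₀
      map_one' := by rw [map_one, he'1, div_self hc₀]
      map_mul' := fun x y => by
        rw [map_mul]
        field_simp
        linear_combination hmulr (ψ x) (ψ y) }
  choose β hβ using fun x y : P => (hrange (SuzukiTwoExp.comm x y)).mp (hZ.mp (by
    rw [show SuzukiTwoExp.comm x y = x * x * (x⁻¹ * y * (x⁻¹ * y)) * (y * y)⁻¹ by
      simp only [SuzukiTwoExp.comm]; group]
    exact mul_mem (mul_mem (hsq _) (hsq _)) (inv_mem (hsq _)) : SuzukiTwoExp.comm x y ∈ Subgroup.center P))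
  have hcc : ∀ x y g, g * SuzukiTwoExp.comm x y = SuzukiTwoExp.comm x y * g := fun x y g => by
    rw [← hβ]; exact hec _ g
  have hsqmul : ∀ x y, sq (x * y) = sq x + sq y + β y x := fun x y => hei (by
    rw [he, he, hsqe, hsqe, hsqe, hβ]
    calc x * y * (x * y) = x * SuzukiTwoExp.comm y x * (x * y * y) := by
          simp only [SuzukiTwoExp.comm]; group
      _ = SuzukiTwoExp.comm y x * (x * x * (y * y)) := by rw [hcc]; group
      _ = _ := (hcc _ _ _).symm)
  have hβr : ∀ x y y', β x (y * y') = β x y + β x y' := fun x y y' => hei (by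
    rw [he, hβ, hβ, hβ]
    calc SuzukiTwoExp.comm x (y * y') =
        SuzukiTwoExp.comm x y * (y * SuzukiTwoExp.comm x y' * y⁻¹) := by
          simp only [SuzukiTwoExp.comm]; group
      _ = _ := by rw [hcc, mul_inv_cancel_right])
  have h3 : ∀ u v w : Additive Q,
      r (u + v + w) + r (u + v) + r (u + w) + r (v + w) + r u + r v + r w = 0 := by
    intro u v w
    obtain ⟨a, ha⟩ := QuotientGroup.mk_surjective (Additive.toMul u)
    obtain ⟨b, hb⟩ := QuotientGroup.mk_surjective (Additive.toMul v)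
    obtain ⟨c, hc⟩ := QuotientGroup.mk_surjective (Additive.toMul w)
    rw [show u = Additive.ofMul (a : Q) from ha ▸ rfl, show v = Additive.ofMul (b : Q) from hb ▸ rfl,
      show w = Additive.ofMul (c : Q) from hc ▸ rfl]
    simp only [← ofMul_mul, ← QuotientGroup.mk_mul, hr, hsqmul, hβr]
    linear_combination 2 * CharTwo.add_self_eq_zero (sq a) + 2 * CharTwo.add_self_eq_zero (sq b) +
      2 * CharTwo.add_self_eq_zero (sq c) + CharTwo.add_self_eq_zero (β b a) +
      CharTwo.add_self_eq_zero (β c a) + CharTwo.add_self_eq_zero (β c b)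
  have hquad : ∀ x y z : F, h (x + y + z) + h (x + y) + h (x + z) + h (y + z) + h x + h y + h z = 0 := by
    intro x y z
    simp only [h, MonoidHom.coe_mk, OneHom.coe_mk, map_add, he'a]
    rw [← add_div, ← add_div, ← add_div, ← add_div, ← add_div, ← add_div, h3, zero_div]
  obtain ⟨σ, τ, hστ⟩ := exists_mul_aut h hquad
  let φ' : F ≃+* F := τ.trans σ.symm
  let eF : F → P := fun a => e (c₀ * σ a)
  let π : P → F := fun x => ψ.symm ((Equiv.ofBijective e' he'b).symm (Additive.ofMul (x : Q)))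
  have hπe : ∀ x : P, e' (ψ (π x)) = Additive.ofMul (x : Q) := fun x => by
    simp only [π, RingEquiv.apply_symm_apply]
    exact (Equiv.ofBijective e' he'b).apply_symm_apply _
  have hq : ∀ x, x * x = eF (φ' (π x) * π x) := fun x => by
    simp only [eF, φ', map_mul, RingEquiv.trans_apply, RingEquiv.apply_symm_apply]
    rw [mul_comm (τ (π x)) (σ (π x)), ← hστ]
    simp only [h, MonoidHom.coe_mk, OneHom.coe_mk]
    rw [mul_div_cancel₀ _ hc₀, hπe, hr, hsqe]
  have hπmul : ∀ x y, π (x * y) = π x + π y := fun x y => ψ.injective (he'b.1 (by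
    rw [hπe, map_add, he'a, hπe, hπe, QuotientGroup.mk_mul, ofMul_mul]))
  have he'0 : e' 0 = 0 := by
    have h := he'a 0 0
    rw [add_zero] at h
    exact left_eq_add.mp h
  have hπ0 : ∀ x, π x = 0 ↔ ∃ a, eF a = x := fun x => by
    constructor
    · intro h0
      have h1 := hπe x
      rw [h0, map_zero, he'0] at h1
      have h2 : x ∈ Subgroup.center P := (QuotientGroup.eq_one_iff x).mp h1.symm
      obtain ⟨a, ha⟩ := (hrange x).mp (hZ.mp h2)
      exact ⟨σ.symm (a / c₀), by simp only [eF, RingEquiv.apply_symm_apply]; rw [mul_div_cancel₀ a hc₀, ha]⟩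
    · rintro ⟨a, rfl⟩
      refine ψ.injective (he'b.1 ?_)
      rw [hπe, map_zero, he'0]
      exact ((QuotientGroup.eq_one_iff _).mpr (hZ.mpr (hez _)) : (eF a : Q) = 1)
  have hπA : ∀ (a : A) (s : K), (∀ y, act a (e' y) = e' (s * y)) →
      ∀ x, π (φ a x) = ψ.symm s * π x := by
    intro a s hs x
    refine ψ.injective (he'b.1 ?_)
    rw [hπe, map_mul, RingEquiv.apply_symm_apply, ← hs, hπe]
    rfl
  refine ⟨F, iF, iFt, φ', by rw [hcz, Nat.card_eq_fintype_card], fun h1 => ?_, ?_, eF, π,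
    fun a b hab => σ.injective (mul_left_cancel₀ hc₀ (hei hab)),
    fun a b => by simp only [eF, map_add, mul_add, he], fun a x => hec _ x, hπmul,
    fun a => by
      obtain ⟨x, hx⟩ := QuotientGroup.mk_surjective (Additive.toMul (e' (ψ a)))
      exact ⟨x, ψ.injective (he'b.1 (by rw [hπe, hx]; rfl))⟩, hπ0, hq, fun a => ?_, fun k hk => ?_⟩
  · obtain ⟨x, y, hxy⟩ := hna
    refine hxy ?_
    obtain ⟨θ⟩ := iso_typeA (φ' : F →+* F) eF π
      (fun a b hab => σ.injective (mul_left_cancel₀ hc₀ (hei hab)))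
      (fun a b => by simp only [eF, map_add, mul_add, he]) (fun a x => hec _ x) hπmul
      (fun a => by
        obtain ⟨x, hx⟩ := QuotientGroup.mk_surjective (Additive.toMul (e' (ψ a)))
        exact ⟨x, ψ.injective (he'b.1 (by rw [hπe, hx]; rfl))⟩) hπ0 hq
    refine θ.injective ?_
    rw [map_mul, map_mul]
    obtain ⟨a, b, hab⟩ := (mem_typeA (φ' : F →+* F)).mp (θ x).2
    obtain ⟨a', b', hab'⟩ := (mem_typeA (φ' : F →+* F)).mp (θ y).2
    apply Subtype.ext
    rw [Subgroup.coe_mul, Subgroup.coe_mul, hab, hab', unit_mul, unit_mul]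
    simp only [h1, RingHom.coe_coe, RingEquiv.refl_apply]
    congr 1 <;> ring
  · intro a b hab
    refine ψ.injective (he'b.1 (hrinj ?_))
    have key : ∀ a, r (e' (ψ a)) = c₀ * σ (φ' a * a) := fun a => by
      have := hστ a
      simp only [h, MonoidHom.coe_mk, OneHom.coe_mk] at this
      rw [div_eq_iff hc₀] at this
      rw [this]
      simp only [φ', map_mul, RingEquiv.trans_apply, RingEquiv.apply_symm_apply]
      ring
    rw [key, key]
    simp only at hab
    rw [hab]
  · obtain ⟨s, hs0, hs⟩ := hK a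
    exact ⟨ψ.symm s, by simpa using hs0, hπA a s hs⟩
  · obtain ⟨a, ha⟩ := hK' (ψ k) (by simpa using hk)
    exact ⟨a, fun x => by rw [hπA a _ ha x, RingEquiv.symm_apply_apply]⟩

/-- Higman: a Suzuki 2-group of order `q²` is of type A. -/
theorem exists_typeA {P : Type u} [Group P] [Finite P] {A : Type v} [CommGroup A] {φ : A →* MulAut P}
    (hP : IsPGroup 2 P) (hA : SuzukiTwo.Trans φ) (hna : ∃ x y : P, x * y ≠ y * x)
    (htwo : ∃ x y : P, x ≠ y ∧ x ≠ 1 ∧ x * x = 1 ∧ y ≠ 1 ∧ y * y = 1)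
    (hcard : Nat.card P = Nat.card (Subgroup.center P) ^ 2) :
    ∃ (F : Type u) (_ : Field F) (_ : Fintype F) (ψ : F ≃+* F),
      Fintype.card F = Nat.card (Subgroup.center P) ∧ ψ ≠ RingEquiv.refl F ∧ Odd (orderOf ψ) ∧
        Nonempty (P ≃* Cfsg.suzukiTypeA F (ψ : F →+* F)) := by
  obtain ⟨F, iF, iFt, ψ, hc, hne, hinj, eF, π, h1, h2, h3, h4, h5, h6, h7, -, -⟩ :=
    exists_coords hP hA hna htwo hcard
  haveI : CharP F 2 := by
    refine CharTwo.of_one_ne_zero_of_two_eq_zero one_ne_zero (h1 ?_)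
    have h0 : eF 0 = 1 := by
      have h := h2 0 0
      rw [add_zero] at h
      exact mul_eq_left.mp h.symm
    have x1 : π (eF 1) = 0 := (h6 (eF 1)).mpr ⟨1, rfl⟩
    have hsq := h7 (eF 1)
    rw [x1, mul_zero, h0] at hsq
    rw [← one_add_one_eq_two, h2, hsq, h0]
  obtain ⟨θ⟩ := iso_typeA (ψ : F →+* F) eF π h1 h2 h3 h4 h5 h6 h7
  haveI : Finite (F ≃+* F) := Finite.of_injective (fun σ : F ≃+* F => (σ : F → F)) DFunLike.coe_injective
  exact ⟨F, iF, iFt, ψ, hc, hne, odd_orderOf ψ hinj, ⟨θ⟩⟩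

end CfsgLib.RankOne.SuzukiTwoTypeA
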