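import Mathlib

/-!
# The centre of a non-abelian 2-group with a commutative group transitive on its involutions
-/

set_option autoImplicit false
set_option linter.style.haveILetI false

namespace CfsgLib.RankOne.SuzukiTwo

universe u v

section Base

variable {P : Type u} [Group P] [Finite P] {A : Type v} [CommGroup A] (φ : A →* MulAut P)

/-- The commutative group `A` permutes the involutions transitively. -/
def Trans : Prop :=
  ∀ x y : P, x ≠ 1 → x * x = 1 → y ≠ 1 → y * y = 1 → ∃ h : A, φ h x = y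

variable {φ} (hP : IsPGroup 2 P) (hA : Trans φ)

include hP hA

theorem central_of_invol {x : P} (hx : x * x = 1) : x ∈ Subgroup.center P := by
  by_cases hx1 : x = 1
  · rw [hx1]; exact one_mem _
  haveI : Fact (Nat.Prime 2) := ⟨Nat.prime_two⟩
  haveI : Nontrivial P := ⟨⟨x, 1, hx1⟩⟩
  haveI : Nontrivial (Subgroup.center P) := hP.center_nontrivial
  obtain ⟨n, hn, hc⟩ := (hP.to_subgroup (Subgroup.center P)).nontrivial_iff_card.mp inferInstance
  obtain ⟨⟨z, hz⟩, ho⟩ := exists_prime_orderOf_dvd_card' (G := Subgroup.center P) 2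
    (hc ▸ dvd_pow_self 2 hn.ne')
  rw [Subgroup.orderOf_mk] at ho
  obtain ⟨h, rfl⟩ := hA z x (fun e => by rw [orderOf_eq_one_iff.mpr e] at ho; norm_num at ho)
    (by rw [← pow_two, ← ho]; exact pow_orderOf_eq_one z) hx1 hx
  exact MulEquivClass.apply_mem_center _ hz

/-- The involutions together with `1`. -/
def omega : Subgroup P where
  carrier := {x | x * x = 1}
  one_mem' := one_mul 1
  mul_mem' := fun {x y} hx hy => by
    have h := Subgroup.mem_center_iff.mp (central_of_invol hP hA hx) y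
    change x * y * (x * y) = 1
    calc x * y * (x * y) = x * (y * x) * y := by group
      _ = x * x * (y * y) := by rw [h]; group
      _ = 1 := by rw [hx, hy, one_mul]
  inv_mem' := fun {x} hx => by
    change x⁻¹ * x⁻¹ = 1
    rw [← mul_inv_rev, hx, inv_one]

omit hP hA in
theorem apply_invol (h : A) {x : P} (hx : x * x = 1) : φ h x * φ h x = 1 := by
  rw [← map_mul, hx, map_one]

/-- Squaring is injective on the group of permutations of the involutions. -/
theorem eq_of_sq_eq {g : A} {x : P} (hx : x * x = 1) (hx1 : x ≠ 1) (hg : φ g (φ g x) = x) :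
    φ g x = x := by
  classical
  haveI : Fact (Nat.Prime 2) := ⟨Nat.prime_two⟩
  let S := {y : P // y ≠ 1 ∧ y * y = 1}
  haveI : Fintype S := Fintype.ofFinite S
  have hall : ∀ (k : A) (y : P), y ≠ 1 → y * y = 1 → φ g (φ g y) = y ∧ (φ g x = x ↔ φ g y = y) := by
    intro k y hy1 hy
    obtain ⟨h, rfl⟩ := hA x y hx1 hx hy1 hy
    have hc : ∀ u, φ g (φ h u) = φ h (φ g u) := fun u => by
      rw [← MulAut.mul_apply, ← map_mul, mul_comm, map_mul, MulAut.mul_apply]
    rw [hc, hc, hg]
    exact ⟨rfl, fun e => by rw [e], fun e => (φ h).injective e⟩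
  let σ : Equiv.Perm S :=
    Function.Involutive.toPerm (fun y => ⟨φ g y.1,
      fun e => y.2.1 ((φ g).injective (e.trans (map_one _).symm)), apply_invol g y.2.2⟩)
      fun y => Subtype.ext (hall g y.1 y.2.1 y.2.2).1
  have hodd : ¬ 2 ∣ Fintype.card S := by
    have e : Nat.card S + 1 = Nat.card (omega hP hA) := by
      rw [← Finite.card_option]
      refine Nat.card_congr
        { toFun := fun o => o.elim ⟨1, one_mul 1⟩ fun y => ⟨y.1, y.2.2⟩
          invFun := fun y => if h : (y : P) = 1 then none else some ⟨y.1, h, y.2⟩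
          left_inv := ?_
          right_inv := ?_ }
      · rintro (_ | y)
        · simp
        · simp [y.2.1]
      · intro y
        by_cases h : (y : P) = 1
        · apply Subtype.ext
          simp [h]
        · simp [h]
    rw [← Nat.card_eq_fintype_card]
    obtain ⟨n, hn⟩ := IsPGroup.iff_card.mp (hP.to_subgroup (omega hP hA))
    rw [hn] at e
    cases n with
    | zero =>
      haveI : Nonempty S := ⟨⟨x, hx1, hx⟩⟩
      have := Nat.card_pos (α := S)
      simp only [pow_zero] at e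
      omega
    | succ n => rw [pow_succ] at e; omega
  obtain ⟨y, hy⟩ := Equiv.Perm.exists_fixed_point_of_prime (p := 2) (n := 1) hodd (σ := σ) (by
    rw [pow_one, pow_two]
    exact Equiv.ext fun z => Subtype.ext (hall g z.1 z.2.1 z.2.2).1)
  exact (hall g y.1 y.2.1 y.2.2).2.mpr (congrArg Subtype.val hy)

theorem exists_sq {x y : P} (hx : x * x = 1) (hx1 : x ≠ 1) (hy : y * y = 1) (hy1 : y ≠ 1) :
    ∃ h : A, φ (h * h) x = y := by
  classical
  haveI : Fintype {y : P // y ≠ 1 ∧ y * y = 1} := Fintype.ofFinite _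
  have hcomm : ∀ (g h : A) (u : P), φ g (φ h u) = φ h (φ g u) := fun g h u => by
    rw [← MulAut.mul_apply, ← map_mul, mul_comm, map_mul, MulAut.mul_apply]
  let S := {y : P // y ≠ 1 ∧ y * y = 1}
  choose h hh using fun s : S => hA x s.1 hx1 hx s.2.1 s.2.2
  let F : S → S := fun s => ⟨φ (h s) (φ (h s) x),
    fun e => hx1 ((φ (h s)).injective ((φ (h s)).injective (by rw [e, map_one, map_one]))),
    apply_invol _ (apply_invol _ hx)⟩
  have hinj : Function.Injective F := by
    intro s s' e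
    have e' : φ (h s) (φ (h s) x) = φ (h s') (φ (h s') x) := congrArg Subtype.val e
    set g := (h s)⁻¹ * h s' with hg
    have hk : ∀ u, φ (h s') u = φ (h s) (φ g u) := fun u => by
      rw [← MulAut.mul_apply, ← map_mul, hg, mul_inv_cancel_left]
    rw [hk, hk, hcomm g (h s)] at e'
    have := eq_of_sq_eq hP hA hx hx1 ((φ (h s)).injective ((φ (h s)).injective e')).symm
    exact Subtype.ext (by rw [← hh s, ← hh s', hk, this])
  obtain ⟨s, hs⟩ := Finite.surjective_of_injective hinj ⟨y, hy1, hy⟩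
  exact ⟨h s, by rw [map_mul, MulAut.mul_apply]; exact congrArg Subtype.val hs⟩

/-- Low order elements of the centre are squares in it. -/
theorem exists_sqrt {w : P} (hw : w ∈ Subgroup.center P) {z : P} (hz : z ∈ Subgroup.center P) :
    ∀ j : ℕ, w ^ 2 ^ j = 1 → z ^ 2 ^ j ≠ 1 → ∃ u ∈ Subgroup.center P, u * u = w := by
  intro j
  induction j generalizing w with
  | zero =>
    intro h _
    exact ⟨1, one_mem _, by rw [one_mul]; simpa using h.symm⟩
  | succ i ih =>
    intro h hz'
    have hzi : z ^ 2 ^ i ≠ 1 := fun e => hz' (by rw [pow_succ, pow_mul, e, one_pow])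
    by_cases hwi : w ^ 2 ^ i = 1
    · exact ih hw hwi hzi
    obtain ⟨n, hn⟩ := hP.exists_orderOf_eq_pow z (p := 2)
    have hni : i + 2 ≤ n := by
      by_contra hle
      refine hz' (orderOf_dvd_iff_pow_eq_one.mp ?_)
      rw [hn]; exact pow_dvd_pow 2 (by omega)
    obtain ⟨j, rfl⟩ := Nat.exists_eq_add_of_le hni
    have hne : z ^ 2 ^ (i + 1 + j) ≠ 1 := pow_ne_one_of_lt_orderOf (pow_ne_zero _ two_ne_zero)
      (by rw [hn]; exact Nat.pow_lt_pow_right one_lt_two (by omega))
    obtain ⟨g, hg⟩ := hA (z ^ 2 ^ (i + 1 + j)) (w ^ 2 ^ i) hne (by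
      rw [← pow_add, ← two_mul, ← pow_succ', show i + 1 + j + 1 = i + 2 + j by omega, ← hn,
        pow_orderOf_eq_one]) hwi (by rw [← pow_add, ← two_mul, ← pow_succ']; exact h)
    set v := φ g (z ^ 2 ^ j) with hv
    have hvC : v ∈ Subgroup.center P := MulEquivClass.apply_mem_center _ (pow_mem hz _)
    have hv2 : (v ^ 2) ^ 2 ^ i = w ^ 2 ^ i := by
      rw [hv, ← map_pow, ← map_pow, ← pow_mul, ← pow_mul, ← hg]
      congr 2
      rw [pow_add, pow_add, pow_one]; ring
    have hc : Commute (v⁻¹ ^ 2) w := (Subgroup.mem_center_iff.mp hw _)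
    obtain ⟨u, hu, huu⟩ := ih (w := v⁻¹ ^ 2 * w) (mul_mem (pow_mem (inv_mem hvC) _) hw)
      (by rw [hc.mul_pow, inv_pow, inv_pow, hv2, inv_mul_cancel]) hzi
    refine ⟨v * u, mul_mem hvC hu, ?_⟩
    calc v * u * (v * u) = v * (u * v) * u := by group
      _ = v ^ 2 * (u * u) := by rw [Subgroup.mem_center_iff.mp hvC u, pow_two]; group
      _ = w := by rw [huu]; group

/-- `P` is abelian when all its commutators are involutions and its centre has exponent at least 4. -/
theorem abelian_of_commutators {z : P} (hz : z ∈ Subgroup.center P) (hz2 : z * z ≠ 1)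
    (hcom : ∀ x y : P, x * y * x⁻¹ * y⁻¹ * (x * y * x⁻¹ * y⁻¹) = 1) : ∀ x y : P, x * y = y * x := by
  classical
  set C := fun x y : P => x * y * x⁻¹ * y⁻¹ with hC
  have hCc : ∀ x y, C x y ∈ Subgroup.center P := fun x y => central_of_invol hP hA (hcom x y)
  have hcomm : ∀ (g h : A) (u : P), φ g (φ h u) = φ h (φ g u) := fun g h u => by
    rw [← MulAut.mul_apply, ← map_mul, mul_comm, map_mul, MulAut.mul_apply]
  have hmapC : ∀ (g : A) x y, φ g (C x y) = C (φ g x) (φ g y) := fun g x y => by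
    simp only [hC, map_mul, map_inv]
  have hmulL : ∀ x x' y, C (x * x') y = C x y * C x' y := fun x x' y => by
    calc C (x * x') y = x * C x' y * (y * x⁻¹ * y⁻¹) := by simp only [hC]; group
      _ = C x' y * x * (y * x⁻¹ * y⁻¹) := by rw [Subgroup.mem_center_iff.mp (hCc x' y) x]
      _ = C x' y * C x y := by simp only [hC]; group
      _ = _ := (Subgroup.mem_center_iff.mp (hCc x' y) _).symm
  have hswap : ∀ x y, C x y = C y x := fun x y => by
    have h1 : C y x = (C x y)⁻¹ := by simp only [hC]; group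
    rw [h1, inv_eq_of_mul_eq_one_right (hcom x y)]
  have hmulR : ∀ x y y', C x (y * y') = C x y * C x y' := fun x y y' => by
    rw [hswap, hmulL, hswap y, hswap y']
  have hzero : ∀ x, ∀ w ∈ Subgroup.center P, C w x = 1 := fun x w hw => by
    simp only [hC]; rw [← Subgroup.mem_center_iff.mp hw x]; group
  have hsq : ∀ x : P, x ^ 2 ∈ Subgroup.center P := fun x =>
    Subgroup.mem_center_iff.mpr fun y => by
      have h1 : C (x * x) y = 1 := by rw [hmulL]; exact hcom x y
      rw [pow_two]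
      exact (mul_inv_eq_iff_eq_mul.mp (mul_inv_eq_one.mp h1)).symm
  haveI : Fintype (Subgroup.center P) := Fintype.ofFinite _
  obtain ⟨⟨z0, hz0⟩, -, hmax⟩ := Finset.exists_max_image (Finset.univ (α := Subgroup.center P))
    (fun z => orderOf (z : P)) Finset.univ_nonempty
  simp only at hmax
  obtain ⟨n, hn⟩ := hP.exists_orderOf_eq_pow z0 (p := 2)
  obtain ⟨m, hm⟩ := hP.exists_orderOf_eq_pow z (p := 2)
  have hle : m ≤ n := (Nat.pow_le_pow_iff_right one_lt_two).mp (by
    rw [← hn, ← hm]; exact hmax ⟨z, hz⟩ (Finset.mem_univ _))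
  obtain ⟨e, rfl⟩ : ∃ e, n = e + 2 := by
    refine ⟨n - 2, ?_⟩
    by_contra hlt
    refine hz2 ?_
    rw [← pow_two]
    refine orderOf_dvd_iff_pow_eq_one.mp ?_
    rw [hm]
    exact (pow_dvd_pow 2 (show m ≤ 1 by omega)).trans (by norm_num)
  have hexp : ∀ w ∈ Subgroup.center P, w ^ 2 ^ (e + 2) = 1 := fun w hw => by
    obtain ⟨j, hj⟩ := hP.exists_orderOf_eq_pow w (p := 2)
    refine orderOf_dvd_iff_pow_eq_one.mp ?_
    rw [hj]
    refine pow_dvd_pow 2 ((Nat.pow_le_pow_iff_right one_lt_two).mp ?_)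
    rw [← hn, ← hj]
    exact hmax ⟨w, hw⟩ (Finset.mem_univ _)
  have hz0' : z0 ^ 2 ^ (e + 1) ≠ 1 := pow_ne_one_of_lt_orderOf (pow_ne_zero _ two_ne_zero)
    (by rw [hn]; exact Nat.pow_lt_pow_succ one_lt_two)
  set T := fun x : P => x ^ 2 ^ (e + 2) with hT
  have hT2 : ∀ x, T x * T x = 1 := fun x => by
    simp only [hT]
    rw [← pow_two, ← pow_mul, mul_comm, pow_mul]
    exact hexp _ (hsq x)
  have hTker : ∀ x, T x = 1 → x ∈ Subgroup.center P := fun x hx => by
    obtain ⟨u, hu, huu⟩ := exists_sqrt hP hA (hsq x) hz0 (e + 1)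
      (by rw [← pow_mul, ← pow_succ']; exact hx) hz0'
    have h1 : x * u⁻¹ ∈ Subgroup.center P := central_of_invol hP hA (by
      have hc := Subgroup.mem_center_iff.mp (inv_mem hu) x
      calc x * u⁻¹ * (x * u⁻¹) = x * (u⁻¹ * x) * u⁻¹ := by group
        _ = x ^ 2 * (u * u)⁻¹ := by rw [← hc, pow_two]; group
        _ = 1 := by rw [huu]; group)
    simpa using mul_mem h1 hu
  have hTmul : ∀ x y, T (x * y) = T x * T y := fun x y => by
    simp only [hT]
    have h1 : (x * y) ^ 2 = x ^ 2 * y ^ 2 * C y x := by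
      have h2 : y * x = C y x * (x * y) := by simp only [hC]; group
      calc (x * y) ^ 2 = x * (y * x) * y := by rw [pow_two]; group
        _ = x * C y x * x * (y * y) := by rw [h2]; group
        _ = C y x * (x * x * (y * y)) := by rw [Subgroup.mem_center_iff.mp (hCc y x) x]; group
        _ = _ := by rw [← Subgroup.mem_center_iff.mp (hCc y x), pow_two, pow_two]
    rw [pow_succ' 2 (e + 1), pow_mul, pow_mul, pow_mul, h1,
      (show Commute (x ^ 2 * y ^ 2) (C y x) from Subgroup.mem_center_iff.mp (hCc y x) _).mul_pow,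
      (show Commute (x ^ 2) (y ^ 2) from Subgroup.mem_center_iff.mp (hsq y) _).mul_pow]
    have h3 : C y x ^ 2 ^ (e + 1) = 1 := by
      rw [pow_succ', pow_mul, pow_two, hcom, one_pow]
    rw [h3, mul_one]
  have hTmap : ∀ (g : A) x, φ g (T x) = T (φ g x) := fun g x => map_pow _ _ _
  by_contra hna
  obtain ⟨x0, hx0⟩ : ∃ x0, x0 ∉ Subgroup.center P := by
    by_contra h
    push Not at h
    exact hna fun x y => Subgroup.mem_center_iff.mp (h y) x
  have hT0 : T x0 ≠ 1 := fun h => hx0 (hTker x0 h)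
  have horb : ∀ x, x ∈ Subgroup.center P ∨ ∃ h, ∃ w ∈ Subgroup.center P, x = φ (h * h) x0 * w := by
    intro x
    by_cases hx : T x = 1
    · exact Or.inl (hTker x hx)
    obtain ⟨h, hh⟩ := exists_sq hP hA (hT2 x0) hT0 (hT2 x) hx
    refine Or.inr ⟨h, (φ (h * h) x0)⁻¹ * x, hTker _ ?_, (mul_inv_cancel_left _ _).symm⟩
    rw [hTmul]
    simp only [hT] at hh ⊢
    rw [inv_pow, ← map_pow, hh, inv_mul_cancel]
  have hCw : ∀ x y w, w ∈ Subgroup.center P → C (x * w) y = C x y := fun x y w hw => by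
    rw [hmulL, hzero _ _ hw, mul_one]
  have hCw' : ∀ x y w, w ∈ Subgroup.center P → C x (y * w) = C x y := fun x y w hw => by
    rw [hswap, hCw _ _ _ hw, hswap]
  have hTw : ∀ x w, w ∈ Subgroup.center P → T (x * w) = T x := fun x w hw => by
    rw [hTmul, show T w = 1 from hexp w hw, mul_one]
  have hadd : ∀ k x y, C (x * y) (φ k (x * y)) = C x (φ k x) * C y (φ k y) := by
    intro k
    by_cases hc : C x0 (φ k x0) = 1
    · have hall : ∀ x, C x (φ k x) = 1 := fun x => by
        rcases horb x with hx | ⟨h, w, hw, rfl⟩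
        · exact hzero _ _ hx
        · rw [map_mul (φ k), hCw _ _ _ hw, hCw' _ _ _ (MulEquivClass.apply_mem_center _ hw), hcomm k,
            ← hmapC, hc, map_one]
      intro x y
      rw [hall, hall, hall, one_mul]
    · obtain ⟨g, hg⟩ := hA (T x0) (C x0 (φ k x0)) hT0 (hT2 x0) hc (hcom _ _)
      have hall : ∀ x, C x (φ k x) = φ g (T x) := fun x => by
        rcases horb x with hx | ⟨h, w, hw, rfl⟩
        · rw [hzero _ _ hx, show T x = 1 from hexp x hx, map_one]
        · rw [map_mul (φ k), hCw _ _ _ hw, hCw' _ _ _ (MulEquivClass.apply_mem_center _ hw), hcomm k,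
            ← hmapC, ← hg, hTw _ _ hw, ← hTmap, hcomm g]
      intro x y
      rw [hall, hall, hall, hTmul, map_mul]
  have hsymm : ∀ k x y, C x (φ k y) = C (φ k x) y := by
    intro k x y
    have h1 := hadd k x y
    rw [map_mul (φ k), hmulL, hmulR, hmulR] at h1
    have h2 : C x (φ k y) * C y (φ k x) = 1 := by
      have e1 : C x (φ k x) * C x (φ k y) * (C y (φ k x) * C y (φ k y)) =
          C x (φ k x) * (C x (φ k y) * C y (φ k x)) * C y (φ k y) := by group
      rw [e1, mul_assoc (C x (φ k x))] at h1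
      exact mul_eq_right.mp (mul_left_cancel h1)
    rw [eq_inv_of_mul_eq_one_left h2, inv_eq_of_mul_eq_one_right (hcom y (φ k x)), hswap]
  refine hx0 (Subgroup.mem_center_iff.mpr fun y => ?_)
  have h1 : C y x0 = 1 := by
    rcases horb y with hy | ⟨h, w, hw, rfl⟩
    · exact hzero _ _ hy
    · rw [hCw _ _ _ hw, map_mul φ, MulAut.mul_apply, ← hsymm h, ← hmapC,
        show C x0 x0 = 1 by simp only [hC]; group, map_one]
  exact mul_inv_eq_iff_eq_mul.mp (mul_inv_eq_one.mp h1)

omit hP hA in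
/-- The action on a quotient by an invariant subgroup. -/
def quotientHom (N : Subgroup P) [N.Normal] (hN : ∀ (g : A), N.map (φ g).toMonoidHom = N) :
    A →* MulAut (P ⧸ N) where
  toFun g := QuotientGroup.congr N N (φ g) (hN g)
  map_one' := by
    refine MulEquiv.ext fun x => ?_
    obtain ⟨y, rfl⟩ := QuotientGroup.mk_surjective x
    simp
  map_mul' g h := by
    refine MulEquiv.ext fun x => ?_
    obtain ⟨y, rfl⟩ := QuotientGroup.mk_surjective x
    simp
    rfl

end Base

theorem center_sq : ∀ (n : ℕ) (P : Type u) [Group P] [Finite P], Nat.card P = n →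
    ∀ {A : Type v} [CommGroup A] (φ : A →* MulAut P), IsPGroup 2 P → Trans φ →
      (∃ x y : P, x * y ≠ y * x) → ∀ z ∈ Subgroup.center P, z * z = 1 := by
  intro n
  induction n using Nat.strong_induction_on with
  | _ n ih =>
  intro P _ _ hn A _ φ hP hA hna z hz
  by_contra hz2
  haveI : Fact (Nat.Prime 2) := ⟨Nat.prime_two⟩
  set N := omega hP hA with hN
  have hNc : N ≤ Subgroup.center P := fun x hx => central_of_invol hP hA hx
  haveI : N.Normal := ⟨fun m hm g => by
    rw [Subgroup.mem_center_iff.mp (hNc hm) g, mul_inv_cancel_right]; exact hm⟩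
  have hNmap : ∀ g : A, N.map (φ g).toMonoidHom = N := by
    intro g
    ext y
    constructor
    · rintro ⟨x, hx, rfl⟩; exact apply_invol (φ := φ) g hx
    · exact fun hy => ⟨φ g⁻¹ y, apply_invol (φ := φ) g⁻¹ hy, by simp⟩
  -- a square in the centre of an element outside
  have hsqrt : ∀ x : P, x * x * (x * x) = 1 → x * x ≠ 1 → x ∈ Subgroup.center P := by
    intro x h4 _
    obtain ⟨u, hu, huu⟩ := exists_sqrt hP hA (hNc (show x * x ∈ N from h4)) hz 1
      (by rw [pow_one, pow_two]; exact h4) (by rw [pow_one, pow_two]; exact hz2)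
    have h1 : x * u⁻¹ ∈ Subgroup.center P := central_of_invol hP hA (by
      have hc := Subgroup.mem_center_iff.mp (inv_mem hu) x
      calc x * u⁻¹ * (x * u⁻¹) = x * (u⁻¹ * x) * u⁻¹ := by group
        _ = x * x * (u * u)⁻¹ := by rw [← hc]; group
        _ = 1 := by rw [huu]; group)
    simpa using mul_mem h1 hu
  by_cases hab : ∀ x y : P ⧸ N, x * y = y * x
  · obtain ⟨x, y, hxy⟩ := hna
    refine hxy (abelian_of_commutators hP hA hz hz2 (fun x y => ?_) x y)
    have h : (((x * y * x⁻¹ * y⁻¹ : P)) : P ⧸ N) = 1 := by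
      rw [QuotientGroup.mk_mul, QuotientGroup.mk_mul, QuotientGroup.mk_mul, hab (x : P ⧸ N),
        QuotientGroup.mk_inv, QuotientGroup.mk_inv]
      group
    exact (QuotientGroup.eq_one_iff _).mp h
  push Not at hab
  obtain ⟨n', hn'⟩ := hP.exists_orderOf_eq_pow z (p := 2)
  have hlt : Nat.card (P ⧸ N) < n := by
    rw [← hn]
    refine lt_of_lt_of_eq ?_ N.index_mul_card
    refine lt_mul_of_one_lt_right (Nat.pos_of_ne_zero Subgroup.index_ne_zero_of_finite) ?_
    rw [Subgroup.one_lt_card_iff_ne_bot]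
    intro hbot
    cases n' with
    | zero => exact hz2 (by rw [orderOf_eq_one_iff.mp (hn'.trans (pow_zero 2)), one_mul])
    | succ m =>
      have hmem : z ^ 2 ^ m ∈ N := by
        change z ^ 2 ^ m * z ^ 2 ^ m = 1
        rw [← pow_add, ← two_mul, ← pow_succ', ← hn', pow_orderOf_eq_one]
      rw [hbot, Subgroup.mem_bot] at hmem
      exact pow_ne_one_of_lt_orderOf (pow_ne_zero _ two_ne_zero)
        (by rw [hn']; exact Nat.pow_lt_pow_succ one_lt_two) hmem
  have htrans : Trans (quotientHom (φ := φ) N hNmap) := by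
    intro x y hx1 hx hy1 hy
    obtain ⟨x, rfl⟩ := QuotientGroup.mk_surjective x
    obtain ⟨y, rfl⟩ := QuotientGroup.mk_surjective y
    rw [← QuotientGroup.mk_mul, QuotientGroup.eq_one_iff] at hx hy
    rw [Ne, QuotientGroup.eq_one_iff] at hx1 hy1
    have hxC := hsqrt x hx hx1
    obtain ⟨h, hh⟩ := hA (x * x) (y * y) hx1 hx hy1 hy
    refine ⟨h, ?_⟩
    change ((φ h x : P) : P ⧸ N) = (y : P ⧸ N)
    rw [QuotientGroup.eq]
    change (φ h x)⁻¹ * y * ((φ h x)⁻¹ * y) = 1
    have hc := Subgroup.mem_center_iff.mp (inv_mem (MulEquivClass.apply_mem_center (φ h) hxC)) y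
    calc (φ h x)⁻¹ * y * ((φ h x)⁻¹ * y) = (φ h x)⁻¹ * (y * (φ h x)⁻¹) * y := by group
      _ = (φ h (x * x))⁻¹ * (y * y) := by rw [hc, map_mul]; group
      _ = 1 := by rw [hh, inv_mul_cancel]
  have hind := ih _ hlt (P ⧸ N) rfl (quotientHom (φ := φ) N hNmap) (hP.to_quotient N) htrans hab
  -- an involution in the centre of `P / Z(P)`
  haveI : Nontrivial (P ⧸ Subgroup.center P) := by
    obtain ⟨x, y, hxy⟩ := hna
    refine ⟨⟨(y : P ⧸ Subgroup.center P), 1, fun h => hxy ?_⟩⟩
    exact Subgroup.mem_center_iff.mp ((QuotientGroup.eq_one_iff _).mp h) x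
  have hPZ := hP.to_quotient (Subgroup.center P)
  haveI := hPZ.center_nontrivial
  obtain ⟨j, hj, hc⟩ := (hPZ.to_subgroup (Subgroup.center (P ⧸ Subgroup.center P))).nontrivial_iff_card.mp
    inferInstance
  obtain ⟨⟨xb, hxb⟩, ho⟩ := exists_prime_orderOf_dvd_card' (G := Subgroup.center (P ⧸ Subgroup.center P)) 2
    (hc ▸ dvd_pow_self 2 hj.ne')
  rw [Subgroup.orderOf_mk] at ho
  obtain ⟨x, rfl⟩ := QuotientGroup.mk_surjective xb
  have hxZ : x ∉ Subgroup.center P := fun h => by
    rw [orderOf_eq_one_iff.mpr ((QuotientGroup.eq_one_iff x).mpr h)] at ho; norm_num at ho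
  have hx2 : x * x ∈ Subgroup.center P := by
    rw [← QuotientGroup.eq_one_iff, QuotientGroup.mk_mul, ← pow_two, ← ho, pow_orderOf_eq_one]
  have hxc : (x : P ⧸ N) ∈ Subgroup.center (P ⧸ N) := by
    rw [Subgroup.mem_center_iff]
    intro yb
    obtain ⟨y, rfl⟩ := QuotientGroup.mk_surjective yb
    have hc1 : x * y * x⁻¹ * y⁻¹ ∈ Subgroup.center P := by
      rw [← QuotientGroup.eq_one_iff]
      simp only [QuotientGroup.mk_mul, QuotientGroup.mk_inv]
      rw [← Subgroup.mem_center_iff.mp hxb (y : P ⧸ Subgroup.center P)]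
      group
    have hc2 : x * y * x⁻¹ * y⁻¹ * (x * y * x⁻¹ * y⁻¹) = 1 := by
      calc x * y * x⁻¹ * y⁻¹ * (x * y * x⁻¹ * y⁻¹)
          = (x * y * x⁻¹ * y⁻¹ * x) * (y * x⁻¹ * y⁻¹) := by group
        _ = x * (x * y * x⁻¹ * y⁻¹) * (y * x⁻¹ * y⁻¹) := by rw [Subgroup.mem_center_iff.mp hc1 x]
        _ = x * x * y * (x * x)⁻¹ * y⁻¹ := by group
        _ = 1 := by rw [← Subgroup.mem_center_iff.mp hx2 y]; group
    have h : (((x * y * x⁻¹ * y⁻¹ : P)) : P ⧸ N) = 1 := (QuotientGroup.eq_one_iff _).mpr hc2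
    simp only [QuotientGroup.mk_mul, QuotientGroup.mk_inv] at h
    exact (mul_inv_eq_iff_eq_mul.mp (mul_inv_eq_one.mp h)).symm
  have h4 : x * x * (x * x) = 1 := by
    have h := hind _ hxc
    rw [← QuotientGroup.mk_mul, QuotientGroup.eq_one_iff] at h
    exact h
  by_cases hxx : x * x = 1
  · exact hxZ (central_of_invol hP hA hxx)
  · exact hxZ (hsqrt x h4 hxx)

end CfsgLib.RankOne.SuzukiTwo
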