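import Cfsg.Agent.Lib.RankOne.SuzukiTwoExp

/-!
# The order of a non-abelian 2-group with commutative transitive automorphisms

`|P|` is the square or the cube of `|Z(P)|`: the squaring map is an anisotropic quadratic map
from `P / Z(P)` to `Z(P)` (Chevalley–Warning bound by degrees of Boolean functions).
-/

set_option autoImplicit false
set_option linter.style.haveILetI false
set_option maxHeartbeats 400000

namespace CfsgLib.RankOne.SuzukiTwoOrder

open CfsgLib.RankOne CfsgLib.RankOne.SuzukiTwoExp

local notation "cm" => SuzukiTwoExp.comm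

section Degree

variable {V : Type*} [AddCommGroup V]

/-- Boolean functions of degree at most `k`. -/
def Deg : ℕ → (V → ZMod 2) → Prop
  | 0, f => ∀ x y, f x = f y
  | k + 1, f => ∀ a, Deg k fun x => f (x + a) + f x

theorem Deg.const (c : ZMod 2) : ∀ k, Deg k (fun _ : V => c)
  | 0 => fun _ _ => rfl
  | k + 1 => fun _ => by
    have := Deg.const (c + c) k
    exact this

theorem Deg.add : ∀ {k} {f g : V → ZMod 2}, Deg k f → Deg k g → Deg k fun x => f x + g x
  | 0, _, _, hf, hg => fun x y => by simp only; rw [hf x y, hg x y]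
  | k + 1, f, g, hf, hg => fun a => by
    have h := Deg.add (hf a) (hg a)
    convert h using 1
    funext x
    ring

theorem Deg.comp {W : Type*} [AddCommGroup W] (g : W →+ V) :
    ∀ {k} {f : V → ZMod 2}, Deg k f → Deg k (fun x => f (g x))
  | 0, _, hf => fun _ _ => hf _ _
  | k + 1, f, hf => fun a => by
    have h := Deg.comp g (hf (g a))
    simpa only [map_add] using h

theorem Deg.shift : ∀ {k} {f : V → ZMod 2}, Deg k f → ∀ b, Deg k (fun x => f (x + b))
  | 0, _, hf, _ => fun _ _ => hf _ _
  | k + 1, f, hf, b => fun a => by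
    have h := Deg.shift (hf a) b
    convert h using 1
    funext x
    simp only [add_right_comm x a b]

theorem Deg.smul : ∀ {k} {f : V → ZMod 2}, Deg k f → ∀ c, Deg k (fun x => c * f x)
  | 0, _, hf, c => fun x y => by simp only; rw [hf x y]
  | k + 1, f, hf, c => fun a => by
    have h := Deg.smul (hf a) c
    convert h using 1
    funext x
    ring

theorem Deg.mul : ∀ (n j k : ℕ), j + k = n → ∀ {f g : V → ZMod 2}, Deg j f → Deg k g →
    Deg n (fun x => f x * g x)
  | n, 0, k, h, f, g, hf, hg => by
    rw [zero_add] at h; subst h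
    have := hg.smul (f 0)
    convert this using 1
    funext x
    rw [hf x 0]
  | n, j + 1, 0, h, f, g, hf, hg => by
    rw [add_zero] at h; subst h
    have := hf.smul (g 0)
    convert this using 1
    funext x
    rw [hg x 0, mul_comm]
  | n + 1, j + 1, k + 1, h, f, g, hf, hg => fun a => by
    have h1 := Deg.mul n j (k + 1) (by omega) (hf a) (hg.shift a)
    have h2 := Deg.mul n (j + 1) k (by omega) hf (hg a)
    have := h1.add h2
    convert this using 1
    funext x
    have e : f x * g (x + a) + f x * g (x + a) = 0 := by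
      rcases CharTwoMaps.zmod_two (f x * g (x + a)) with e | e <;> rw [e] <;> decide
    linear_combination -e
  | 0, j + 1, k + 1, h, _, _, _, _ => by omega

theorem Deg.prod {ι : Type*} (s : Finset ι) (d : ℕ) (f : ι → V → ZMod 2)
    (h : ∀ i ∈ s, Deg d (f i)) : Deg (s.card * d) (fun x => ∏ i ∈ s, f i x) := by
  classical
  induction s using Finset.induction_on with
  | empty => simpa using Deg.const (V := V) 1 0
  | insert i t hi ih =>
    simp only [Finset.prod_insert hi, Finset.card_insert_of_notMem hi]
    exact Deg.mul _ d (t.card * d) (by ring) (h i (Finset.mem_insert_self i t))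
      (ih fun j hj => h j (Finset.mem_insert_of_mem hj))

theorem sum_eq_zero : ∀ (k m : ℕ), k < m → ∀ {f : (Fin m → ZMod 2) → ZMod 2}, Deg k f →
    ∑ x, f x = 0
  | k, 0, h, _, _ => by omega
  | k, m + 1, h, f, hf => by
    have hsplit : ∑ x, f x = ∑ y : Fin m → ZMod 2, (f (Fin.cons 1 y) + f (Fin.cons 0 y)) := by
      rw [← Equiv.sum_comp (Fin.consEquiv fun _ => ZMod 2) f, Fintype.sum_prod_type, Finset.sum_comm]
      refine Finset.sum_congr rfl fun y _ => ?_
      rw [show (Finset.univ : Finset (ZMod 2)) = {1, 0} by decide, Finset.sum_pair (by decide)]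
      rfl
    rcases k with _ | k
    · rw [hsplit]
      refine Finset.sum_eq_zero fun y _ => ?_
      rw [hf (Fin.cons 1 y) (Fin.cons 0 y)]
      rcases CharTwoMaps.zmod_two (f (Fin.cons 0 y)) with e | e <;> rw [e] <;> decide
    · let ι : (Fin m → ZMod 2) →+ (Fin (m + 1) → ZMod 2) :=
        { toFun := fun y => Fin.cons 0 y
          map_zero' := by funext i; refine Fin.cases ?_ ?_ i <;> simp
          map_add' := fun y z => by funext i; refine Fin.cases ?_ ?_ i <;> simp }
      have h1 := sum_eq_zero k m (by omega) ((hf (Fin.cons 1 0)).comp ι)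
      rw [hsplit]
      refine Eq.trans ?_ h1
      refine Finset.sum_congr rfl fun y _ => ?_
      have : (Fin.cons 0 y : Fin (m + 1) → ZMod 2) + Fin.cons 1 0 = Fin.cons 1 y := by
        funext i; refine Fin.cases ?_ ?_ i <;> simp
      simp [ι, this]

/-- An anisotropic quadratic map has few variables. -/
theorem le_of_anisotropic {m n : ℕ} (q : (Fin m → ZMod 2) → Fin n → ZMod 2) (h0 : ∀ x, q x = 0 → x = 0)
    (hz : q 0 = 0)
    (hq : ∀ a b x y, q (x + b + a) + q (x + b) + (q (x + a) + q x) =
      q (y + b + a) + q (y + b) + (q (y + a) + q y)) : m ≤ 2 * n := by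
  classical
  by_contra hlt
  have hdeg : ∀ i ∈ (Finset.univ : Finset (Fin n)), Deg 2 (fun x => 1 + q x i) := fun i _ =>
    (Deg.const 1 2).add fun a b x y => by simpa using congrFun (hq a b x y) i
  have h := sum_eq_zero _ m (by simp; omega) (Deg.prod Finset.univ 2 _ hdeg)
  rw [Finset.sum_eq_single (0 : Fin m → ZMod 2)] at h
  · simp [hz] at h
  · intro x _ hx
    obtain ⟨i, hi⟩ : ∃ i, q x i ≠ 0 := Function.ne_iff.mp fun e => hx (h0 x e)
    refine Finset.prod_eq_zero (Finset.mem_univ i) ?_
    rcases CharTwoMaps.zmod_two (q x i) with e | e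
    · exact absurd e hi
    · rw [e]; decide
  · simp

end Degree

universe u v

variable {P : Type u} [Group P] [Finite P] {A : Type v} [CommGroup A] {φ : A →* MulAut P}

/-- Higman: the order is the square or the cube of the order of the centre. -/
theorem card_eq (hP : IsPGroup 2 P) (hA : SuzukiTwo.Trans φ) (hna : ∃ x y : P, x * y ≠ y * x)
    (htwo : ∃ x y : P, x ≠ y ∧ x ≠ 1 ∧ x * x = 1 ∧ y ≠ 1 ∧ y * y = 1) :
    Nat.card P = Nat.card (Subgroup.center P) ^ 2 ∨ Nat.card P = Nat.card (Subgroup.center P) ^ 3 := by
  classical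
  haveI : Fact (Nat.Prime 2) := ⟨Nat.prime_two⟩
  have hsq := sq_mem_center hP hA hna htwo
  have hZ : ∀ {x : P}, x ∈ Subgroup.center P ↔ x * x = 1 := fun {x} => mem_center_iff' hP hA hna
  obtain ⟨F, iF, iFt, iFa, e, hinj, hadd, hrange, hsc, -, hn⟩ := exists_field hP hA hna htwo
  set n := Module.finrank (ZMod 2) F with hnn
  have hcomm : ∀ x y : P, cm x y ∈ Subgroup.center P := fun x y => by
    have e' : cm x y = x * x * (x⁻¹ * y * (x⁻¹ * y)) * (y * y)⁻¹ := by simp only [SuzukiTwoExp.comm]; group
    rw [e']
    exact mul_mem (mul_mem (hsq _) (hsq _)) (inv_mem (hsq _))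
  have hcz : Nat.card (Subgroup.center P) = 2 ^ n := by
    rw [hnn, ← SuzukiTwoTwist.card_eq, ← Nat.card_eq_fintype_card]
    exact (Nat.card_congr (Equiv.ofBijective (fun x => (⟨e x, hZ.mpr ((hrange _).mpr ⟨x, rfl⟩)⟩ : Subgroup.center P))
      ⟨fun x y h => hinj (congrArg Subtype.val h), fun z => by
        obtain ⟨x, hx⟩ := (hrange z.1).mp (hZ.mp z.2)
        exact ⟨x, Subtype.ext hx⟩⟩)).symm
  -- the elementary abelian quotient
  let Q := P ⧸ Subgroup.center P
  letI : CommGroup Q :=
    { (inferInstance : Group Q) with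
      mul_comm := fun a b => by
        obtain ⟨x, rfl⟩ := QuotientGroup.mk_surjective a
        obtain ⟨y, rfl⟩ := QuotientGroup.mk_surjective b
        have := (QuotientGroup.eq_one_iff _).mpr (hcomm x y)
        simp only [SuzukiTwoExp.comm, QuotientGroup.mk_mul, QuotientGroup.mk_inv] at this
        exact mul_inv_eq_iff_eq_mul.mp (mul_inv_eq_one.mp this) }
  have hsq1 : ∀ a : Additive Q, 2 • a = 0 := fun a => by
    obtain ⟨x, hx⟩ := QuotientGroup.mk_surjective (Additive.toMul a)
    rw [two_nsmul]
    have h : Additive.toMul a * Additive.toMul a = 1 := by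
      rw [← hx, ← QuotientGroup.mk_mul]; exact (QuotientGroup.eq_one_iff _).mpr (hsq x)
    exact h
  letI : Module (ZMod 2) (Additive Q) := AddCommGroup.zmodModule hsq1
  haveI : Module.Finite (ZMod 2) (Additive Q) := Module.Finite.of_finite
  set m := Module.finrank (ZMod 2) (Additive Q) with hm
  have hcQ : Nat.card Q = 2 ^ m := by
    rw [hm, ← Nat.card_congr (Additive.ofMul (α := Q)).symm, Module.natCard_eq_pow_finrank (K := ZMod 2),
      Nat.card_zmod]
  have hcP : Nat.card P = 2 ^ m * 2 ^ n := by
    rw [← hcQ, ← hcz]; exact Subgroup.card_eq_card_quotient_mul_card_subgroup _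
  have hm0 : 0 < m := by
    rcases Nat.eq_zero_or_pos m with h | h
    · exfalso
      obtain ⟨x, y, hxy⟩ := hna
      rw [h, pow_zero, Nat.card_eq_one_iff_unique] at hcQ
      haveI := hcQ.1
      exact hxy (Subgroup.mem_center_iff.mp ((QuotientGroup.eq_one_iff y).mp (Subsingleton.elim _ _)) x)
    · exact h
  -- divisibility
  have hdvd : 2 ^ n - 1 ∣ 2 ^ m - 1 := by
    let S := {x : P // x ∉ Subgroup.center P}
    let Z := {z : P // z ≠ 1 ∧ z * z = 1}
    haveI : Fintype S := Fintype.ofFinite _
    haveI : Fintype Z := Fintype.ofFinite _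
    let f : S → Z := fun x => ⟨x.1 * x.1, fun h => x.2 (hZ.mpr h), hZ.mp (hsq x.1)⟩
    have hle : ∀ z z' : Z, Nat.card {x : S // f x = z} ≤ Nat.card {x : S // f x = z'} := by
      intro z z'
      obtain ⟨a, ha⟩ := hA z.1 z'.1 z.2.1 z.2.2 z'.2.1 z'.2.2
      refine Nat.card_le_card_of_injective (fun x => ⟨⟨φ a x.1.1, fun h => x.1.2 (by
          have := MulEquivClass.apply_mem_center (φ a⁻¹) h
          rw [map_inv, MulAut.inv_apply_self] at this
          exact this)⟩, Subtype.ext (by
        show φ a x.1.1 * φ a x.1.1 = z'.1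
        rw [← map_mul, ← ha]
        exact congrArg (fun z : Z => φ a z.1) x.2)⟩) fun x y h => ?_
      have := congrArg (fun w : {x : S // f x = z'} => w.1.1) h
      exact Subtype.ext (Subtype.ext ((φ a).injective this))
    have hcZ : Nat.card Z = 2 ^ n - 1 := by
      rw [← hcz]
      have : Nat.card (Subgroup.center P) = Nat.card Z + 1 := by
        rw [← Finite.card_option]
        refine (Nat.card_congr
          { toFun := fun o : Option Z => (o.elim (1 : Subgroup.center P) fun z => ⟨z.1, hZ.mpr z.2.2⟩ : Subgroup.center P)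
            invFun := fun z : Subgroup.center P =>
              if h : (z : P) = 1 then none else some (⟨(z : P), h, hZ.mp z.2⟩ : Z)
            left_inv := ?_
            right_inv := ?_ }).symm
        · rintro (_ | z)
          · simp
          · simp [z.2.1]
        · intro z
          by_cases h : (z : P) = 1
          · exact Subtype.ext (by simp [h])
          · simp [h]
      omega
    obtain ⟨z0⟩ : Nonempty Z := by
      obtain ⟨x, -, -, hx1, hx, -⟩ := htwo
      exact ⟨⟨x, hx1, hx⟩⟩
    have hsum : Nat.card S = (2 ^ n - 1) * Nat.card {x : S // f x = z0} := by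
      rw [← Nat.card_congr (Equiv.sigmaFiberEquiv f), Nat.card_sigma,
        Finset.sum_congr rfl (fun z _ => le_antisymm (hle z z0) (hle z0 z)), Finset.sum_const,
        Finset.card_univ, smul_eq_mul, ← Nat.card_eq_fintype_card, hcZ]
    have hS : Nat.card S = (2 ^ m - 1) * 2 ^ n := by
      haveI : Fintype P := Fintype.ofFinite P
      have h2 : Nat.card S = Nat.card P - Nat.card (Subgroup.center P) := by
        simp only [S, Nat.card_eq_fintype_card]
        exact Fintype.card_subtype_compl _
      rw [h2, hcP, hcz, Nat.sub_mul, one_mul]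
    refine Nat.Coprime.dvd_of_dvd_mul_right ?_ (hS ▸ hsum ▸ Dvd.intro _ rfl)
    refine (Nat.Coprime.pow_right n (Nat.coprime_two_right.mpr ?_))
    exact Nat.Even.sub_odd Nat.one_le_two_pow (even_two.pow_of_ne_zero (by omega)) odd_one
  have hnm : n ∣ m := by
    have h1 := Nat.pow_sub_one_gcd_pow_sub_one 2 n m
    rw [Nat.gcd_eq_left hdvd] at h1
    have h2 : 2 ^ n = 2 ^ n.gcd m := by
      have := Nat.one_le_two_pow (n := n)
      have := Nat.one_le_two_pow (n := n.gcd m)
      omega
    rw [Nat.pow_right_injective (le_refl 2) h2]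
    exact Nat.gcd_dvd_right n m
  -- the bound
  have hmn : m ≤ 2 * n := by
    let ψ := (Module.finBasis (ZMod 2) (Additive Q)).equivFun
    let b := (Module.finBasis (ZMod 2) F).equivFun
    let g : (Fin m → ZMod 2) → P := fun v => (Additive.toMul (ψ.symm v) : Q).out
    choose r hr using fun x : P => (hrange (x * x)).mp (hZ.mp (hsq x))
    have he0 : e 0 = 1 := by
      have h := hadd 0 0
      rw [add_zero] at h
      exact mul_eq_left.mp h.symm
    choose β hβ using fun x y : P => (hrange (cm x y)).mp (hZ.mp (hcomm x y))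
    have hg : ∀ v, ((g v : P) : Q) = Additive.toMul (ψ.symm v) := fun v => QuotientGroup.out_eq' _
    have hrz : ∀ x z : P, z ∈ Subgroup.center P → r (x * z) = r x := fun x z hz => hinj (by
      rw [hr, hr]
      calc x * z * (x * z) = x * (z * x) * z := by group
        _ = x * x * (z * z) := by rw [← Subgroup.mem_center_iff.mp hz x]; group
        _ = x * x := by rw [hZ.mp hz, mul_one])
    have hrmul : ∀ x y, r (x * y) = r x + r y + β y x := fun x y => hinj (by
      rw [hadd, hadd, hr, hr, hr, hβ]
      calc x * y * (x * y) = x * cm y x * (x * y * y) := by simp only [SuzukiTwoExp.comm]; group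
        _ = cm y x * (x * (x * y * y)) := by
          rw [Subgroup.mem_center_iff.mp (hcomm y x) x]; group
        _ = cm y x * (x * x * (y * y)) := by group
        _ = _ := (Subgroup.mem_center_iff.mp (hcomm y x) _).symm)
    have hβl : ∀ x x' y, β (x * x') y = β x y + β x' y := fun x x' y => hinj (by
      rw [hadd, hβ, hβ, hβ]
      calc cm (x * x') y = x * cm x' y * (y * x⁻¹ * y⁻¹) := by simp only [SuzukiTwoExp.comm]; group
        _ = cm x' y * x * (y * x⁻¹ * y⁻¹) := by rw [Subgroup.mem_center_iff.mp (hcomm x' y) x]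
        _ = cm x' y * cm x y := by simp only [SuzukiTwoExp.comm]; group
        _ = _ := (Subgroup.mem_center_iff.mp (hcomm x' y) _).symm)
    have hgadd : ∀ v w, r (g (v + w)) = r (g v * g w) := fun v w => by
      have h : ((g v * g w : P) : Q) = ((g (v + w) : P) : Q) := by
        rw [QuotientGroup.mk_mul, hg, hg, hg, map_add]; rfl
      have hc := QuotientGroup.eq.mp h
      rw [← hrz (g v * g w) _ hc, mul_inv_cancel_left]
    refine le_of_anisotropic (fun v => b (r (g v))) (fun v hv => ?_) ?_ fun a c x y => ?_
    · have h1 : r (g v) = 0 := b.map_eq_zero_iff.mp hv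
      have h2 : g v ∈ Subgroup.center P := hZ.mpr (by rw [← hr, h1, he0])
      have h3 : Additive.toMul (ψ.symm v) = 1 := by rw [← hg]; exact (QuotientGroup.eq_one_iff _).mpr h2
      exact ψ.symm.map_eq_zero_iff.mp h3
    · have h2 : g 0 ∈ Subgroup.center P := by
        rw [← QuotientGroup.eq_one_iff, hg, map_zero]; rfl
      rw [show r (g 0) = 0 from hinj (by rw [hr, hZ.mp h2, he0]), map_zero]
    · haveI := SuzukiTwoTwist.charP_two (F := F)
      simp only [← map_add]
      congr 1
      have key : ∀ x, r (g (x + c + a)) + r (g (x + c)) + (r (g (x + a)) + r (g x)) = β (g a) (g c) := by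
        intro x
        have h1 : r (g (x + c + a)) = r (g (x + c)) + r (g a) + β (g a) (g x * g c) := by
          rw [hgadd, hrmul]
          congr 1
          have h : ((g x * g c : P) : Q) = ((g (x + c) : P) : Q) := by
            rw [QuotientGroup.mk_mul, hg, hg, hg, map_add]; rfl
          have hc' := QuotientGroup.eq.mp h
          refine hinj ?_
          rw [hβ, hβ, ← mul_inv_cancel_left (g x * g c) (g (x + c))]
          generalize (g x * g c)⁻¹ * g (x + c) = z at hc'
          simp only [SuzukiTwoExp.comm]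
          calc g a * (g x * g c * z) * (g a)⁻¹ * (g x * g c * z)⁻¹
              = g a * (g x * g c) * (z * (g a)⁻¹ * z⁻¹) * (g x * g c)⁻¹ := by group
            _ = _ := by rw [← Subgroup.mem_center_iff.mp hc' (g a)⁻¹, mul_inv_cancel_right]
        have h2 : r (g (x + a)) = r (g x) + r (g a) + β (g a) (g x) := by rw [hgadd, hrmul]
        have h3 : β (g a) (g x * g c) = β (g a) (g x) + β (g a) (g c) := hinj (by
          rw [hadd, hβ, hβ, hβ]
          calc cm (g a) (g x * g c) = cm (g a) (g x) * (g x * cm (g a) (g c) * (g x)⁻¹) := by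
                simp only [SuzukiTwoExp.comm]; group
            _ = _ := by rw [Subgroup.mem_center_iff.mp (hcomm (g a) (g c)) (g x), mul_inv_cancel_right])
        rw [h1, h2, h3]
        linear_combination CharTwo.add_self_eq_zero (r (g (x + c))) + CharTwo.add_self_eq_zero (r (g x))
          + CharTwo.add_self_eq_zero (r (g a)) + CharTwo.add_self_eq_zero (β (g a) (g x))
      rw [key, key]
  obtain ⟨t, ht'⟩ := hnm
  rw [ht'] at hm0 hmn hcP
  have ht : t ≤ 2 := Nat.le_of_mul_le_mul_left (by linarith) (by omega : 0 < n)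
  rw [hcP, hcz]
  interval_cases t
  · omega
  · exact Or.inl (by ring)
  · exact Or.inr (by ring)

end CfsgLib.RankOne.SuzukiTwoOrder
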