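import Cfsg.Agent.Lib.RankOne.UnitarySylow
import Cfsg.Agent.Lib.Solvable.Cores
import Cfsg.Prelude.Def_Transfer

/-!
# Automorphisms of the Sylow 2-subgroup of `SU(3,q)`, `q` even

Every automorphism induces a semilinear similitude on the quotient by the centre.
-/

set_option autoImplicit false
set_option linter.unusedSectionVars false

namespace CfsgLib.RankOne.UnitarySylow

open Matrix CfsgLib.Classical

variable {F : Type*} [Field F] {σ : F →+* F} [CharP F 2] [hσ : Fact (IsConjugation σ)]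

/-- The central element with second coordinate `z`. -/
def cent (z : F) (hz : σ z = z) : Heis σ := ⟨0, z, by rw [hz, map_zero, mul_zero, add_self]⟩

theorem fixed_of_c_eq_zero {g : Heis σ} (h : g.c = 0) : σ g.b = g.b := by
  linear_combination g.hb + σ g.c * h - g.b * two0 (F := F)

theorem cent_mem (z : F) (hz : σ z = z) : cent (σ := σ) z hz ∈ Subgroup.center (Heis σ) :=
  (mem_center_iff _).2 rfl

theorem cent_mul (z w : F) (hz : σ z = z) (hw : σ w = w) :
    cent (σ := σ) z hz * cent w hw = cent (z + w) (by rw [map_add, hz, hw]) :=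
  Heis.ext (by simp [mul_c, cent]) (by simp [mul_b, cent])

theorem mul_self_eq (g : Heis σ) : g * g = cent (g.c * σ g.c) (hσ.out.norm_fixed _) :=
  Heis.ext (by rw [mul_c, add_self]; rfl) (by
    rw [mul_b, add_self, zero_add, mul_comm]; rfl)

theorem add_c_fixed (c : F) : σ (c + σ c) = c + σ c := by rw [map_add, hσ.out.invol, add_comm]

/-- The polar form of the norm. -/
theorem norm_add (c d : F) :
    (c + d) * σ (c + d) = c * σ c + d * σ d + (σ c * d + c * σ d) := by rw [map_add]; ring

theorem polar_fixed (c d : F) : σ (σ c * d + c * σ d) = σ c * d + c * σ d := by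
  rw [map_add, map_mul, map_mul, hσ.out.invol, hσ.out.invol, add_comm]

theorem polar_eq_zero {c d : F} (hc : c ≠ 0) : σ c * d + c * σ d = 0 ↔ σ (d / c) = d / c := by
  rw [map_div₀, div_eq_div_iff ((map_ne_zero σ).2 hc) hc]
  constructor <;> intro h
  · linear_combination h - σ c * d * two0 (F := F)
  · linear_combination h + σ c * d * two0 (F := F)

variable [Fintype F]

/-- An additive permutation preserving the norm up to an additive injection of the fixed field. -/
theorem semilinear (A : F →+ F) (hA : Function.Injective A) (ψ : F → F)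
    (hψadd : ∀ x y, σ x = x → σ y = y → ψ (x + y) = ψ x + ψ y)
    (hψinj : ∀ x, σ x = x → ψ x = 0 → x = 0)
    (hN : ∀ c, A c * σ (A c) = ψ (c * σ c)) :
    ∃ (u : Fˣ) (τ : F ≃+* F), ∀ c, A c = u * τ c := by
  have hu : A 1 ≠ 0 := fun h => one_ne_zero (hA (h.trans (map_zero A).symm))
  set u := A 1
  set N := u * σ u with hNdef
  have hN0 : N ≠ 0 := mul_ne_zero hu ((map_ne_zero σ).2 hu)
  let B : F →+ F := (AddMonoidHom.mulLeft u⁻¹).comp A
  have hB : ∀ c, B c = u⁻¹ * A c := fun _ => rfl
  have hB1 : B 1 = 1 := by rw [hB, inv_mul_cancel₀ hu]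
  have hBinj : Function.Injective B := fun x y h => hA (mul_left_cancel₀ (inv_ne_zero hu) h)
  let φ : F → F := fun x => N⁻¹ * ψ x
  have hBN : ∀ c, B c * σ (B c) = φ (c * σ c) := fun c => by
    show _ = N⁻¹ * ψ _
    rw [← hN, hB, map_mul, map_inv₀, hNdef, mul_inv]
    ring
  have hpol : ∀ c d, σ (B c) * B d + B c * σ (B d) = φ (σ c * d + c * σ d) := by
    intro c d
    have h := hBN (c + d)
    rw [map_add, norm_add, norm_add, hBN, hBN] at h
    have hf : σ (c * σ c + d * σ d) = c * σ c + d * σ d := by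
      rw [map_add, hσ.out.norm_fixed, hσ.out.norm_fixed]
    simp only [φ] at h ⊢
    rw [hψadd _ _ hf (polar_fixed c d), hψadd _ _ (hσ.out.norm_fixed c) (hσ.out.norm_fixed d)] at h
    linear_combination h
  have hφ0 : φ 0 = 0 := by
    simp only [φ]
    rw [show ψ 0 = 0 by simpa using hψadd 0 0 (map_zero σ) (map_zero σ), mul_zero]
  have hφinj : ∀ x, σ x = x → φ x = 0 → x = 0 := fun x hx h =>
    hψinj x hx ((mul_eq_zero.1 h).resolve_left (inv_ne_zero hN0))
  have hiff : ∀ c d, c ≠ 0 → (σ (d / c) = d / c ↔ σ (B d / B c) = B d / B c) := by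
    intro c d hc
    have hBc : B c ≠ 0 := fun h => hc (hBinj (h.trans (map_zero B).symm))
    rw [← polar_eq_zero hc, ← polar_eq_zero hBc, hpol]
    exact ⟨fun h => by rw [h, hφ0], fun h => hφinj _ (polar_fixed c d) h⟩
  have hfix : ∀ x, σ x = x ↔ σ (B x) = B x := fun x => by
    have := hiff 1 x one_ne_zero
    rwa [div_one, hB1, div_one] at this
  -- scalars from the fixed field
  have hlin0 : ∀ x c, σ x = x → σ c ≠ c → B (x * c) = B x * B c := by
    intro x c hx hc
    have hc0 : c ≠ 0 := fun h => hc (by rw [h, map_zero])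
    have hBc : B c ≠ 0 := fun h => hc0 (hBinj (h.trans (map_zero B).symm))
    have h1c : 1 + c ≠ 0 := fun h => hc (by
      rw [show c = -1 by linear_combination h, map_neg, map_one])
    have hB1c : B (1 + c) ≠ 0 := fun h => h1c (hBinj (h.trans (map_zero B).symm))
    have hg := (hiff c (x * c) hc0).1 (by rw [mul_div_assoc, div_self hc0, mul_one, hx])
    have hh := (hiff (1 + c) (x * (1 + c)) h1c).1 (by rw [mul_div_assoc, div_self h1c, mul_one, hx])
    set g := B (x * c) / B c with hgdef
    set h := B (x * (1 + c)) / B (1 + c) with hhdef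
    have e1 : B (x * c) = g * B c := (div_mul_cancel₀ _ hBc).symm
    have e2 : B (x * (1 + c)) = h * B (1 + c) := (div_mul_cancel₀ _ hB1c).symm
    rw [mul_add, mul_one, map_add, map_add, hB1, e1] at e2
    have e3 : (g - h) * B c = h - B x := by linear_combination e2
    by_cases hgh : g = h
    · rw [hgh, sub_self, zero_mul] at e3
      rw [e1, hgh, sub_eq_zero.1 e3.symm]
    · exfalso
      refine hc ((hfix c).2 ?_)
      rw [show B c = (h - B x) / (g - h) by rw [eq_div_iff (sub_ne_zero.2 hgh), ← e3]; ring,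
        map_div₀, map_sub, map_sub, hg, hh, (hfix x).1 hx]
  obtain ⟨ω, hω⟩ := hσ.out.exists_not_fixed
  have hω0 : ω ≠ 0 := fun h => hω (by rw [h, map_zero])
  have hBω : B ω ≠ 0 := fun h => hω0 (hBinj (h.trans (map_zero B).symm))
  have hlin : ∀ x y, σ x = x → σ y = y → B (x * y) = B x * B y := by
    intro x y hx hy
    by_cases hy0 : y = 0
    · simp [hy0]
    refine mul_right_cancel₀ hBω ?_
    have hyω : σ (y * ω) ≠ y * ω := by
      rw [map_mul, hy]
      exact fun h => hω (mul_left_cancel₀ hy0 h)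
    rw [← hlin0 _ _ (by rw [map_mul, hx, hy]) hω, mul_assoc, hlin0 _ _ hx hyω, hlin0 _ _ hy hω, mul_assoc]
  have hφB : ∀ x, σ x = x → φ x = B x := by
    intro x hx
    obtain ⟨t, ht⟩ := Finite.injective_iff_surjective.1 (frobenius_inj F 2) x
    rw [frobenius_def] at ht
    have htf : σ t = t := frobenius_inj F 2 (by rw [frobenius_def, frobenius_def, ← map_pow, ht, hx])
    have h := hBN t
    rw [htf, (hfix t).1 htf, ← hlin _ _ htf htf, ← pow_two, ht] at h
    exact h.symm
  -- the quadratic relation of `ω`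
  set T := ω + σ ω with hT
  set Q := ω * σ ω with hQ
  have hTf : σ T = T := add_c_fixed ω
  have hQf : σ Q = Q := hσ.out.norm_fixed ω
  have hsq : ω * ω = T * ω + Q := by rw [hT, hQ]; linear_combination -(ω * σ ω) * two0 (F := F)
  have hsqB : B ω * B ω = B T * B ω + B Q := by
    have h1 : B ω * σ (B ω) = B Q := (hBN ω).trans (hφB _ hQf)
    have h2 : B ω + σ (B ω) = B T := by
      have h := hpol 1 ω
      simp only [hB1, map_one, one_mul] at h
      rw [h, hφB _ (add_c_fixed ω)]
    rw [← h1, ← h2]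
    linear_combination -(B ω * σ (B ω)) * two0 (F := F)
  have hT0 : T ≠ 0 := fun h => hω (by linear_combination h - ω * two0 (F := F))
  have hdec : ∀ c, ∃ x y, σ x = x ∧ σ y = y ∧ c = x + y * ω := fun c => by
    refine ⟨c - (c + σ c) / T * ω, (c + σ c) / T, ?_, by rw [map_div₀, add_c_fixed, hTf], by ring⟩
    rw [map_sub, map_mul, map_div₀, add_c_fixed, hTf, show σ ω = T - ω by rw [hT]; ring]
    field_simp
    linear_combination (σ c * ω - σ ω * c) * two0 (F := F)
  have hmul : ∀ c d, B (c * d) = B c * B d := by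
    intro c d
    obtain ⟨x, y, hx, hy, rfl⟩ := hdec c
    obtain ⟨x', y', hx', hy', rfl⟩ := hdec d
    rw [show (x + y * ω) * (x' + y' * ω) = (x * x' + y * y' * Q) + (x * y' + y * x' + y * y' * T) * ω by
      linear_combination (y * y') * hsq]
    have f1 : σ (y * y') = y * y' := by rw [map_mul, hy, hy']
    have f2 : σ (x * y') = x * y' := by rw [map_mul, hx, hy']
    have f3 : σ (y * x') = y * x' := by rw [map_mul, hy, hx']
    have f4 : σ (y * y' * T) = y * y' * T := by rw [map_mul, f1, hTf]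
    rw [map_add, map_add, map_add, map_add, hlin0 _ _ (by rw [map_add, map_add, f2, f3, f4]) hω,
      map_add, map_add, hlin _ _ hx hx', hlin _ _ f1 hQf, hlin _ _ hy hy', hlin _ _ hx hy', hlin _ _ hy hx',
      hlin _ _ f1 hTf, hlin _ _ hy hy', hlin0 _ _ hy hω, hlin0 _ _ hy' hω]
    linear_combination -(B y * B y') * hsqB
  let τ : F →+* F :=
    { toFun := B
      map_one' := hB1
      map_mul' := hmul
      map_zero' := map_zero B
      map_add' := map_add B }
  refine ⟨Units.mk0 u hu, RingEquiv.ofBijective τ ⟨hBinj, Finite.injective_iff_surjective.1 hBinj⟩, fun c => ?_⟩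
  show A c = u * B c
  rw [hB, mul_inv_cancel_left₀ hu]

variable {q : ℕ} [hq : Fact (Fintype.card F = q ^ 2 ∧ ∀ x, σ x = x ^ q)]

include hq in
theorem comm_frob (τ : F ≃+* F) (x : F) : σ (τ x) = τ (σ x) := by
  rw [hq.out.2, hq.out.2, map_pow]

include hq in
/-- The automorphism attached to a semilinear similitude. -/
def simAut (u : Fˣ) (τ : F ≃+* F) : MulAut (Heis σ) where
  toFun g := ⟨u * τ g.c, (u : F) * σ u * τ g.b, by
    rw [map_mul, map_mul, map_mul, hσ.out.invol, comm_frob (σ := σ) (q := q), comm_frob (σ := σ) (q := q)]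
    have h := congrArg τ g.hb
    rw [map_add, map_mul] at h
    linear_combination (u : F) * σ u * h⟩
  invFun g := ⟨τ.symm ((u : F)⁻¹ * g.c), τ.symm (((u : F) * σ u)⁻¹ * g.b), τ.injective (by
    rw [map_add, map_mul τ, ← comm_frob (σ := σ) (q := q), ← comm_frob (σ := σ) (q := q), RingEquiv.apply_symm_apply, RingEquiv.apply_symm_apply,
      map_mul, map_mul, map_inv₀, map_inv₀, map_mul, hσ.out.invol, mul_inv, mul_inv]
    linear_combination (u : F)⁻¹ * (σ u)⁻¹ * g.hb)⟩
  left_inv g := Heis.ext (τ.injective (by rw [RingEquiv.apply_symm_apply, inv_mul_cancel_left₀ u.ne_zero]))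
    (τ.injective (by
      rw [RingEquiv.apply_symm_apply, inv_mul_cancel_left₀ (mul_ne_zero u.ne_zero ((map_ne_zero σ).2 u.ne_zero))]))
  right_inv g := Heis.ext (by
      show (u : F) * τ (τ.symm ((u : F)⁻¹ * g.c)) = g.c
      rw [RingEquiv.apply_symm_apply, mul_inv_cancel_left₀ u.ne_zero])
    (by
      show (u : F) * σ u * τ (τ.symm (((u : F) * σ u)⁻¹ * g.b)) = g.b
      rw [RingEquiv.apply_symm_apply, mul_inv_cancel_left₀ (mul_ne_zero u.ne_zero ((map_ne_zero σ).2 u.ne_zero))])
  map_mul' g h := Heis.ext (by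
      show (u : F) * τ (g.c + h.c) = u * τ g.c + u * τ h.c
      rw [map_add, mul_add]) (by
      show (u : F) * σ u * τ (g.b + h.b + σ g.c * h.c) =
        (u : F) * σ u * τ g.b + (u : F) * σ u * τ h.b + σ (u * τ g.c) * (u * τ h.c)
      rw [map_add, map_add, map_mul, map_mul, comm_frob (σ := σ) (q := q)]
      ring)

/-- The central automorphism of an additive map into the fixed field. -/
def centAut (f : F →+ (σ.eqLocusField (RingHom.id F))) : MulAut (Heis σ) where
  toFun g := ⟨g.c, g.b + (f g.c : F), by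
    rw [map_add, show σ (f g.c : F) = f g.c from (f g.c).2]
    linear_combination g.hb + (f g.c : F) * two0 (F := F)⟩
  invFun g := ⟨g.c, g.b + (f g.c : F), by
    rw [map_add, show σ (f g.c : F) = f g.c from (f g.c).2]
    linear_combination g.hb + (f g.c : F) * two0 (F := F)⟩
  left_inv g := Heis.ext rfl (by simp [add_assoc, add_self])
  right_inv g := Heis.ext rfl (by simp [add_assoc, add_self])
  map_mul' g h := Heis.ext rfl (by
    simp only [mul_b, mul_c, map_add, Subfield.coe_add]
    ring)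

theorem center_c (φ : MulAut (Heis σ)) {g : Heis σ} (h : g.c = 0) : (φ g).c = 0 := by
  rw [← mem_center_iff] at h ⊢
  rw [Subgroup.mem_center_iff] at h ⊢
  intro k
  obtain ⟨k, rfl⟩ := φ.surjective k
  rw [← map_mul, h, map_mul]

theorem same_c (φ : MulAut (Heis σ)) {g h : Heis σ} (e : g.c = h.c) : (φ g).c = (φ h).c := by
  have h1 := center_c φ (g := g * h⁻¹) (by rw [mul_c, inv_c, e, add_self])
  rw [map_mul, map_inv, mul_c, inv_c] at h1
  linear_combination h1 - (φ h).c * two0 (F := F)

include hq in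
/-- Every automorphism is a central automorphism times a similitude, uniquely. -/
theorem decompose : Function.Bijective
    fun p : (F →+ (σ.eqLocusField (RingHom.id F))) × Fˣ × (F ≃+* F) =>
      centAut p.1 * simAut (σ := σ) (q := q) p.2.1 p.2.2 := by
  constructor
  · rintro ⟨f, u, τ⟩ ⟨f', u', τ'⟩ h
    have hc : ∀ c, (u : F) * τ c = u' * τ' c := fun c => by
      obtain ⟨g, rfl⟩ := exists_elt (σ := σ) c
      exact congrArg Heis.c (DFunLike.congr_fun h g)
    have h1 : u = u' := Units.ext (by simpa using hc 1)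
    subst h1
    have h2 : τ = τ' := RingEquiv.ext fun c => mul_left_cancel₀ u.ne_zero (hc c)
    subst h2
    have h3 : f = f' := by
      refine AddMonoidHom.ext fun c => Subtype.ext ?_
      obtain ⟨g, hg⟩ := exists_elt (σ := σ) (τ.symm ((u : F)⁻¹ * c))
      have hb := congrArg Heis.b (DFunLike.congr_fun h g)
      change (u : F) * σ u * τ g.b + (f (u * τ g.c) : F) = (u : F) * σ u * τ g.b + (f' (u * τ g.c) : F) at hb
      rw [hg, RingEquiv.apply_symm_apply, mul_inv_cancel_left₀ u.ne_zero] at hb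
      exact add_left_cancel hb
    subst h3
    rfl
  · intro φ
    choose e he using exists_elt (σ := σ)
    let A : F →+ F := AddMonoidHom.mk' (fun c => (φ (e c)).c) fun c d => by
      rw [same_c φ (g := e (c + d)) (h := e c * e d) (by rw [mul_c, he, he, he]), map_mul, mul_c]
    have hA : ∀ g : Heis σ, A g.c = (φ g).c := fun g => same_c φ (he _)
    have hAinj : Function.Injective A := fun c d h => by
      have := same_c φ.symm (g := φ (e c)) (h := φ (e d)) h
      rwa [MulEquiv.symm_apply_apply, MulEquiv.symm_apply_apply, he, he] at this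
    classical
    let ψ : F → F := fun x => if hx : σ x = x then (φ (cent x hx)).b else 0
    obtain ⟨u, τ, hAu⟩ := semilinear A hAinj ψ (fun x y hx hy => by
      have hxy : σ (x + y) = x + y := by rw [map_add, hx, hy]
      simp only [ψ, dif_pos hx, dif_pos hy, dif_pos hxy]
      rw [← cent_mul _ _ hx hy, map_mul, mul_b, center_c φ (g := cent x hx) rfl, map_zero, zero_mul, add_zero])
      (fun x hx h => by
        simp only [ψ, dif_pos hx] at h
        have h1 : φ (cent x hx) = 1 := Heis.ext (center_c φ rfl) h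
        exact congrArg Heis.b ((map_eq_one_iff φ φ.injective).1 h1))
      fun c => by
        simp only [ψ, dif_pos (hσ.out.norm_fixed c)]
        have h1 := congrArg φ (mul_self_eq (e c))
        rw [map_mul, mul_self_eq, he] at h1
        exact congrArg Heis.b h1
    set χ := φ * (simAut (σ := σ) (q := q) u τ)⁻¹ with hχ
    have hχc : ∀ g : Heis σ, (χ g).c = g.c := fun g => by
      obtain ⟨g, rfl⟩ := (simAut (σ := σ) (q := q) u τ).surjective g
      rw [hχ, MulAut.mul_apply, MulAut.inv_apply_self, ← hA, hAu]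
      rfl
    have hχz : ∀ g : Heis σ, g.c = 0 → χ g = g := by
      intro g hg
      obtain ⟨c, hc⟩ := hσ.out.exists_norm_eq (fixed_of_c_eq_zero hg)
      have h1 : g = e c * e c := by
        rw [mul_self_eq]
        exact Heis.ext hg (by show g.b = (e c).c * σ (e c).c; rw [he, hc])
      rw [h1, map_mul, mul_self_eq, mul_self_eq, ]
      exact Heis.ext rfl (by show (χ (e c)).c * σ (χ (e c)).c = _; rw [hχc]; rfl)
    have hwell : ∀ g h : Heis σ, g.c = h.c → (χ g).b + g.b = (χ h).b + h.b := by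
      intro g h hgh
      set z := g * h⁻¹ with hz
      have hzc : z.c = 0 := by rw [hz, mul_c, inv_c, hgh, add_self]
      have hg' : g = z * h := by rw [hz, inv_mul_cancel_right]
      clear_value z
      rw [hg', map_mul, hχz z hzc, mul_b, mul_b, hzc, map_zero, zero_mul]
      linear_combination z.b * two0 (F := F)
    have hfix : ∀ c, σ ((χ (e c)).b + (e c).b) = (χ (e c)).b + (e c).b := fun c => by
      rw [map_add]
      have h1 := (χ (e c)).hb
      rw [hχc] at h1
      linear_combination h1 + (e c).hb - ((χ (e c)).b + (e c).b) * two0 (F := F) +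
        (e c).c * σ (e c).c * two0 (F := F)
    let f : F →+ (σ.eqLocusField (RingHom.id F)) :=
      AddMonoidHom.mk' (fun c => ⟨(χ (e c)).b + (e c).b, hfix c⟩) fun c d => by
        refine Subtype.ext ?_
        show _ = (χ (e c)).b + (e c).b + ((χ (e d)).b + (e d).b)
        show (χ (e (c + d))).b + (e (c + d)).b = _
        rw [hwell (e (c + d)) (e c * e d) (by rw [mul_c, he, he, he]), map_mul, mul_b, mul_b, hχc (e c), hχc (e d)]
        linear_combination σ (e c).c * (e d).c * two0 (F := F) + σ (e c).c * ((χ (e d)).c - (e d).c) * 0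
    refine ⟨(f, u, τ), ?_⟩
    show centAut f * simAut (σ := σ) (q := q) u τ = φ
    rw [← eq_mul_inv_iff_mul_eq, ← hχ]
    refine MulEquiv.ext fun g => Heis.ext (hχc g).symm ?_
    show g.b + ((χ (e g.c)).b + (e g.c).b) = (χ g).b
    rw [← hwell g (e g.c) (he _).symm]
    linear_combination g.b * two0 (F := F)

include hq in
theorem aut_structure (n : ℕ) (hn : 1 ≤ n) (hqn : q = 2 ^ n) :
    Cfsg.IsElementaryAbelian 2 (Cfsg.pCore 2 (MulAut (Heis σ))) ∧
      Nat.card ↥(Cfsg.pCore 2 (MulAut (Heis σ))) = 2 ^ (2 * n ^ 2) ∧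
      Nat.card (MulAut (Heis σ)) = 2 ^ (2 * n ^ 2) * (2 * n * (q ^ 2 - 1)) ∧
      ∀ φ : MulAut (Heis σ), (∀ g, (φ g).c = g.c) → φ ^ 2 = 1 := by
  haveI : Fact (Nat.Prime 2) := ⟨Nat.prime_two⟩
  haveI : Finite (Heis σ) := Nat.finite_of_card_ne_zero (by
    rw [card_heis (σ := σ) (q := q)]; exact pow_ne_zero _ (by rw [hqn]; positivity))
  haveI : Finite (MulAut (Heis σ)) := Finite.of_injective (fun φ => (φ : Heis σ → Heis σ)) DFunLike.coe_injective
  letI := ZMod.algebra F 2
  have hF : Nat.card F = 2 ^ (2 * n) := by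
    rw [Nat.card_eq_fintype_card, hq.out.1, hqn, ← pow_mul, mul_comm]
  have hr : Module.finrank (ZMod 2) F = 2 * n := by
    have h := Module.natCard_eq_pow_finrank (K := ZMod 2) (V := F)
    rw [hF, Nat.card_zmod] at h
    exact (Nat.pow_right_injective le_rfl h).symm
  have hA : Nat.card (F ≃+* F) = 2 * n := by
    rw [← hr, ← IsGalois.card_aut_eq_finrank (ZMod 2) F]
    exact Nat.card_congr
      { toFun := fun σ => AlgEquiv.ofRingEquiv (f := σ) fun a =>
          RingHom.congr_fun (RingHom.ext_zmod ((σ : F →+* F).comp (algebraMap (ZMod 2) F)) _) a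
        invFun := fun σ => σ.toRingEquiv
        left_inv := fun σ => RingEquiv.ext fun x => rfl
        right_inv := fun σ => AlgEquiv.ext fun x => rfl }
  have hZ : Nat.card (σ.eqLocusField (RingHom.id F)) = q :=
    (Nat.card_congr (Equiv.subtypeEquivRight fun x => Iff.rfl)).trans (card_fix (σ := σ) (q := q))
  haveI : CharP (σ.eqLocusField (RingHom.id F)) 2 := inferInstance
  letI := ZMod.algebra (σ.eqLocusField (RingHom.id F)) 2
  have hH : Nat.card (F →+ (σ.eqLocusField (RingHom.id F))) = 2 ^ (2 * n ^ 2) := by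
    let b := Module.finBasis (ZMod 2) F
    rw [Nat.card_congr (AddMonoidHom.toZModLinearMapEquiv 2 (M := F) (M₁ := σ.eqLocusField (RingHom.id F))).toEquiv,
      Nat.card_congr (b.constr ℕ).symm.toEquiv, Nat.card_fun, Nat.card_fin, hr, hZ, hqn, ← pow_mul]
    congr 1
    ring
  have hcard : Nat.card (MulAut (Heis σ)) = 2 ^ (2 * n ^ 2) * (2 * n * (q ^ 2 - 1)) := by
    rw [← Nat.card_eq_of_bijective _ (decompose (σ := σ) (q := q)), Nat.card_prod, Nat.card_prod, hH, hA,
      Nat.card_units, Nat.card_eq_fintype_card (α := F), hq.out.1]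
    ring
  let K : Subgroup (MulAut (Heis σ)) :=
    { carrier := {φ | ∀ g, (φ g).c = g.c}
      one_mem' := fun _ => rfl
      mul_mem' := fun {φ ψ} h h' g => (h _).trans (h' g)
      inv_mem' := fun {φ} h g => by
        obtain ⟨g, rfl⟩ := φ.surjective g
        rw [MulAut.inv_apply_self, h g] }
  haveI hKn : K.Normal := ⟨fun φ hφ ψ g => by
    obtain ⟨g, rfl⟩ := ψ.surjective g
    rw [MulAut.mul_apply, MulAut.mul_apply, MulAut.inv_apply_self]
    exact same_c ψ (hφ g)⟩
  have hKeq : ∀ φ ∈ K, ∃ f, φ = centAut f := by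
    intro φ hφ
    obtain ⟨⟨f, u, τ⟩, rfl⟩ := (decompose (σ := σ) (q := q)).2 φ
    have hc : ∀ c, (u : F) * τ c = c := fun c => by
      obtain ⟨g, rfl⟩ := exists_elt (σ := σ) c
      exact hφ g
    have hu : u = 1 := Units.ext (by simpa using hc 1)
    refine ⟨f, ?_⟩
    show centAut f * simAut (σ := σ) (q := q) u τ = centAut f
    rw [mul_eq_left]
    refine MulEquiv.ext fun g => Heis.ext (hc g.c) ?_
    show (u : F) * σ u * τ g.b = g.b
    rw [hu]
    simpa [hu] using hc g.b
  have hsq : ∀ φ ∈ K, φ ^ 2 = 1 := fun φ hφ => by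
    obtain ⟨f, rfl⟩ := hKeq φ hφ
    refine MulEquiv.ext fun g => Heis.ext rfl ?_
    show g.b + (f g.c : F) + (f g.c : F) = g.b
    rw [add_assoc, add_self, add_zero]
  have hKel : Cfsg.IsElementaryAbelian 2 K := ⟨⟨⟨fun x y => Subtype.ext (by
    obtain ⟨f, hf⟩ := hKeq _ x.2
    obtain ⟨f', hf'⟩ := hKeq _ y.2
    rw [Subgroup.coe_mul, Subgroup.coe_mul, hf, hf']
    exact MulEquiv.ext fun g => Heis.ext rfl (add_right_comm g.b (f' g.c : F) (f g.c : F)))⟩⟩, hsq⟩
  have hKcard : Nat.card K = 2 ^ (2 * n ^ 2) := by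
    rw [← hH]
    refine (Nat.card_eq_of_bijective (fun f : F →+ (σ.eqLocusField (RingHom.id F)) => (⟨centAut f, fun _ => rfl⟩ : K))
      ⟨fun f f' h => ?_, fun φ => ?_⟩).symm
    · refine AddMonoidHom.ext fun c => Subtype.ext ?_
      obtain ⟨g, rfl⟩ := exists_elt (σ := σ) c
      exact add_left_cancel (congrArg (fun φ : K => ((φ : MulAut (Heis σ)) g).b) h)
    · obtain ⟨f, hf⟩ := hKeq _ φ.2
      exact ⟨f, Subtype.ext hf.symm⟩
  have hcore : Cfsg.pCore 2 (MulAut (Heis σ)) = K := by
    refine le_antisymm (fun φ hφ => ?_) (CfsgLib.Solvable.Cores.le_pCore fun x => ⟨1, Subtype.ext (hsq _ x.2)⟩)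
    have hP := CfsgLib.Solvable.Cores.isPGroup_pCore (G := MulAut (Heis σ)) 2
    obtain ⟨⟨f, u, τ⟩, hd⟩ := (decompose (σ := σ) (q := q)).2 φ
    -- multiplications of two-power order are trivial
    have key : ∀ ψ ∈ Cfsg.pCore 2 (MulAut (Heis σ)), ∀ w : F, (∀ g, (ψ g).c = w * g.c) → w = 1 := by
      intro ψ hψ w hw
      obtain ⟨k, hk⟩ := hP ⟨ψ, hψ⟩
      have hpow : ∀ (j : ℕ) (g : Heis σ), ((ψ ^ j) g).c = w ^ j * g.c := by
        intro j
        induction j with
        | zero => intro g; simp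
        | succ j ih => intro g; rw [pow_succ, MulAut.mul_apply, ih, hw, pow_succ]; ring
      obtain ⟨g, hg⟩ := exists_elt (σ := σ) 1
      have h1 := hpow (2 ^ k) g
      rw [show ψ ^ (2 ^ k) = 1 from congrArg Subtype.val hk, hg, mul_one] at h1
      have h2 : iterateFrobenius F 2 k w = iterateFrobenius F 2 k 1 := by
        rw [iterateFrobenius_def, iterateFrobenius_def, one_pow, ← h1]
        exact hg
      exact (iterateFrobenius F 2 k).injective h2
    have hc : ∀ g : Heis σ, (φ g).c = u * τ g.c := fun g => by rw [← hd]; rfl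
    have hτ : ∀ v : F, τ v = v := by
      intro v
      by_cases hv : v = 0
      · rw [hv, map_zero]
      set s := simAut (σ := σ) (q := q) (Units.mk0 v hv) 1
      have hmem : φ * (s * φ⁻¹ * s⁻¹) ∈ Cfsg.pCore 2 (MulAut (Heis σ)) :=
        mul_mem hφ ((CfsgLib.Solvable.Cores.pCore_normal 2).conj_mem _ (inv_mem hφ) s)
      have h := key _ hmem (τ v * v⁻¹) fun g => by
        obtain ⟨g, rfl⟩ := s.surjective g
        obtain ⟨g, rfl⟩ := φ.surjective g
        rw [MulAut.mul_apply, MulAut.mul_apply, MulAut.mul_apply, MulAut.inv_apply_self, MulAut.inv_apply_self, hc]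
        show (u : F) * τ (v * g.c) = τ v * v⁻¹ * (v * (φ g).c)
        rw [hc, map_mul]
        field_simp
      rwa [mul_inv_eq_one₀ hv] at h
    have hu : (u : F) = 1 := key φ hφ u fun g => by rw [hc, hτ]
    intro g
    rw [hc, hτ, hu, one_mul]
  refine ⟨hcore ▸ hKel, hcore ▸ hKcard, hcard, fun φ hφ => hsq φ hφ⟩

include hq in
theorem sylow_equiv_SU (n : ℕ) (hn : 1 ≤ n) (hqn : q = 2 ^ n) (P : Sylow 2 (Cfsg.SU 3 F q)) :
    Nonempty (Heis σ ≃* (P : Subgroup (Cfsg.SU 3 F q))) := by
  haveI : Fact (Nat.Prime 2) := ⟨Nat.prime_two⟩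
  have hF := hq.out.1
  have hq0 : 0 < q := hqn ▸ Nat.two_pow_pos n
  have hqe : Even q := hqn ▸ Nat.even_pow.2 ⟨even_two, by omega⟩
  have hq3 : q ^ 3 = 2 ^ (3 * n) := by rw [hqn, ← pow_mul, mul_comm]
  haveI : Finite (Heis σ) := Nat.finite_of_card_ne_zero (by rw [card_heis (σ := σ) (q := q)]; positivity)
  let ψ : Heis σ →* Cfsg.SU 3 F q := (repSL (σ := σ)).codRestrict _ (repSL_mem (σ := σ) (q := q))
  have hψ : Function.Injective ψ := fun g h e => by
    have e1 := congrArg (fun x : Cfsg.SU 3 F q => (x.1.1 : Matrix (Fin 3) (Fin 3) F) 2 0) e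
    have e2 := congrArg (fun x : Cfsg.SU 3 F q => (x.1.1 : Matrix (Fin 3) (Fin 3) F) 1 0) e
    simp [ψ, repSL, repMat] at e1 e2
    exact Heis.ext e1 e2
  obtain ⟨m, hm, hcard⟩ : ∃ m, Odd m ∧ Nat.card (Cfsg.SU 3 F q) = 2 ^ (3 * n) * m := by
    have h1 := card_SU_mul (F := F) hF (show 1 ≤ 3 by norm_num)
    rw [card_GU hF 3] at h1
    simp [Finset.prod_range_succ, Nat.even_iff] at h1
    obtain ⟨m, hm⟩ : 2 ^ (3 * n) ∣ Nat.card (Cfsg.SU 3 F q) := by
      rw [← hq3, ← card_heis (σ := σ) (q := q), Nat.card_congr (MonoidHom.ofInjective hψ).toEquiv]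
      exact Subgroup.card_subgroup_dvd_card _
    refine ⟨m, ?_, hm⟩
    rw [hm, hq3] at h1
    have h3 : (q + 1) * m = (q + 1) * (q ^ 2 - 1) * (q ^ 3 + 1) := by
      refine Nat.eq_of_mul_eq_mul_left (Nat.two_pow_pos (3 * n)) ?_
      rw [hq3]
      linarith
    have ho : Odd ((q + 1) * (q ^ 2 - 1) * (q ^ 3 + 1)) :=
      (hqe.add_one.mul (Nat.Even.sub_odd (Nat.one_le_pow _ _ hq0) (hqe.pow_of_ne_zero two_ne_zero) odd_one)).mul
        (hqe.pow_of_ne_zero three_ne_zero).add_one
    rw [← h3] at ho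
    exact (Nat.odd_mul.1 ho).2
  haveI : Finite (Cfsg.SU 3 F q) := inferInstance
  have hH : Nat.card ψ.range = 2 ^ (3 * n) := by
    rw [← Nat.card_congr (MonoidHom.ofInjective hψ).toEquiv, card_heis (σ := σ) (q := q), hq3]
  obtain ⟨f, hf, hS⟩ := CfsgLib.Involution.SylowTwoType.exists_hom_into_sylow hm hcard hH P
  exact ⟨(MonoidHom.ofInjective hψ).trans
    (MulEquiv.ofBijective f ((Nat.bijective_iff_injective_and_card f).2 ⟨hf, hH.trans hS.symm⟩))⟩

end CfsgLib.RankOne.UnitarySylow
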