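import Mathlib
import Cfsg.Agent.Lib.RankOne.Four

/-!
# Control of fusion and strongly real elements in the rank-one set-up
-/

set_option autoImplicit false
set_option linter.style.haveILetI false

open Cfsg

namespace CfsgLib.RankOne

variable {G Ω : Type*} [Group G] [Finite G] [MulAction G Ω] {a : Ω} {t : G} {Q : Subgroup G}
  (hS : IsRankOneSetup G Ω a t Q)
  (h2 : ∃ x y : G, x ≠ 1 ∧ y ≠ 1 ∧ x ≠ y ∧ x * x = 1 ∧ y * y = 1 ∧ x * y = y * x)

include hS

/-- A fixed point free element of the two-point stabiliser inverted by an exchanging involution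
fixes only two points. -/
theorem no_three_fix [FaithfulSMul G Ω]
    (h2 : ∃ x y : G, x ≠ 1 ∧ y ≠ 1 ∧ x ≠ y ∧ x * x = 1 ∧ y * y = 1 ∧ x * y = y * x)
    {j x : G} (hj : j * j = 1) (hja : j • a = t • a) (hx : x ∈ two G a t)
    (hinv : j * x * j⁻¹ = x⁻¹) (hx1 : x ≠ 1) {c : Ω} (hc : x • c = c) :
    c = a ∨ c = t • a := by
  have hjta : j • t • a = a := by rw [← hja, smul_smul, hj, one_smul]
  have hk : t * j ∈ two G a t := (mem_two hS).mpr
    ⟨by rw [mul_smul, hja, tt_smul hS], by rw [mul_smul, hjta]⟩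
  have htk : t * (t * j) = j := by rw [← mul_assoc, hS.mul_self, one_mul]
  have hkK : t * j ∈ invertedBy (two G a t) t := (inverted_iff hS hk).mpr (by rw [htk, hj])
  have hS' := setup_mul hS hkK
  rw [htk] at hS'
  have htwo : two G a j = two G a t := by rw [two, two, hja]
  have hfix := Cfsg.Agent.S1128.result hS' h2 x ⟨by rw [hja]; exact hx, hinv⟩ hx1
  by_contra hne
  push Not at hne
  obtain ⟨q, hq, hqX, hqc⟩ := exists_q_centralizer hS (X := {x})
    (fun y hy => by rw [Set.mem_singleton_iff] at hy; rw [hy]; exact ((mem_two hS).mp hx).1)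
    (ta_ne hS) hne.1
    (fun y hy => by rw [Set.mem_singleton_iff] at hy; rw [hy]; exact ((mem_two hS).mp hx).2)
    (fun y hy => by rw [Set.mem_singleton_iff] at hy; rw [hy]; exact hc)
  have : q ∈ Q ⊓ Subgroup.centralizer {x} := ⟨hq, hqX⟩
  rw [hfix, Subgroup.mem_bot] at this
  rw [this, one_smul] at hqc
  exact hne.2 hqc.symm

/-- Involutions of the centraliser of `X` are conjugate there when `X` fixes three points. -/
theorem isConj_centralizer {X : Set G}
    (h3 : ∃ b c d : Ω, b ≠ c ∧ b ≠ d ∧ c ≠ d ∧ ∀ x ∈ X, x • b = b ∧ x • c = c ∧ x • d = d)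
    {u v : G} (hu : u ∈ Subgroup.centralizer X) (hu1 : u ≠ 1) (hu2 : u * u = 1)
    (hv : v ∈ Subgroup.centralizer X) (hv1 : v ≠ 1) (hv2 : v * v = 1) :
    ∃ g ∈ Subgroup.centralizer X, g * u * g⁻¹ = v := by
  have key : ∀ u v : G, u ∈ Subgroup.centralizer X → u ≠ 1 → u * u = 1 → v ∈ Subgroup.centralizer X →
      v ≠ 1 → v * v = 1 → ∀ b c : Ω, u • b = b → v • c = c → b ≠ c →
      ∃ g ∈ Subgroup.centralizer X, g * u * g⁻¹ = v := by
    intro u v hu hu1 hu2 hv hv1 hv2 b c hb hc hne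
    obtain ⟨g, hg, e⟩ := isConj_of_odd_mul hu2 hv2 (odd_orderOf_mul hS hu2 hu1 hv2 hv1 hb hc hne)
    refine ⟨g, (Subgroup.closure_le _).mpr ?_ hg, e⟩
    intro z hz
    rcases hz with rfl | rfl <;> assumption
  obtain ⟨b, hb, -⟩ := existsUnique_fix hS hu2 hu1
  obtain ⟨c, hc, -⟩ := existsUnique_fix hS hv2 hv1
  by_cases hne : b = c
  swap
  · exact key u v hu hu1 hu2 hv hv1 hv2 b c hb hc hne
  subst hne
  have hXb : ∀ x ∈ X, x • b = b := fun x hx => fix_eq hS hu2 hu1
    (by rw [smul_smul, ← Subgroup.mem_centralizer_iff.mp hu x hx, mul_smul, hb]) hb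
  obtain ⟨d, hXd, hdb⟩ : ∃ d : Ω, (∀ x ∈ X, x • d = d) ∧ d ≠ b := by
    obtain ⟨p, q, _, hpq, _, _, h⟩ := h3
    by_cases hp : p = b
    · exact ⟨q, fun x hx => (h x hx).2.1, fun e => hpq (hp.trans e.symm)⟩
    · exact ⟨p, fun x hx => (h x hx).1, hp⟩
  obtain ⟨g, hg, hgb, -⟩ := centralizer_two_trans hS h3 (b₁ := b) (b₂ := d) (c₁ := d) (c₂ := b)
    (fun x hx => ⟨hXb x hx, hXd x hx, hXd x hx, hXb x hx⟩) hdb.symm hdb
  set w := g * u * g⁻¹ with hw
  have hwX : w ∈ Subgroup.centralizer X := mul_mem (mul_mem hg hu) (inv_mem hg)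
  have hw1 : w ≠ 1 := fun e => hu1 (conj_eq_one_iff.mp e)
  have hw2 : w * w = 1 := by
    calc w * w = g * (u * u) * g⁻¹ := by rw [hw]; group
      _ = 1 := by rw [hu2]; group
  have hwd : w • d = d := by rw [hw, mul_smul, mul_smul, ← hgb, inv_smul_smul, hb]
  obtain ⟨h, hh, e⟩ := key w v hwX hw1 hw2 hv hv1 hv2 d b hwd hc hdb
  exact ⟨h * g, mul_mem hh hg, by rw [← e, hw]; group⟩

include h2 in
theorem fusion_control [FaithfulSMul G Ω] {X : Set G}
    (hX : X ⊆ ((two G a t ⊓ Subgroup.centralizer {t} : Subgroup G) : Set G)) (g : G)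
    (hY : (fun x => g * x * g⁻¹) '' X ⊆ ((two G a t ⊓ Subgroup.centralizer {t} : Subgroup G) : Set G)) :
    ∃ v ∈ two G a t ⊓ Subgroup.centralizer {t},
      (fun x => v * x * v⁻¹) '' X = (fun x => g * x * g⁻¹) '' X := by
  obtain ⟨e, he, -⟩ := existsUnique_fix hS hS.mul_self hS.ne_one
  have hea : e ≠ a := fun h => hS.not_mem (h ▸ he)
  have het : e ≠ t • a := fun h => ta_ne hS (by
    have := he
    rw [h, tt_smul hS] at this
    exact this.symm)
  have hV : ∀ x ∈ two G a t ⊓ Subgroup.centralizer {t}, x • a = a ∧ x • t • a = t • a ∧ x • e = e ∧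
      x * t = t * x := fun x hx => by
    have hxt : x * t = t * x := Subgroup.mem_centralizer_singleton_iff.mp hx.2
    exact ⟨((mem_two hS).mp hx.1).1, ((mem_two hS).mp hx.1).2, fix_eq hS hS.mul_self hS.ne_one
      (by rw [smul_smul, ← hxt, mul_smul, he]) he, hxt⟩
  have htX : t ∈ Subgroup.centralizer X :=
    Subgroup.mem_centralizer_iff.mpr fun x hx => (hV x (hX hx)).2.2.2
  have hti : t⁻¹ = t := t_inv hS
  have hgt : g⁻¹ * t * g ∈ Subgroup.centralizer X := Subgroup.mem_centralizer_iff.mpr fun x hx => by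
    have h1 := (hV _ (hY ⟨x, hx, rfl⟩)).2.2.2
    calc x * (g⁻¹ * t * g) = g⁻¹ * (g * x * g⁻¹ * t) * g := by group
      _ = g⁻¹ * (t * (g * x * g⁻¹)) * g := by rw [h1]
      _ = _ := by group
  obtain ⟨c, hc, hct⟩ := isConj_centralizer hS
    ⟨a, t • a, e, (ta_ne hS).symm, hea.symm, het.symm, fun x hx =>
      ⟨(hV x (hX hx)).1, (hV x (hX hx)).2.1, (hV x (hX hx)).2.2.1⟩⟩
    htX hS.ne_one hS.mul_self hgt (fun h => hS.ne_one (by
      calc t = g * (g⁻¹ * t * g) * g⁻¹ := by group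
        _ = 1 := by rw [h]; group)) (by
      calc g⁻¹ * t * g * (g⁻¹ * t * g) = g⁻¹ * (t * t) * g := by group
        _ = 1 := by rw [hS.mul_self]; group)
  set g1 := g * c with hg1
  have hg1t : g1 * t = t * g1 := by
    calc g1 * t = g * (c * t * c⁻¹) * c := by rw [hg1]; group
      _ = t * g1 := by rw [hct, hg1]; group
  have hg1e : g1 • e = e := fix_eq hS hS.mul_self hS.ne_one
    (by rw [smul_smul, ← hg1t, mul_smul, he]) he
  have himg : ∀ x ∈ X, g1 * x * g1⁻¹ = g * x * g⁻¹ := fun x hx => by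
    calc g1 * x * g1⁻¹ = g * (c * x) * (c⁻¹ * g⁻¹) := by rw [hg1]; group
      _ = g * (x * c) * (c⁻¹ * g⁻¹) := by rw [Subgroup.mem_centralizer_iff.mp hc x hx]
      _ = _ := by group
  -- move `g1 • a` back to `a` inside the centraliser of `t`
  haveI := pretransitive hS
  obtain ⟨h, hh⟩ := MulAction.exists_smul_eq G a e
  let Y : Set G := (fun y => h⁻¹ * y * h) '' ((fun x => g * x * g⁻¹) '' X)
  have hYfix : ∀ z : Ω, (∀ y ∈ (fun x => g * x * g⁻¹) '' X, y • z = z) →
      ∀ y ∈ Y, y • h⁻¹ • z = h⁻¹ • z := by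
    rintro z hz _ ⟨y, hy, rfl⟩
    rw [mul_smul, mul_smul, smul_inv_smul, hz y hy]
  have he' : h⁻¹ • e = a := by rw [inv_smul_eq_iff, hh]
  have hne : g1 • a ≠ e := fun h' => hea (smul_left_cancel g1 (hg1e.trans h'.symm))
  obtain ⟨q, hq, hqY, hqc⟩ := exists_q_centralizer hS (X := Y)
    (fun y hy => he' ▸ hYfix e (fun y hy => (hV y (hY hy)).2.2.1) y hy)
    (c := h⁻¹ • g1 • a) (d := h⁻¹ • a)
    (fun e' => hne (smul_left_cancel h⁻¹ (e'.trans he'.symm)))
    (fun e' => hea (smul_left_cancel h⁻¹ (he'.trans e'.symm)))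
    (hYfix _ fun y hy => by
      obtain ⟨x, hx, rfl⟩ := hy
      change (g * x * g⁻¹) • g1 • a = g1 • a
      rw [← himg x hx, mul_smul, mul_smul, inv_smul_smul, (hV x (hX hx)).1])
    (hYfix _ fun y hy => (hV y (hY hy)).1)
  have hw : h⁻¹ * t * h ∈ involutionsIn (MulAction.stabilizer G a : Set G) := by
    refine ⟨?_, fun h' => hS.ne_one ?_, ?_⟩
    · change (h⁻¹ * t * h) • a = a
      rw [mul_smul, mul_smul, hh, he, he']
    · calc t = h * (h⁻¹ * t * h) * h⁻¹ := by group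
        _ = 1 := by rw [h']; group
    · calc h⁻¹ * t * h * (h⁻¹ * t * h) = h⁻¹ * (t * t) * h := by group
        _ = 1 := by rw [hS.mul_self]; group
  have hqt := (central_invol hS h2 hw).2 q hq
  set q1 := h * q * h⁻¹ with hq1
  have hq1t : q1 * t = t * q1 := by
    calc q1 * t = h * (q * (h⁻¹ * t * h)) * h⁻¹ := by rw [hq1]; group
      _ = h * (h⁻¹ * t * h * q) * h⁻¹ := by rw [hqt]
      _ = t * q1 := by rw [hq1]; group
  set v := q1 * g1 with hv
  have hvt : v * t = t * v := by rw [hv, mul_assoc, hg1t, ← mul_assoc, hq1t, mul_assoc]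
  have hva : v • a = a := by
    rw [hv, mul_smul, hq1, mul_smul, mul_smul, hqc, smul_inv_smul]
  refine ⟨v, Subgroup.mem_inf.mpr ⟨(mem_two hS).mpr ⟨hva, by rw [smul_smul, hvt, mul_smul, hva]⟩,
    Subgroup.mem_centralizer_singleton_iff.mpr hvt⟩, Set.image_congr fun x hx => ?_⟩
  have h1 := Subgroup.mem_centralizer_iff.mp hqY _ ⟨g * x * g⁻¹, ⟨x, hx, rfl⟩, rfl⟩
  calc v * x * v⁻¹ = h * q * h⁻¹ * (g1 * x * g1⁻¹) * (h * q * h⁻¹)⁻¹ := by rw [hv, hq1]; group
    _ = h * q * (h⁻¹ * (g * x * g⁻¹) * h) * q⁻¹ * h⁻¹ := by rw [himg x hx]; group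
    _ = h * (h⁻¹ * (g * x * g⁻¹) * h * q) * q⁻¹ * h⁻¹ := by rw [h1]; group
    _ = _ := by group

include h2 in
theorem strongly_real [FaithfulSMul G Ω] {u v : G} (hu1 : u ≠ 1) (hu2 : u * u = 1) (hv1 : v ≠ 1)
    (hv2 : v * v = 1) (hx : (u * v) * (u * v) ≠ 1) :
    (∃ g : G, ∃ u' ∈ involutionsIn (MulAction.stabilizer G a : Set G), g * (u * v) * g⁻¹ = u' * t) ∧
      Odd (Nat.card ↥(Subgroup.centralizer {u * v})) := by
  haveI := pretransitive hS
  obtain ⟨b, hb, -⟩ := existsUnique_fix hS hu2 hu1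
  obtain ⟨c, hc, -⟩ := existsUnique_fix hS hv2 hv1
  have hconjA : ∀ g w : G, w * w = 1 → w ≠ 1 → w • g • a = g • a →
      g⁻¹ * w * g ∈ involutionsIn (MulAction.stabilizer G a : Set G) := by
    intro g w hw hw1 hwfix
    refine ⟨?_, fun h' => hw1 ?_, ?_⟩
    · change (g⁻¹ * w * g) • a = a
      rw [mul_smul, mul_smul, hwfix, inv_smul_smul]
    · calc w = g * (g⁻¹ * w * g) * g⁻¹ := by group
        _ = 1 := by rw [h']; group
    · calc g⁻¹ * w * g * (g⁻¹ * w * g) = g⁻¹ * (w * w) * g := by group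
        _ = 1 := by rw [hw]; group
  have hbc : b ≠ c := by
    rintro rfl
    obtain ⟨g, hg⟩ := MulAction.exists_smul_eq G a b
    subst hg
    have h1 := hconjA g u hu2 hu1 hb
    have h3 := (central_invol hS h2 h1).2 _ (central_invol hS h2 (hconjA g v hv2 hv1 hc)).1
    have hc' : u * v = v * u := by
      calc u * v = g * (g⁻¹ * u * g * (g⁻¹ * v * g)) * g⁻¹ := by group
        _ = g * (g⁻¹ * v * g * (g⁻¹ * u * g)) * g⁻¹ := by rw [h3]
        _ = v * u := by group
    exact hx (by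
      calc u * v * (u * v) = u * (v * u) * v := by group
        _ = u * u * (v * v) := by rw [← hc']; group
        _ = 1 := by rw [hu2, hv2, one_mul])
  constructor
  · obtain ⟨e, he, -⟩ := existsUnique_fix hS hS.mul_self hS.ne_one
    have hea : e ≠ a := fun h => hS.not_mem (h ▸ he)
    obtain ⟨h, hh⟩ := MulAction.exists_smul_eq G e a
    -- two involutions fixing `e` are conjugate by an element fixing `a` and `e`
    obtain ⟨g, hgb, hgc⟩ : ∃ g : G, g • b = a ∧ g • c = e :=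
      MulAction.is_two_pretransitive_iff.mp hS.two_transitive hbc hea.symm
    obtain ⟨k, hk1, hk2⟩ : ∃ k : G, k • a = e ∧ k • t • a = a :=
      MulAction.is_two_pretransitive_iff.mp hS.two_transitive (ta_ne hS).symm hea
    have hgv1 : g * v * g⁻¹ ≠ 1 := fun h' => hv1 (conj_eq_one_iff.mp h')
    have hgv2 : g * v * g⁻¹ * (g * v * g⁻¹) = 1 := by
      calc g * v * g⁻¹ * (g * v * g⁻¹) = g * (v * v) * g⁻¹ := by group
        _ = 1 := by rw [hv2]; group
    obtain ⟨d, hd, hde⟩ := exists_conj_inverted hS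
      (hconjA k (g * v * g⁻¹) hgv2 hgv1 (by
        rw [hk1, mul_smul, mul_smul, ← hgc, inv_smul_smul, hc]))
      (hconjA k t hS.mul_self hS.ne_one (by rw [hk1, he]))
    set m := k * d⁻¹ * k⁻¹ with hm
    have hdinv : d⁻¹ ∈ two G a t := inv_mem hd.1
    have hma : m • a = a := by
      rw [hm, mul_smul, mul_smul, show k⁻¹ • a = t • a by rw [inv_smul_eq_iff, hk2],
        ((mem_two hS).mp hdinv).2, hk2]
    refine ⟨m * g, m * g * u * (m * g)⁻¹, ?_, ?_⟩
    · have := hconjA (m * g)⁻¹ u hu2 hu1 (by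
        rw [show (m * g)⁻¹ • a = b by rw [inv_smul_eq_iff, mul_smul, hgb, hma], hb])
      rwa [inv_inv] at this
    · have h4 : m * (g * v * g⁻¹) * m⁻¹ = t := by
        calc m * (g * v * g⁻¹) * m⁻¹ = k * (d⁻¹ * (k⁻¹ * (g * v * g⁻¹) * k) * d) * k⁻¹ := by rw [hm]; group
          _ = t := by rw [hde]; group
      conv_rhs => rw [← h4]
      group
  · -- no involution centralises `x`
    by_contra hev
    rw [Nat.not_odd_iff_even] at hev
    haveI : Fact (Nat.Prime 2) := ⟨Nat.prime_two⟩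
    obtain ⟨⟨w, hw⟩, hwo⟩ := exists_prime_orderOf_dvd_card' 2 (even_iff_two_dvd.mp hev)
    rw [Subgroup.orderOf_mk] at hwo
    have hw2 : w * w = 1 := by rw [← pow_two, ← hwo]; exact pow_orderOf_eq_one w
    have hw1 : w ≠ 1 := fun h => by rw [orderOf_eq_one_iff.mpr h] at hwo; exact absurd hwo (by norm_num)
    obtain ⟨p, hp, -⟩ := existsUnique_fix hS hw2 hw1
    set x := u * v with hxdef
    have hwx : w * x = x * w := Subgroup.mem_centralizer_singleton_iff.mp hw
    have hxp : x • p = p := fix_eq hS hw2 hw1 (by rw [smul_smul, hwx, mul_smul, hp]) hp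
    have hui : u⁻¹ = u := inv_eq_of_mul_eq_one_right hu2
    have hvi : v⁻¹ = v := inv_eq_of_mul_eq_one_right hv2
    have hux : u * x * u⁻¹ = x⁻¹ := by
      rw [hxdef, mul_inv_rev, hui, hvi, ← mul_assoc, hu2, one_mul]
    have hxup : x • u • p = u • p := by
      have h1 : x⁻¹ • p = p := inv_smul_eq_iff.mpr hxp.symm
      rw [← hux, mul_smul, mul_smul, hui] at h1
      calc x • u • p = u • (u • x • u • p) := by rw [smul_smul u u, hu2, one_smul]
        _ = u • p := by rw [h1]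
    have hup : u • p ≠ p := by
      intro h
      refine hbc ((fix_eq hS hu2 hu1 hb h).trans (fix_eq hS hv2 hv1 ?_ hc))
      rw [show v = u * x by rw [hxdef, ← mul_assoc, hu2, one_mul], mul_smul, hxp, h]
    obtain ⟨g, hga, hgt⟩ : ∃ g : G, g • a = p ∧ g • t • a = u • p :=
      MulAction.is_two_pretransitive_iff.mp hS.two_transitive (ta_ne hS).symm hup.symm
    set y := g⁻¹ * x * g with hy
    have hyD : y ∈ two G a t := (mem_two hS).mpr
      ⟨by rw [hy, mul_smul, mul_smul, hga, hxp, inv_smul_eq_iff, hga],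
       by rw [hy, mul_smul, mul_smul, hgt, hxup, inv_smul_eq_iff, hgt]⟩
    have hy1 : y ≠ 1 := fun h => hx (by
      have : x = 1 := by
        calc x = g * y * g⁻¹ := by rw [hy]; group
          _ = 1 := by rw [h]; group
      rw [this, one_mul])
    have hwup : w • u • p ≠ p ∧ w • u • p ≠ u • p := by
      refine ⟨fun h => hup (smul_left_cancel w (h.trans hp.symm)), fun h => hup (fix_eq hS hw2 hw1 h hp)⟩
    rcases no_three_fix hS h2 (j := g⁻¹ * u * g) (x := y) (c := g⁻¹ • w • u • p)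
        (by
          calc g⁻¹ * u * g * (g⁻¹ * u * g) = g⁻¹ * (u * u) * g := by group
            _ = 1 := by rw [hu2]; group)
        (by rw [mul_smul, mul_smul, hga, inv_smul_eq_iff, hgt]) hyD
        (by
          calc g⁻¹ * u * g * y * (g⁻¹ * u * g)⁻¹ = g⁻¹ * (u * x * u⁻¹) * g := by rw [hy]; group
            _ = y⁻¹ := by rw [hux, hy]; group)
        hy1 (by
          rw [hy, mul_smul, mul_smul, smul_inv_smul, smul_smul x w, ← hwx, mul_smul, hxup]) with h | h
    · exact hwup.1 (by rw [← smul_inv_smul g (w • u • p), h, hga])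
    · exact hwup.2 (by rw [← smul_inv_smul g (w • u • p), h, hgt])

end CfsgLib.RankOne
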