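import Cfsg.Agent.Lib.RankOne.UnitaryAut

/-!
# An automorphism whose square is trivial modulo the centre fixes the centre

For the Sylow 2-subgroup of `SU(3,q)`, `q` even.
-/

set_option autoImplicit false
set_option linter.unusedSectionVars false

namespace CfsgLib.RankOne.UnitarySylow

open CfsgLib.Classical

variable {F : Type*} [Field F] [Fintype F] {σ : F →+* F} [CharP F 2] [hσ : Fact (IsConjugation σ)]
  {q : ℕ} [hq : Fact (Fintype.card F = q ^ 2 ∧ ∀ x, σ x = x ^ q)]

include hq in
/-- An involutory field automorphism fixes the field of order `q`. -/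
theorem fixed_of_invol (τ : F ≃+* F) (hτ : ∀ x, τ (τ x) = x) {x : F} (hx : σ x = x) : τ x = x := by
  classical
  by_cases hall : ∀ y, τ y = y
  · exact hall x
  obtain ⟨ω, hω⟩ := not_forall.1 hall
  let K : Subfield F := (τ : F →+* F).eqLocusField (RingHom.id F)
  have hK : ∀ y, y ∈ K ↔ τ y = y := fun y => Iff.rfl
  have hd : ω - τ ω ≠ 0 := sub_ne_zero.2 (Ne.symm hω)
  have hb : ∀ y, τ ((y - τ y) / (ω - τ ω)) = (y - τ y) / (ω - τ ω) := fun y => by
    rw [map_div₀, map_sub, map_sub, hτ, hτ, ← neg_sub y, ← neg_sub ω, neg_div_neg_eq]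
  have ha : ∀ y, τ (y - (y - τ y) / (ω - τ ω) * ω) = y - (y - τ y) / (ω - τ ω) * ω := fun y => by
    rw [map_sub, map_mul, hb]
    field_simp
    ring
  have hcard : Nat.card K * Nat.card K = q ^ 2 := by
    rw [← hq.out.1, ← Nat.card_eq_fintype_card, ← Nat.card_prod]
    refine Nat.card_congr
      { toFun := fun p => (p.1 : F) + (p.2 : F) * ω
        invFun := fun y => (⟨_, (hK _).2 (ha y)⟩, ⟨_, (hK _).2 (hb y)⟩)
        left_inv := fun p => ?_
        right_inv := fun y => by simp }
    have h1 := (hK _).1 p.1.2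
    have h2 := (hK _).1 p.2.2
    have e : ((p.1 : F) + (p.2 : F) * ω - τ ((p.1 : F) + (p.2 : F) * ω)) / (ω - τ ω) = (p.2 : F) := by
      rw [map_add, map_mul, h1, h2, div_eq_iff hd]; ring
    refine Prod.ext (Subtype.ext ?_) (Subtype.ext e)
    show (p.1 : F) + (p.2 : F) * ω - _ / _ * ω = _
    rw [e]; ring
  have hKq : Nat.card K = q := by
    rw [← pow_two] at hcard
    exact Nat.pow_left_injective two_ne_zero hcard
  let emb : K → {y : F // σ y = y} := fun y => ⟨y, by
    haveI : Fintype K := Fintype.ofFinite K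
    have h := FiniteField.pow_card (K := K) y
    rw [← Nat.card_eq_fintype_card, hKq] at h
    rw [hq.out.2]
    exact_mod_cast congrArg Subtype.val h⟩
  have hbij : Function.Bijective emb := by
    refine (Nat.bijective_iff_injective_and_card emb).2 ⟨fun y z h => Subtype.ext ?_, ?_⟩
    · exact congrArg (fun w : {y : F // σ y = y} => (w : F)) h
    · rw [hKq, card_fix (σ := σ) (q := q)]
  obtain ⟨y, hy⟩ := hbij.2 ⟨x, hx⟩
  rw [← show (y : F) = x from congrArg Subtype.val hy]
  exact (hK _).1 y.2

include hq in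
/-- An automorphism whose square is trivial modulo the centre is trivial on the centre. -/
theorem center_fixed (φ : MulAut (Heis σ)) (h2 : ∀ g : Heis σ, (φ (φ g)).c = g.c) {z : Heis σ}
    (hz : z ∈ Subgroup.center (Heis σ)) : φ z = z := by
  obtain ⟨⟨f, u, τ⟩, rfl⟩ := (decompose (σ := σ) (q := q)).2 φ
  have hb : ∀ g : Heis σ, g.c = 0 →
      ((centAut f * simAut (σ := σ) (q := q) u τ) g).b = (u : F) * σ u * τ g.b := by
    intro g hg
    show (u : F) * σ u * τ g.b + (f ((u : F) * τ g.c) : F) = _
    rw [hg, map_zero, mul_zero, map_zero, ZeroMemClass.coe_zero, add_zero]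
  have hcc : ∀ c, (u : F) * τ ((u : F) * τ c) = c := fun c => by
    obtain ⟨g, rfl⟩ := exists_elt (σ := σ) c
    exact h2 g
  have hu : (u : F) * τ (u : F) = 1 := by simpa using hcc 1
  have hττ : ∀ c, τ (τ c) = c := fun c => by
    have h := hcc c
    rwa [map_mul, ← mul_assoc, hu, one_mul] at h
  have hfix : ∀ x, σ x = x → τ x = x := fun x hx => fixed_of_invol (σ := σ) (q := q) τ hττ hx
  have hN : (u : F) * σ u = 1 := by
    have hτN : τ ((u : F) * σ u) = (u : F) * σ u := hfix _ (hσ.out.norm_fixed _)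
    have h := congrArg σ hu
    rw [map_mul, comm_frob (σ := σ) (q := q), map_one] at h
    have hsq : ((u : F) * σ u) * ((u : F) * σ u) = 1 := by
      conv_lhs => arg 2; rw [← hτN, map_mul]
      linear_combination (σ (u : F) * τ (σ (u : F))) * hu + h
    exact (CharTwo.add_eq_zero (a := (u : F) * σ u) (b := 1)).1 (by
      refine mul_self_eq_zero.1 ?_
      linear_combination hsq + ((u : F) * σ u + 1) * two0 (F := F))
  rw [mem_center_iff] at hz
  refine Heis.ext ((center_c _ hz).trans hz.symm) ?_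
  rw [hb z hz, hN, one_mul, hfix _ (fixed_of_c_eq_zero hz)]

end CfsgLib.RankOne.UnitarySylow
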